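import Cfsg.Agent.H14.CBSpec

/-! # Tower CB (S1308): the partner lemma, part 3 -/

set_option autoImplicit false

namespace H35.CbPar3

open Cfsg Subgroup MulAction H14 H98 H1.Gold H31.S2 H14.GC H14.FE H14.NF H14.CB
open scoped commutatorElement

universe u

theorem jobX : JPar3.{u} := by
  intro jc G _ _ Q E tg Q₁ T P S C Qa Ta pr ca ⟨x, hx, hxE⟩ hh
  obtain ⟨cS, -, -, hn⟩ := jc G Q E tg Q₁ T P S pr.ln pr.sec
  have col := pr.ln.col
  have pg := pr.ln.pg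
  obtain ⟨g, hQ, hT⟩ := col.p2
  have elT : ∀ t ∈ T, t * t = 1 := fun t ht => by
    rw [hT, mem_cj] at ht
    have := tg.el _ ht
    have e : t * t = g * (g⁻¹ * t * g * (g⁻¹ * t * g)) * g⁻¹ := by group
    rw [e, this]; group
  have TE' : ∀ t ∈ T, ∀ r ∈ E, r * t = t * r := fun t ht r hr =>
    mem_centralizer_iff.1 (col.comm ht) r hr
  have PE : ∀ y ∈ P, ∀ r ∈ E, r * y = y * r := fun y hy r hr =>
    mem_centralizer_iff.1 (pg.le hy).2 r hr
  have EP : E ≤ P := pg.lt.le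
  have TP : ∀ t ∈ T, t ∈ P → t = 1 := fun t ht hp => by
    by_contra h1
    have hE : t ∈ E := by_contra fun k => pg.sq t hp k (elT t ht)
    refine tg.ti 1 g (by rw [cj_one, ← hQ]; exact col.ne) t ⟨?_, ?_⟩ ⟨h1, elT t ht⟩
    · rw [cj_one]; exact tg.le hE
    · exact cj_mono g tg.le (hT ▸ ht)
  have TnP : T ≤ nor P := fun t ht => mem_normalizer_fintype fun y hy => by
    have e : t * y * t⁻¹ = ⁅t, y⁆ * y := by rw [commutatorElement_def]; group
    rw [e]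
    exact P.mul_mem (EP (pg.cm t ht y hy)) hy
  have sqr : ∀ y ∈ P, ∀ r ∈ E, r * y * (r * y) = y * y := fun y hy r hr => by
    rw [mul_assoc, ← mul_assoc y, ← PE y hy r hr, mul_assoc, ← mul_assoc r r, tg.el r hr, one_mul]
  let F : G → G → Prop := fun w s => ∃ t ∈ T, ∃ y ∈ P, w = t * y ∧ y * y = s
  have uq : ∀ w s s', F w s → F w s' → s = s' := by
    rintro w s s' ⟨t, ht, y, hy, e, rfl⟩ ⟨t', ht', y', hy', e', rfl⟩
    have e1 : t'⁻¹ * t = y' * y⁻¹ := by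
      rw [inv_mul_eq_iff_eq_mul, ← mul_assoc, ← e', e, mul_inv_cancel_right]
    have e2 := TP _ (T.mul_mem (T.inv_mem ht') ht) (e1 ▸ P.mul_mem hy' (P.inv_mem hy))
    rw [e1, mul_inv_eq_one] at e2
    rw [e2]
  have mr : ∀ w s, F w s → ∀ r ∈ E, F (w * r) s := by
    rintro w s ⟨t, ht, y, hy, rfl, rfl⟩ r hr
    exact ⟨t, ht, r * y, P.mul_mem (EP hr) hy, by rw [mul_assoc, PE y hy r hr], sqr y hy r hr⟩
  obtain ⟨t, ht, y, hy, exy⟩ := (mem_sup_left_norm TnP).1 (sup_comm P T ▸ pr.sec.le hx.2)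
  have yE : y ∉ E := fun k => hxE (pr.sec.inf ⟨hx.2, by
    rw [exy]; exact mul_mem (mem_sup_right ht) (mem_sup_left k)⟩)
  have yy : y * y ∈ E := by
    have e1 := pr.sec.el x hx.2
    have e2 : t⁻¹ = t := inv_eq_of_mul_eq_one_left (elT t ht)
    have e3 : ⁅t, y⁆ * (y * y) = 1 := by
      rw [← e1, exy, commutatorElement_def, e2]; group
    rw [eq_inv_of_mul_eq_one_right e3]
    exact E.inv_mem (pg.cm t ht y hy)
  have ex : ∀ s : E, ∃ w ∈ (E ⊔ Ta) ⊓ S, F w s := fun s => by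
    by_cases h1 : (s : G) = 1
    · exact ⟨1, one_mem _, 1, one_mem _, 1, one_mem _, by simp, by simp [h1]⟩
    obtain ⟨h, hm, he⟩ := pr.tr _ yy s s.2 (pg.sq y hy yE) h1
    obtain ⟨n1, n2, -, -⟩ := hn h hm.1
    refine ⟨h * x * h⁻¹, ⟨?_, conj_mem_of_mem_normalizer n1 hx.2⟩, ?_⟩
    · have k : cj h (E ⊔ Ta) ≤ E ⊔ Ta := by
        rw [cj_sup, cj_eq_self n2]
        exact sup_le le_sup_left (hh h hm)
      exact k (conj_mem_cj hx.1)
    · obtain ⟨r, hr, t', ht', e⟩ := (mem_sup_right_norm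
        (col.comm.trans (centralizer_le_normalizer _))).1
        (conj_mem_of_mem_normalizer hm.1.2 (mem_sup_right ht))
      have y' := conj_mem_of_mem_normalizer hm.1.1 hy
      refine ⟨t', ht', r * (h * y * h⁻¹), P.mul_mem (EP hr) y', ?_, ?_⟩
      · rw [← mul_assoc, ← TE' t' ht' r hr, ← e, exy]; group
      · rw [sqr _ y' r hr, ← he]; group
  choose w hw hF using ex
  have EW : E ≤ (E ⊔ Ta) ⊓ S := le_inf le_sup_left pr.sec.lE
  have c1 : Nat.card E * Nat.card E ≤ Nat.card ↥((E ⊔ Ta) ⊓ S) := by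
    rw [← Nat.card_prod]
    refine Nat.card_le_card_of_injective
      (fun a : E × E => (⟨w a.1 * a.2, mul_mem (hw a.1) (EW a.2.2)⟩ : ↥((E ⊔ Ta) ⊓ S))) ?_
    rintro ⟨s, r⟩ ⟨s', r'⟩ e
    have e1 : w s * r = w s' * r' := congrArg Subtype.val e
    have e2 : s = s' := Subtype.ext (uq _ _ _ (mr _ _ (hF s) r r.2) (e1 ▸ mr _ _ (hF s') r' r'.2))
    subst e2
    rw [Subtype.ext (mul_left_cancel e1 : (r : G) = r')]
  have c2 : Nat.card ↥(E ⊔ Ta) ≤ Nat.card E * Nat.card E := by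
    obtain ⟨g', -, hT'⟩ := ca.p2
    have e : Nat.card E * Nat.card E = Nat.card (E × Ta) := by rw [Nat.card_prod, hT', card_cj]
    rw [e]
    refine Nat.card_le_card_of_surjective (fun a : E × Ta =>
      (⟨a.1 * a.2, mul_mem (mem_sup_left a.1.2) (mem_sup_right a.2.2)⟩ : ↥(E ⊔ Ta))) fun b => ?_
    obtain ⟨r, hr, a, ha, e⟩ := (mem_sup_right_norm
      (ca.comm.trans (centralizer_le_normalizer _))).1 b.2
    exact ⟨(⟨r, hr⟩, ⟨a, ha⟩), Subtype.ext e.symm⟩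
  exact (eq_of_le_of_card_ge inf_le_left (c2.trans c1)).symm.trans
    (eq_of_le_of_card_ge inf_le_right (cS.trans c1))

end H35.CbPar3
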