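import Cfsg.Agent.H35.TW1
import Cfsg.Agent.H66.ZAff

/-! Tower TW, JobTop. -/

set_option autoImplicit false
set_option linter.unusedSectionVars false

namespace H35.TW

open Cfsg Subgroup H14 H98 H1.Gold H31.S2 H85.TW
open scoped commutatorElement

universe u

variable {G : Type u} [Group G] [Finite G] {F : Type} [Field F] [Finite F] [CharP F 2]
  {t : G} {V W : Subgroup G} {ι : F → G} {k : ℕ} {c : G → F} (h : Hy t V ι)

include h

theorem cand_V : Cand t V ι V where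
  le := le_rfl
  two a := ⟨1, Subtype.ext (by simpa [pow_two] using h.sq a.2)⟩
  comm _ ha _ hb := h.comm ha hb
  inv w hw := by
    rw [mem_cen_iff.1 h.cen w hw, mul_inv_cancel_right, inv_eq_of_mul_eq_one_right (h.sq hw)]
  notMem ht := h.notD t ht (IsConj.refl t)
  sc l hl := by
    obtain ⟨g, g1, g2⟩ := h.scal l hl
    refine ⟨g, mem_normalizer_fintype fun v hv => ?_, g1, g2⟩
    obtain ⟨x, rfl⟩ := (h.mem v).1 hv
    exact g2 x ▸ h.ι_mem _

theorem Cand.tw (w : Cand t V ι W) : ∃ k c, Tw t V ι W k c := by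
  classical
  have om : ∀ a ∈ W, a * a = 1 → a ∈ V := fun a ha e => by
    refine (h.syl t (IsConj.refl t) h.cen a (mem_cen_iff.2 fun v hv => w.comm a ha v (w.le hv))
      ?_ (e2_of_mem w.two ha)).resolve_right fun e' =>
        w.notMem ((mul_mem_cancel_right ha).1 (w.le e'))
    rw [mul_inv_eq_iff_eq_mul.1 (w.inv a ha), inv_eq_of_mul_eq_one_right e]
  have ex : ∃ k, ∀ a ∈ W, a ^ 2 ^ (k + 1) = 1 := by
    obtain ⟨n, hn⟩ := IsPGroup.iff_card.1 w.two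
    exact ⟨n, fun a ha => by
      rw [pow_succ, pow_mul, ← hn, show a ^ Nat.card W = 1 from
        congrArg Subtype.val (pow_card_eq_one' (x := (⟨a, ha⟩ : W))), one_pow]⟩
  have hk := Nat.find_spec ex
  have hk' := fun m => Nat.find_min ex (m := m)
  generalize Nat.find ex = k at hk hk'
  have pV : ∀ a ∈ W, a ^ 2 ^ k ∈ V := fun a ha =>
    om _ (pow_mem ha _) (by rw [← pow_add, ← two_mul, ← pow_succ', hk a ha])
  have pw : ∀ a ∈ W, ι (Function.invFun ι (a ^ 2 ^ k)) = a ^ 2 ^ k := fun a ha =>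
    Function.invFun_eq ((h.mem _).1 (pV a ha))
  have sj : ∀ x, ∃ a ∈ W, a ^ 2 ^ k = ι x := fun x => by
    obtain ⟨a, ha, a1⟩ : ∃ a ∈ W, a ^ 2 ^ k ≠ 1 := by
      rcases k with _ | k
      · exact ⟨ι 1, w.le (h.ι_mem 1), by simp [h.eq_one]⟩
      · simpa using hk' k (Nat.lt_succ_self k)
    obtain ⟨y, hy⟩ := (h.mem _).1 (pV a ha)
    have y0 : y ≠ 0 := fun e => a1 (by rw [← hy, e, h.zero])
    rcases eq_or_ne x 0 with rfl | hx
    · exact ⟨1, one_mem _, by rw [one_pow, h.zero]⟩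
    obtain ⟨g, g1, -, g2⟩ := w.sc (x / y) (div_ne_zero hx y0)
    exact ⟨_, (mem_normalizer_iff.1 g1 a).1 ha, by rw [conj_pow, ← hy, g2, div_mul_cancel₀ _ y0]⟩
  refine ⟨k, fun a => Function.invFun ι (a ^ 2 ^ k), w.le, w.two, w.comm, w.inv, w.notMem, om, pw,
    fun x => ?_, fun a ha e => ?_⟩
  · obtain ⟨a, ha, e⟩ := sj x
    exact ⟨a, ha, h.inj ((pw a ha).trans e)⟩
  let : CommGroup W := { (inferInstance : Group W) with
    mul_comm := fun a b => Subtype.ext (w.comm a a.2 b b.2) }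
  have e1 : (powMonoidHom (2 ^ k) : W →* W).range = (powMonoidHom 2 : W →* W).ker := by
    ext b
    constructor
    · rintro ⟨a, rfl⟩
      exact Subtype.ext (by simpa [← pow_mul, ← pow_succ] using hk a a.2)
    · intro hb
      obtain ⟨x, hx⟩ := (h.mem _).1 (om b b.2 (by simpa [pow_two] using congrArg Subtype.val hb))
      obtain ⟨a, ha, e⟩ := sj x
      exact ⟨⟨a, ha⟩, Subtype.ext (e.trans hx)⟩
  have e2 : (powMonoidHom 2 : W →* W).range = (powMonoidHom (2 ^ k) : W →* W).ker := by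
    refine eq_of_le_of_card_ge ?_ ?_
    · rintro _ ⟨a, rfl⟩
      exact Subtype.ext (by simpa [← pow_mul, ← pow_succ'] using hk a a.2)
    · have c1 := (powMonoidHom (2 ^ k) : W →* W).ker.card_mul_index
      have c2 := (powMonoidHom 2 : W →* W).ker.card_mul_index
      rw [index_ker] at c1 c2
      rw [e1, ← c2, mul_comm] at c1
      exact (Nat.eq_of_mul_eq_mul_left Nat.card_pos c1).le
  obtain ⟨u, hu⟩ : (⟨a, ha⟩ : W) ∈ (powMonoidHom 2 : W →* W).range :=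
    e2 ▸ Subtype.ext (by simpa using (pw a ha).symm.trans (h.eq_one.2 e))
  exact ⟨u, u.2, by simpa [pow_two] using (congrArg Subtype.val hu).symm⟩

variable (w : Tw t V ι W k c)

include w

theorem Q_two : IsPGroup 2 (W ⊔ zpowers t : Subgroup G) :=
  IsPGroup.to_sup_of_normal_left' w.two (isPGroup_zpowers (k := 1) (by rw [pow_one, pow_two, h.tt]))
    (zpowers_le.2 w.t_nor)

theorem Q_le : W ⊔ zpowers t ≤ NN t W h.tt ⊓ cen V :=
  sup_le (fun _ ha => ⟨w.mem_NN h.tt ha, w.le_cen ha⟩)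
    (zpowers_le.2 ⟨⟨w.t_nor, dl_of_comm h.tt rfl ▸ one_mem _⟩, h.cen⟩)

theorem top_Q (H : ∀ g ∈ NN t W h.tt, c (dl t g) = 0) : Top t V ι W k c W (W ⊔ zpowers t) where
  toTw := w
  WY := le_rfl
  YP := le_sup_left
  tP := mem_sup_right (mem_zpowers t)
  tY := w.notMem
  idx _ := (w.mem_Q h.tt).1
  twoP := Q_two h w
  cenV := (Q_le h w).trans inf_le_right
  nrm _ hg := w.nor_Q h hg
  cls s hs e := ((w.mem_Q h.tt).1 hs).resolve_left fun hw => h.notD s (w.om s hw (by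
    obtain ⟨g, rfl⟩ := isConj_iff.1 e
    rw [conj_mul, h.tt, mul_one, mul_inv_cancel])) e
  orb g hg := by
    obtain ⟨u, hu, e⟩ := w.stab h.toCo h.tt (w.nor_Q h hg).2 (H g (w.nor_Q h hg))
    refine ⟨u⁻¹, mem_sup_left (inv_mem hu), ?_⟩
    calc _ = u⁻¹ * (u * g * t) * g⁻¹ := by group
      _ = _ := by rw [e]; group
  sq p hp := by
    rcases (w.mem_Q h.tt).1 hp with e | e
    · exact mul_mem e e
    · have := w.sq_t h.tt e
      rw [← mul_assoc t t, h.tt, one_mul] at this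
      exact this ▸ one_mem _
  invY _ hy _ := hy
  kerY _ hy _ := hy
  alt := Or.inl rfl
  ab _ := w.comm
  el _ _ hy hy' := absurd hy hy'

theorem exists_mid (tr : ∀ x, ∃ g ∈ NN t W h.tt ⊓ cen V, c (dl t g) = x)
    (hw : Maximal (Cand t V ι) W) : ∃ Y P, Mid t V ι W k c Y P := by
  obtain ⟨P, hP, QP⟩ := exists_isSyl_le (Q_two h w) (Q_le h w)
  have WP : W ≤ P := le_sup_left.trans QP
  have tP : t ∈ P := QP (mem_sup_right (mem_zpowers t))
  have dm : ∀ a ∈ NN t W h.tt ⊓ cen V, ∀ b ∈ NN t W h.tt,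
      c (dl t (a * b)) = c (dl t a) + c (dl t b) := fun a ha b hb => by
    rw [w.c_dl_mul h.toCo h.tt ha.1 hb, h.lin_cen ha.2]
  have dP : ∀ a ∈ P, ∀ b ∈ P, c (dl t (a * b)) = c (dl t a) + c (dl t b) := fun a ha b hb =>
    dm a (hP.le ha) b (hP.le hb).1
  have dC : ∀ a, a * t = t * a → c (dl t a) = 0 := fun a e => by
    rw [dl_of_comm h.tt e, w.c_one h.toCo]
  have dW : ∀ a ∈ W, c (dl t a) = 0 := fun a ha => by
    rw [w.dl_W h.tt ha, w.c_sq h.toCo (inv_mem ha)]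
  have dI : ∀ a ∈ P, c (dl t a⁻¹) = c (dl t a) := fun a ha => CharTwo.add_eq_zero.1 (by
    rw [← dP _ (inv_mem ha) _ ha, inv_mul_cancel, dW _ (one_mem _)])
  have onto : ∀ x, ∃ p ∈ P, c (dl t p) = x := fun x => by
    let D : ↥(NN t W h.tt ⊓ cen V) →* Multiplicative F :=
      MonoidHom.mk' (fun a => Multiplicative.ofAdd (c (dl t a))) fun a b => dm _ a.2 _ b.2.1
    have e := (hP.subgroupOf_top.map D).eq_of_isPGroup fun a =>
      ⟨1, Subtype.ext (by rw [pow_one, pow_two]; exact CharTwo.add_self_eq_zero (R := F) _)⟩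
    obtain ⟨g, hg, rfl⟩ := tr x
    obtain ⟨p, p1, p2⟩ := e.ge ⟨⟨g, hg⟩, mem_top _, rfl⟩
    exact ⟨p, p1, p2⟩
  have kerP : ∀ p ∈ P, c (dl t p) = 0 → p ∈ W ∨ t * p ∈ W := fun p hp e => by
    obtain ⟨u, hu, e'⟩ := w.stab h.toCo h.tt (hP.le hp).1.2 e
    have h1 := mul_mem (WP hu) hp
    refine (h.syl t (IsConj.refl t) h.cen _ (hP.le h1).2 e' (e2_of_mem hP.isPGroup h1)).imp
      (fun e => (mul_mem_cancel_left hu).1 (w.le e)) fun e => ?_
    have := mul_mem hu (w.le e)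
    rwa [← mul_assoc t, mul_inv_eq_iff_eq_mul.1 (w.inv u hu), mul_assoc u⁻¹,
      mul_inv_cancel_left] at this
  have tD : ∀ a ∈ W, IsConj t (t * a) := fun a ha => by
    obtain ⟨g, hg, e⟩ := tr (c a)
    obtain ⟨u, -, e'⟩ := w.conj_of_c h.toCo h.tt hg.1.2 ha e
    exact (isConj_iff.2 ⟨g, conj_t_eq h.tt g⟩).trans (isConj_iff.2 ⟨u, e'⟩)
  have sq : ∀ p ∈ P, p * p ∈ W := fun p hp => (kerP _ (mul_mem hp hp) (by
      rw [dP p hp p hp, CharTwo.add_self_eq_zero])).resolve_right fun e => by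
    obtain ⟨g, hg⟩ := isConj_iff.1 (tD _ e).symm
    exact h.nsq (g * p * g⁻¹) (by rw [conj_mul, ← hg, ← mul_assoc t t, h.tt, one_mul])
  obtain ⟨ω, hω⟩ := IsCyclic.exists_generator (α := Fˣ)
  have pw : ∀ l : F, l ≠ 0 → ∃ i : ℕ, (ω : F) ^ i = l := fun l hl => by
    obtain ⟨i, hi⟩ := (mem_powers_iff_mem_zpowers).2 (hω (Units.mk0 l hl))
    exact ⟨i, by simpa using congrArg Units.val hi⟩
  have ω1 : (1 : F) + ω ≠ 0 := fun e => by
    obtain ⟨x, x0, x1⟩ := exists_third h.four 0 1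
    obtain ⟨i, rfl⟩ := pw x x0
    exact x1 (by rw [← CharTwo.add_eq_zero.1 e, one_pow])
  obtain ⟨g, gP, gW, gt, gι⟩ : ∃ g ∈ nor P, g ∈ nor W ∧ g * t = t * g ∧
      ∀ x, g * ι x * g⁻¹ = ι (ω * x) := by
    obtain ⟨g, g1, g2, g3⟩ := hw.1.sc ω ω.ne_zero
    have gN : g ∈ NN t W h.tt := ⟨g1, dl_of_comm h.tt g2 ▸ one_mem _⟩
    obtain ⟨a, ha, n, hn, e⟩ := hP.frattini_mem (g := g) (mem_normalizer_fintype fun a ha =>
      mem_inf.2 ⟨mul_mem (mul_mem gN (mem_inf.1 ha).1) (inv_mem gN), mem_cen_iff.2 fun v hv => by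
        have := mem_cen_iff.1 ha.2 _ ((mem_normalizer_iff''.1 (w.nor_le h.toCo g1) v).1 hv)
        calc _ = g * (a * (g⁻¹ * v * g)) * g⁻¹ := by group
          _ = _ := by rw [this]; group⟩)
    have aN : a ∈ NN t W h.tt := (mul_mem_cancel_right (mem_inf.1 hn).1).1 (e ▸ gN)
    obtain ⟨p, hp, e1⟩ := onto (c (dl t a))
    have h1 := mul_mem (hP.le hp).1 aN
    obtain ⟨u, hu, e2⟩ := w.stab h.toCo h.tt h1.2 (by
      rw [dm p (hP.le hp) a aN, e1, CharTwo.add_self_eq_zero])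
    refine ⟨u * (p * a), mul_mem (le_normalizer (WP hu)) (mul_mem (le_normalizer hp) ha),
      mul_mem (le_normalizer hu) h1.1, e2, fun x => ?_⟩
    have e3 := g3 x
    rw [e, mul_assoc a n, mem_cen_iff.1 hn.2 _ (h.ι_mem x)] at e3
    have e4 := mem_cen_iff.1 (hP.le (mul_mem (WP hu) hp)).2 _ (h.ι_mem (ω * x))
    calc _ = u * p * (a * (ι x * n) * (a * n)⁻¹) * (u * p)⁻¹ := by group
      _ = _ := by rw [e3, e4, mul_inv_cancel_right]
  have gp : ∀ {r : G}, r ∈ P → g * r * g⁻¹ ∈ P := fun hr => (mem_normalizer_iff.1 gP _).1 hr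
  have ap : ∀ {r : G}, r ∈ P → r⁻¹ * (g * r * g⁻¹) ∈ P := fun hr => mul_mem (inv_mem hr) (gp hr)
  have yp : ∀ {r y : G}, r ∈ P → (r⁻¹ * (g * r * g⁻¹))⁻¹ * y ∈ W → y ∈ P := fun hr e =>
    (mul_mem_cancel_left (inv_mem (ap hr))).1 (WP e)
  have cw : ∀ {r a : G}, r ∈ nor W → a ∈ W → r * a * r⁻¹ ∈ W := fun hr ha =>
    (mem_normalizer_iff.1 hr _).1 ha
  let Y : Subgroup G :=
    { carrier := {y | ∃ r ∈ P, (r⁻¹ * (g * r * g⁻¹))⁻¹ * y ∈ W}
      one_mem' := ⟨1, one_mem _, by simp⟩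
      mul_mem' := by
        rintro y y' ⟨r, hr, e⟩ ⟨s, hs, e'⟩
        refine ⟨r * s, mul_mem hr hs, ?_⟩
        have := mul_mem (cw (hP.le (inv_mem (gp hs))).1.1 (mul_mem
          (comm_mem_of_sq sq (inv_mem (ap hr)) hs) (cw (hP.le hs).1.1 e))) e'
        convert this using 1
        simp only [commutatorElement_def]; group
      inv_mem' := by
        rintro y ⟨r, hr, e⟩
        refine ⟨r, hr, ?_⟩
        convert mul_mem e (sq _ (inv_mem (yp hr e))) using 1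
        group }
  have dA : ∀ r ∈ P, c (dl t (r⁻¹ * (g * r * g⁻¹))) = (1 + ω) * c (dl t r) := fun r hr => by
    rw [dP _ (inv_mem hr) _ (gp hr), dI r hr, dl_conj gt, w.c_conj h.toCo gW (hP.le hr).1.2,
      h.lin_eq (gι _), add_mul, one_mul]
  have WY : W ≤ Y := fun a ha => ⟨1, one_mem _, by simpa using ha⟩
  have YP : Y ≤ P := fun y ⟨r, hr, e⟩ => yp hr e
  have kerY : ∀ y ∈ Y, c (dl t y) = 0 → y ∈ W := fun y ⟨r, hr, e⟩ e' => by
    have e1 := dW _ e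
    rw [dP _ (inv_mem (ap hr)) _ (yp hr e), e', add_zero, dI _ (ap hr), dA r hr] at e1
    refine (mul_mem_cancel_left (inv_mem ?_)).1 e
    rcases kerP r hr ((mul_eq_zero.1 e1).resolve_left ω1) with e2 | e2
    · exact mul_mem (inv_mem e2) (cw gW e2)
    · convert mul_mem (inv_mem e2) (cw gW e2) using 1
      rw [← mul_assoc g, gt]; group
  have ontoY : ∀ x, ∃ y ∈ Y, c (dl t y) = x := fun x => by
    obtain ⟨r, hr, e⟩ := onto (x / (1 + ω))
    exact ⟨_, ⟨r, hr, by rw [inv_mul_cancel]; exact one_mem _⟩, by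
      rw [dA r hr, e, mul_div_cancel₀ _ ω1]⟩
  have gY : g ∈ nor Y := mem_normalizer_fintype fun y ⟨r, hr, e⟩ => ⟨_, gp hr, by
    convert cw gW e using 1
    simp [mul_assoc]⟩
  refine ⟨Y, P, w, WY, YP, tP, fun ht => w.notMem (kerY t ht (dC t rfl)), fun p hp => ?_,
    hP.isPGroup, hP.le.trans inf_le_right, fun p hp => (hP.le hp).1, sq, kerY, ontoY, tD,
    fun l hl => ?_, fun W' h1 h2 => hw.2 h1 h2⟩
  · obtain ⟨y, hy, e⟩ := ontoY (c (dl t p))
    exact (kerP _ (mul_mem hp (YP hy)) (by rw [dP p hp y (YP hy), e, CharTwo.add_self_eq_zero])).imp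
      (fun e => (mul_mem_cancel_right hy).1 (WY e))
      fun e => (mul_mem_cancel_right hy).1 (WY (mul_assoc t p y ▸ e))
  · obtain ⟨i, rfl⟩ := pw l hl
    refine ⟨g ^ i, pow_mem gW i, pow_mem gY i, (Commute.pow_left gt i).eq, ?_⟩
    induction i with
    | zero => simp
    | succ i ih =>
      intro x
      calc _ = g ^ i * (g * ι x * g⁻¹) * (g ^ i)⁻¹ := by rw [pow_succ]; group
        _ = _ := by rw [gι, ih (pow_ne_zero _ ω.ne_zero), pow_succ, mul_assoc]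

omit h w in
/-- TW-1: the tower. -/
theorem jobTop : JobTop.{u} := fun G _ _ F _ _ _ t V ι h => by
  obtain ⟨W, -, hw⟩ := Finite.exists_le_maximal (cand_V h)
  obtain ⟨k, c, w⟩ := hw.1.tw h
  by_cases H : ∀ g ∈ NN t W h.tt, c (dl t g) = 0
  · exact Or.inl ⟨_, _, _, _, _, top_Q h w H⟩
  have sc : ∀ l : F, l ≠ 0 → ∃ g ∈ NN t W h.tt, c (dl t g) = 0 ∧ ∀ x, lin ι g x = l * x :=
    fun l hl => by
      obtain ⟨g, g1, g2, g3⟩ := hw.1.sc l hl
      exact ⟨g, ⟨g1, dl_of_comm h.tt g2 ▸ one_mem _⟩, by rw [dl_of_comm h.tt g2, w.c_one h.toCo],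
        fun x => h.lin_eq (g3 x)⟩
  have tr : ∀ x, ∃ g ∈ NN t W h.tt, c (dl t g) = x := fun x => by
    rcases eq_or_ne x 0 with rfl | hx
    · exact ⟨1, one_mem _, by rw [dl_of_comm h.tt (by simp), w.c_one h.toCo]⟩
    push Not at H
    obtain ⟨g, hg, e⟩ := H
    obtain ⟨a, ha, a1, a2⟩ := sc (x / c (dl t g)) (div_ne_zero hx e)
    exact ⟨a * g, mul_mem ha hg, by
      rw [w.c_dl_mul h.toCo h.tt ha hg, a1, a2, zero_add, div_mul_cancel₀ _ e]⟩
  have l0 : ∀ g, lin ι g 0 = 0 := fun g => h.lin_eq (by simp [h.zero])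
  let := w.act h.toCo h.tt
  have sm : ∀ (g : NN t W h.tt) (x : F), g • x = lin ι g x + c (dl t g) := fun _ _ => rfl
  rcases H66.Aff.jobAff (NN t W h.tt) F h.four (fun g x y => by
      simp only [sm, h.lin_add (w.nor_le h.toCo g.2.1), l0]; ring)
    (fun x => let ⟨g, hg, e⟩ := tr x; ⟨⟨g, hg⟩, by rw [sm, l0, zero_add, e]⟩) (fun g e => by
      rw [sm, l0, zero_add] at e
      obtain ⟨u, hu, e'⟩ := w.stab h.toCo h.tt g.2.2 e
      have h1 := w.nor_le h.toCo (le_normalizer hu)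
      have h2 := w.nor_le h.toCo g.2.1
      obtain ⟨l, σ, e2⟩ := h.semi _ (mul_mem h1 h2) e'
      exact ⟨l, σ, fun x => by
        rw [sm, e, add_zero, ← h.lin_eq (e2 x), h.lin_mul h1 h2, h.lin_cen (w.le_cen hu)]⟩)
    (fun l hl => let ⟨g, hg, e1, e2⟩ := sc l hl; ⟨⟨g, hg⟩, fun x => by rw [sm, e1, e2, add_zero]⟩)
    with hT | ⟨p, p1, p2, p3, nt, -⟩
  · obtain ⟨Y, P, m⟩ := exists_mid h w (fun x => by
      obtain ⟨g, e⟩ := hT x
      have e0 := e 0
      rw [sm, l0, zero_add, zero_add] at e0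
      exact ⟨g, ⟨g.2, h.cen_of_lin (w.nor_le h.toCo g.2.1) fun y => by
        simpa [sm, e0] using e y⟩, e0⟩) hw
    exact Or.inl ⟨_, _, _, _, _, m.top h⟩
  · exact Or.inr ⟨W, k, c, w, fun x => let ⟨g, hg, e⟩ := tr x; ⟨g, hg.1, hg.2, e⟩,
      fun g g1 g2 g3 => nt ⟨g, g1, g2⟩ _ fun x => by rw [sm, h.lin_cen g3], hw.1.sc, p, p1, p2, p3⟩

end H35.TW
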