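import Cfsg.Agent.H85.FZWA

/-! Tower CO3M: more kit for the polycyclic engine `H85.FZEng`: partial actions on words,
consistency tests, new letters, orbits, normal bottom subgroups. -/

set_option autoImplicit false
set_option linter.unusedSectionVars false

namespace H35.CM

open Subgroup H14 H98 H1.Gold H31.S2 H85.FZ

/-- A table from rows: entry `r` of row `s` is the word for `(x s)⁻¹ * x r * x s` (`[]`: they
commute), entry `s` of `q` the square. -/
def tb (n : ℕ) (c : List (List (List ℕ))) (q : List (List ℕ) := []) : Tb where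
  n := n
  cj s r := match (c.getD s []).getD r [] with
    | [] => [r]
    | a :: w => a :: w
  sq s := q.getD s []

/-- A word for the inverse of a letter. -/
def ivL (T : Tb) : ℕ → ℕ → List ℕ
  | 0, r => [r]
  | f + 1, r => r :: (T.sq r).reverse.flatMap (ivL T f)

/-- A word for the inverse of a word. -/
def iv (T : Tb) (w : List ℕ) : List ℕ := w.reverse.flatMap (ivL T T.n)

/-- Partial maps on words. -/
abbrev Fn := List ℕ → Option (List ℕ)

/-- Substitution of `ws r` for the letter `r`. -/
def sb (ws : List (List ℕ)) (w : List ℕ) : List ℕ := w.flatMap fun r => ws.getD r []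

/-- The map with the images `im` of the letters (`[]`: not defined). -/
def oF (T : Tb) (im : List (List ℕ)) : Fn := fun w =>
  if w.all (fun r => !(im.getD r []).isEmpty) then some (T.col (sb im w)) else none

/-- Conjugation by a word. -/
def iF (T : Tb) (p : List ℕ) : Fn := fun w =>
  if p.all (· < T.n) then some (T.col (p ++ w ++ iv T p)) else none

/-- Composition. -/
def Fn.o (φ ψ : Fn) : Fn := fun w => (ψ w).bind φ

@[inherit_doc] scoped infixr:70 " ∘∘ " => Fn.o

/-- `φ u` is defined and has the value of `v`. -/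
def hit (T : Tb) (φ : Fn) (u v : List ℕ) : Bool := (φ u).any (T.same · v)

/-- `φ u` and `ψ v` may have the same value. -/
def agr (T : Tb) (φ ψ : Fn) (u v : List ℕ) : Bool :=
  match φ u, ψ v with
  | some a, some b => T.eqv a b
  | _, _ => true

/-- `φ` may respect the relations of the table. -/
def autB (T : Tb) (φ : Fn) : Bool := (List.range T.n).all fun s =>
  agr T φ φ [s, s] (T.sq s) && (List.range s).all fun r => agr T φ φ [r, s] (s :: T.cj s r)

/-- `φ` acts on the letters `S` like conjugation by `k`. -/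
def lik (T : Tb) (φ : Fn) (k : List ℕ) (S : List ℕ) : Bool :=
  S.all fun r => (φ [r]).any fun w => T.same (w ++ k) (k ++ [r])

/-- The list of words is closed under conjugation by the letters `< k`. -/
def clo (T : Tb) (k : ℕ) (Ω : List (List ℕ)) : Bool :=
  (List.range k).all fun r => Ω.all fun w => Ω.elem (T.col (r :: w ++ iv T [r]))

/-- The letters normalize the subgroup of the letters `< k`. -/
def nrm (T : Tb) (k : ℕ) : Bool :=
  (List.range T.n).all fun s => s < k || (List.range k).all fun r => (T.cj s r).all (· < k)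

/-- True if the value of the word lies in the subgroup of the letters `< k`. -/
def low (T : Tb) (k : ℕ) (w : List ℕ) : Bool := (T.col w).all (· < k) || !Tb.nf T.n (T.col w)

/-- Normal words in the letters `k, …, k + j - 1`. -/
def ups (k : ℕ) : ℕ → List (List ℕ)
  | 0 => [[]]
  | j + 1 => ups k j ++ (ups k j).map ((k + j) :: ·)

/-- The relations of `T'` hold in `T` after the substitution `ws`. -/
def rels (T T' : Tb) (ws : List (List ℕ)) (n : ℕ) : Bool := (List.range n).all fun s =>
  T.same (sb ws [s, s]) (sb ws (T'.sq s)) &&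
    (List.range s).all fun r => T.same (sb ws [r, s]) (sb ws (s :: T'.cj s r))

universe u
variable {G : Type u} [Group G] {T T' : Tb} {x : ℕ → G} {γ γ' g h : G} {φ ψ : Fn} {l l' : List G}
  {im im' : List (List ℕ)}

theorem wf_sq (wf : T.wf = true) {s : ℕ} (hs : s < T.n) : ∀ r ∈ T.sq s, r < s := by
  simp only [Tb.wf, List.all_eq_true, List.mem_range, Bool.and_eq_true, decide_eq_true_eq] at wf
  exact (wf s hs).1

theorem wf_cj (wf : T.wf = true) {s r : ℕ} (hs : s < T.n) (hr : r < s) : ∀ q ∈ T.cj s r, q < s := by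
  simp only [Tb.wf, List.all_eq_true, List.mem_range, Bool.and_eq_true, decide_eq_true_eq] at wf
  exact (wf s hs).2 r hr

theorem W_flat_rev {f : ℕ → List ℕ} {w : List ℕ} (h : ∀ r ∈ w, W x (f r) = (x r)⁻¹) :
    W x (w.reverse.flatMap f) = (W x w)⁻¹ := by
  induction w with
  | nil => simp
  | cons r w ih =>
    rw [List.reverse_cons, List.flatMap_append, W_append, ih fun s hs => h s (List.mem_cons_of_mem _ hs),
      W_cons, mul_inv_rev]
    simp [h r List.mem_cons_self]

theorem W_ivL (P : Pres T x) (wf : T.wf = true) (f : ℕ) :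
    ∀ r < T.n, r < f → W x (ivL T f r) = (x r)⁻¹ := by
  induction f with
  | zero => intro r _ h; omega
  | succ f ih =>
    intro r hr hf
    rw [ivL, W_cons, W_flat_rev fun s hs => ih s ((wf_sq wf hr s hs).trans hr) (by
      have := wf_sq wf hr s hs; omega), ← P.sq r hr]
    group

theorem W_iv (P : Pres T x) (wf : T.wf = true) {w : List ℕ} (hw : w.all (· < T.n) = true) :
    W x (iv T w) = (W x w)⁻¹ :=
  W_flat_rev fun r hr => by
    have : r < T.n := by simpa using List.all_eq_true.1 hw r hr
    exact W_ivL P wf _ r this this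

theorem W_sb {x' : ℕ → G} {ws : List (List ℕ)} {w : List ℕ}
    (e : ∀ r ∈ w, x' r = W x (ws.getD r [])) : W x (sb ws w) = W x' w := by
  induction w with
  | nil => rfl
  | cons r w ih =>
    rw [W_cons, ← ih fun s hs => e s (List.mem_cons_of_mem _ hs), e r List.mem_cons_self, ← W_append]
    simp [sb]

/-- Conjugation by `γ` is computed by `φ`. -/
def Does (x : ℕ → G) (γ : G) (φ : Fn) : Prop :=
  ∀ w w', φ w = some w' → γ * W x w * γ⁻¹ = W x w'

/-- The images of the letters under conjugation by `γ`. -/
def Im (x : ℕ → G) (γ : G) (im : List (List ℕ)) : Prop :=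
  ∀ r, im.getD r [] ≠ [] → γ * x r * γ⁻¹ = W x (im.getD r [])

theorem Does.one : Does x 1 some := fun w w' e => by simp [Option.some.inj e]

theorem Does.mul (h : Does x γ φ) (h' : Does x γ' ψ) : Does x (γ * γ') (φ ∘∘ ψ) := fun w w' e => by
  obtain ⟨u, e1, e2⟩ := Option.bind_eq_some_iff.1 e
  rw [← h u w' e2, ← h' w u e1]; group

theorem Does.eq (h : Does x γ φ) (e : γ = γ') : Does x γ' φ := e ▸ h

theorem Im.does (h : Im x γ im) (P : Pres T x) : Does x γ (oF T im) := fun w w' e => by
  rw [oF] at e
  split_ifs at e with k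
  rw [← Option.some.inj e, P.W_col, W_sb (x' := fun r => γ * x r * γ⁻¹) fun r hr =>
    h r (by simpa using List.all_eq_true.1 k r hr)]
  clear e k
  induction w with
  | nil => simp
  | cons r w ih => rw [W_cons, W_cons, ← ih]; group

theorem does_inn (P : Pres T x) (wf : T.wf = true) (p : List ℕ) : Does x (W x p) (iF T p) :=
  fun w w' e => by
    rw [iF] at e
    split_ifs at e with k
    rw [← Option.some.inj e, P.W_col, W_append, W_append, W_iv P wf k]

theorem Does.hit (h : Does x γ φ) (P : Pres T x) {u v : List ℕ} (k : hit T φ u v = true) :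
    γ * W x u * γ⁻¹ = W x v := by
  obtain ⟨w, e1, e2⟩ := (Option.any_eq_true _ _).1 k
  rw [h u w e1, P.W_eq e2]

theorem Does.agr (h : Does x γ φ) (h' : Does x γ' ψ) (P : Pres T x) (I : Ind x T.n) {u v : List ℕ}
    (e : γ * W x u * γ⁻¹ = γ' * W x v * γ'⁻¹) : agr T φ ψ u v = true := by
  rw [CM.agr]
  split
  · rename_i a b e1 e2
    exact P.eqv I (by rw [← h u a e1, ← h' v b e2, e])
  · rfl

theorem Does.autB (h : Does x γ φ) (P : Pres T x) (I : Ind x T.n) : autB T φ = true := by
  simp only [CM.autB, List.all_eq_true, List.mem_range, Bool.and_eq_true]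
  exact fun s hs => ⟨h.agr h P I (by simp [P.sq s hs]), fun r hr => h.agr h P I (by
    simp [P.cj s hs r hr])⟩

theorem Does.lik (h : Does x γ φ) (P : Pres T x) {k S : List ℕ} (c : lik T φ k S = true) :
    ∀ r ∈ S, (W x k)⁻¹ * γ * x r = x r * ((W x k)⁻¹ * γ) := fun r hr => by
  obtain ⟨w, e1, e2⟩ := (Option.any_eq_true _ _).1 (List.all_eq_true.1 c r hr)
  have e3 := h _ _ e1
  have e4 := P.W_eq e2
  simp only [W_append, W_cons, W_nil, mul_one] at e3 e4
  calc (W x k)⁻¹ * γ * x r = (W x k)⁻¹ * (γ * x r * γ⁻¹ * W x k) * (W x k)⁻¹ * γ := by group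
    _ = _ := by rw [e3, e4]; group

/-- Images of letters from a computed action and from special equations. -/
theorem Does.toIm (h : Does x γ φ) (P : Pres T x) (sp : List ℕ)
    (hsp : ∀ r ∈ sp, γ * x r * γ⁻¹ = W x (im.getD r []))
    (c : ((List.range im.length).all fun r =>
      (im.getD r []).isEmpty || sp.elem r || CM.hit T φ [r] (im.getD r [])) = true) : Im x γ im := by
  intro r hr
  have hl : r < im.length := by
    by_contra k
    exact hr (List.getD_eq_default _ _ (by omega))
  have := List.all_eq_true.1 c r (List.mem_range.2 hl)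
  simp only [Bool.or_eq_true, List.isEmpty_iff, List.elem_eq_mem, decide_eq_true_eq] at this
  rcases this with (k | k) | k
  · exact absurd k hr
  · exact hsp r k
  · simpa using h.hit P k

theorem Im.snoc (h : Im (val l) γ im) (y : G)
    (c : (decide (im.length ≤ l.length) && im.all fun w => w.all (· < l.length)) = true) :
    Im (val (l ++ [y])) γ im := fun r hr => by
  rw [Bool.and_eq_true, decide_eq_true_eq] at c
  have hl : r < im.length := by
    by_contra k
    exact hr (List.getD_eq_default _ _ (by omega))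
  have e1 := W_snoc (l := l) y (w := [r]) (by simp; omega)
  rw [W_snoc y (List.all_eq_true.1 c.2 _ (by
    rw [List.getD_eq_getElem _ _ hl]; exact List.getElem_mem hl)), ← h r hr]
  simp only [W_cons, W_nil, mul_one] at e1
  rw [e1]

/-- Images in new letters that are given by the words `ws`. -/
theorem Does.toIm' (h : Does x γ φ) (P : Pres T x) {ws : List (List ℕ)} (e : l' = ws.map (W x))
    (c : ((List.range im.length).all fun r => (im.getD r []).isEmpty ||
      CM.hit T φ (sb ws [r]) (sb ws (im.getD r []))) = true) : Im (val l') γ im := by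
  have e' : ∀ r, val l' r = W x (ws.getD r []) := fun r => by
    rw [e, val, List.getD_eq_getElem?_getD, List.getD_eq_getElem?_getD, List.getElem?_map]
    cases ws[r]? <;> rfl
  intro r hr
  have hl : r < im.length := by
    by_contra k
    exact hr (List.getD_eq_default _ _ (by omega))
  have := List.all_eq_true.1 c r (List.mem_range.2 hl)
  simp only [Bool.or_eq_true, List.isEmpty_iff] at this
  have k := h.hit P (this.resolve_left hr)
  rwa [W_sb fun s _ => e' s, W_sb fun s _ => e' s, W_cons, W_nil, mul_one] at k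

/-- Independent letters with the relations of the table. -/
structure PI (T : Tb) (l : List G) : Prop where
  pres : Pres T (val l)
  ind : Ind (val l) T.n
  wf : T.wf = true
  len : T.n = l.length

theorem pres_of_rels (P : Pres T x) {x' : ℕ → G} {ws : List (List ℕ)} {n : ℕ}
    (e : ∀ r < n, x' r = W x (ws.getD r [])) (wf : T'.wf = true) (hn : n ≤ T'.n)
    (c : rels T T' ws n = true) :
    (∀ s < n, ∀ r < s, x' r * x' s = x' s * W x' (T'.cj s r)) ∧
      ∀ s < n, x' s * x' s = W x' (T'.sq s) := by
  simp only [rels, List.all_eq_true, List.mem_range, Bool.and_eq_true] at c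
  refine ⟨fun s hs r hr => ?_, fun s hs => ?_⟩
  · have := P.W_eq ((c s hs).2 r hr)
    rw [W_sb (x' := x') (by simp only [List.mem_cons, List.not_mem_nil, or_false]
                            rintro q (rfl | rfl) <;> exact e _ (by omega)),
      W_sb (x' := x') fun q hq => e q ((List.mem_cons.1 hq).elim (fun k => k ▸ hs)
        fun k => (wf_cj wf (by omega) hr q k).trans hs)] at this
    simpa using this
  · have := P.W_eq (c s hs).1
    rw [W_sb (x' := x') (by simp only [List.mem_cons, List.not_mem_nil, or_false, or_self]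
                            rintro q rfl; exact e _ hs),
      W_sb (x' := x') fun q hq => e q ((wf_sq wf (by omega) q hq).trans hs)] at this
    simpa using this

namespace PI

variable [Finite G] (P : PI T l)
include P

theorem H_eq : H (val l) T.n = cl l := by rw [H_val, P.len, List.take_length]

theorem mem (k : ℕ) (hk : k ≤ T.n) (hg : g ∈ cl (l.take k)) : ∃ w ∈ subs k, g = W (val l) w :=
  P.pres.mem_cl P.wf k hk hg

theorem mem' (hg : g ∈ cl l) : ∃ w ∈ subs T.n, g = W (val l) w :=
  P.pres.mem P.wf le_rfl (P.H_eq ▸ hg)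

omit [Finite G] P in
theorem _root_.H35.CM.W_mem' (l : List G) (w : List ℕ) : W (val l) w ∈ cl l :=
  W_mem_of fun r _ => by
    by_cases h : r < l.length
    · exact mem_cl (by rw [val, List.getD_eq_getElem _ _ h]; exact List.getElem_mem h)
    · rw [val, List.getD_eq_default _ _ (by omega)]; exact one_mem _

theorem eq {w w' : List ℕ} (c : T.same w w' = true) : W (val l) w = W (val l) w' := P.pres.W_eq c

theorem eqv {w w' : List ℕ} (e : W (val l) w = W (val l) w') : T.eqv w w' = true :=
  P.pres.eqv P.ind e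

theorem ne {w w' : List ℕ} (c : T.eqv w w' = false) : W (val l) w ≠ W (val l) w' :=
  P.pres.ne P.ind c

theorem card : Nat.card (cl l) = 2 ^ T.n := P.H_eq ▸ P.pres.card P.wf le_rfl P.ind

theorem isP : IsPGroup 2 (cl l) := IsPGroup.of_card P.card

theorem inn (p : List ℕ) : Does (val l) (W (val l) p) (iF T p) := does_inn P.pres P.wf p

theorem iv {w : List ℕ} (hw : w.all (· < T.n) = true) : W (val l) (iv T w) = (W (val l) w)⁻¹ :=
  W_iv P.pres P.wf hw

/-- A new top letter. -/
theorem snoc (T' : Tb) (h : Im (val l) g⁻¹ im) (hq : g * g = W (val l) (T'.sq T.n)) (hn : g ∉ cl l)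
    (c : (T'.n == T.n + 1 && T'.wf && rels T T' ((List.range T.n).map fun r => [r]) T.n &&
      (List.range T.n).all fun r => !(im.getD r []).isEmpty &&
        T.same (im.getD r []) (T'.cj T.n r)) = true) : PI T' (l ++ [g]) := by
  simp only [Bool.and_eq_true, beq_iff_eq, List.all_eq_true, List.mem_range, Bool.not_eq_true',
    List.isEmpty_eq_false_iff] at c
  obtain ⟨⟨⟨c1, c2⟩, c3⟩, c4⟩ := c
  have e0 : ∀ r < T.n, val (l ++ [g]) r = val l r := fun r hr => by
    simpa using W_snoc (l := l) g (w := [r]) (by simpa [← P.len] using hr)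
  have eg : val (l ++ [g]) T.n = g := by simp [val, P.len]
  have ew : ∀ w : List ℕ, (∀ q ∈ w, q < T.n) → W (val (l ++ [g])) w = W (val l) w := fun w hw =>
    W_snoc g (by simpa [← P.len] using hw)
  obtain ⟨k1, k2⟩ := pres_of_rels P.pres (x' := val (l ++ [g])) (fun r hr => by
    rw [e0 r hr, List.getD_eq_getElem _ _ (by simpa using hr)]; simp) c2 (by omega) c3
  refine ⟨⟨fun s hs r hr => ?_, fun s hs => ?_⟩, ?_, c2, by simp [c1, P.len]⟩
  · rcases (show s < T.n ∨ s = T.n by omega) with k | rfl
    · exact k1 s k r hr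
    · rw [eg, e0 r hr, ew _ (wf_cj c2 hs hr), ← P.eq (c4 r hr).2, ← h r (c4 r hr).1]; group
  · rcases (show s < T.n ∨ s = T.n by omega) with k | rfl
    · exact k2 s k
    · rw [eg, ew _ (wf_sq c2 hs), hq]
  · rw [c1, P.len]; exact Ind.snoc (P.len ▸ P.ind) hn

/-- New letters for the same group: `ws` are the new letters in the old ones, `bk` the old ones in
the new ones. -/
theorem relab (T' : Tb) {ws : List (List ℕ)} (bk : List (List ℕ)) (e : l' = ws.map (W (val l)))
    (c : (T'.n == T.n && ws.length == T.n && T'.wf && rels T T' ws T'.n &&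
      (List.range T.n).all fun r => T.same (sb ws (bk.getD r [])) [r]) = true) :
    PI T' l' ∧ cl l' = cl l := by
  simp only [Bool.and_eq_true, beq_iff_eq, List.all_eq_true, List.mem_range] at c
  obtain ⟨⟨⟨⟨c1, c0⟩, c2⟩, c3⟩, c4⟩ := c
  have e' : ∀ r, val l' r = W (val l) (ws.getD r []) := fun r => by
    rw [e, val, List.getD_eq_getElem?_getD, List.getD_eq_getElem?_getD, List.getElem?_map]
    cases ws[r]? <;> rfl
  obtain ⟨k1, k2⟩ := pres_of_rels P.pres (x' := val l') (fun r _ => e' r) c2 le_rfl c3
  have P' : Pres T' (val l') := ⟨k1, k2⟩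
  have hl : T'.n = l'.length := by simp [e, c1, c0]
  have hc : cl l' = cl l := by
    refine le_antisymm (cl_le.2 fun y hy => ?_) ?_
    · rw [e] at hy
      obtain ⟨w, -, rfl⟩ := List.mem_map.1 hy
      exact W_mem' l w
    · rw [← P.H_eq]
      refine H_le fun i hi => ?_
      have := P.eq (c4 i hi)
      rw [W_sb fun s _ => e' s, W_cons, W_nil, mul_one] at this
      exact this ▸ W_mem' l' _
  refine ⟨⟨P', P'.ind_of_card c2 le_rfl ?_, c2, hl⟩, hc⟩
  rw [H_val, hl, List.take_length, hc, P.card, ← hl, c1]

/-- The first `k` letters. -/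
theorem take (T' : Tb)
    (c : (decide (T'.n ≤ T.n) && T'.wf &&
      rels T T' ((List.range T.n).map fun r => [r]) T'.n) = true) : PI T' (l.take T'.n) := by
  simp only [Bool.and_eq_true, decide_eq_true_eq] at c
  obtain ⟨⟨c1, c2⟩, c3⟩ := c
  have e0 : ∀ r < T'.n, val (l.take T'.n) r = val l r := fun r hr => by
    simp [val, hr]
  obtain ⟨k1, k2⟩ := pres_of_rels P.pres (x' := val (l.take T'.n)) (fun r hr => by
    rw [e0 r hr, List.getD_eq_getElem _ _ (by simpa using hr.trans_le c1)]; simp) c2 le_rfl c3
  refine ⟨⟨k1, k2⟩, fun k hk => ?_, c2, by simp [← P.len, c1]⟩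
  rw [e0 k hk, H_val, List.take_take, min_eq_left hk.le, ← H_val]
  exact P.ind k (hk.trans_le c1)

theorem orb {k : ℕ} (hk : k ≤ T.n) {Ω : List (List ℕ)} (c : clo T k Ω = true) {u : List ℕ}
    (hu : u ∈ Ω) (hg : g ∈ cl (l.take k)) : ∃ w ∈ Ω, g * W (val l) u * g⁻¹ = W (val l) w := by
  obtain ⟨p, hp, rfl⟩ := P.mem k hk hg
  replace hp := nf_lt (nf_of_mem_subs hp)
  clear hg
  induction p with
  | nil => exact ⟨u, hu, by simp⟩
  | cons r p ih =>
    obtain ⟨w, hw, e⟩ := ih fun s hs => hp s (List.mem_cons_of_mem _ hs)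
    have hr := hp r List.mem_cons_self
    simp only [clo, List.all_eq_true, List.mem_range, List.elem_eq_mem, decide_eq_true_eq] at c
    refine ⟨_, c r hr w hw, ?_⟩
    rw [P.pres.W_col, List.cons_append, W_cons, W_cons, W_append, P.iv (by simp; omega), ← e]
    simp only [W_cons, W_nil]; group

/-- An element that moves `u` out of its orbit is not in the group. -/
theorem notMem {Ω : List (List ℕ)} {u v : List ℕ} (e : g * W (val l) u * g⁻¹ = W (val l) v)
    (c : (clo T T.n Ω && Ω.elem u && Ω.all fun w => !T.eqv v w) = true) : g ∉ cl l := fun hg => by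
  simp only [Bool.and_eq_true, List.elem_eq_mem, decide_eq_true_eq, List.all_eq_true,
    Bool.not_eq_true'] at c
  obtain ⟨w, hw, e'⟩ := P.orb le_rfl c.1.1 c.1.2 (by rwa [P.len, List.take_length])
  exact P.ne (c.2 w hw) (e.symm.trans e')

theorem le_nor {k : ℕ} (c : nrm T k = true) : cl l ≤ nor (cl (l.take k)) := by
  rw [← P.H_eq, ← H_val]
  refine H_le fun s hs => ?_
  simp only [nrm, List.all_eq_true, List.mem_range, Bool.or_eq_true, decide_eq_true_eq] at c
  by_cases h : s < k
  · exact le_normalizer (x_mem h)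
  rw [← inv_mem_iff]
  refine mem_normalizer_fintype fun g hg => ?_
  refine H_le (K := (H (val l) k).comap (MulAut.conj (val l s)⁻¹).toMonoidHom) (fun i hi => ?_) hg
  change (val l s)⁻¹ * val l i * (val l s)⁻¹⁻¹ ∈ H (val l) k
  rw [inv_inv, mul_assoc, P.pres.cj s hs i (by omega), inv_mul_cancel_left]
  exact W_mem (by simpa using (c s hs).resolve_left h i hi)

theorem low {k : ℕ} (hk : k ≤ T.n) {w : List ℕ} (h : W (val l) w ∈ cl (l.take k)) :
    low T k w = true := by
  obtain ⟨v, hv, e⟩ := P.mem k hk h
  rw [CM.low, Bool.or_eq_true, Bool.not_eq_true', ← Bool.not_eq_true]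
  refine or_not_of_imp fun a => ?_
  rw [P.ind.eq a (nf_mono (nf_of_mem_subs hv) hk) (by rw [P.pres.W_col, e])]
  exact subs_lt hv

theorem split (k j : ℕ) (hk : k + j ≤ T.n) (hg : g ∈ cl (l.take (k + j))) :
    ∃ u ∈ ups k j, ∃ y ∈ cl (l.take k), g = W (val l) u * y := by
  induction j generalizing g with
  | zero => exact ⟨[], by simp [ups], g, hg, by simp⟩
  | succ j ih =>
    rw [← H_val] at hg
    rcases P.pres.mem_succ P.wf (k := k + j) hk hg with e | e <;> rw [H_val] at e
    · obtain ⟨u, h1, h2⟩ := ih (by omega) e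
      exact ⟨u, List.mem_append_left _ h1, h2⟩
    · obtain ⟨u, h1, y, h2, h3⟩ := ih (by omega) e
      exact ⟨(k + j) :: u, List.mem_append_right _ (List.mem_map_of_mem h1), y, h2, by
        rw [W_cons, mul_assoc, ← h3, mul_inv_cancel_left]⟩

end PI

end H35.CM
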