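import Cfsg.Agent.H28.TESpec

/-! Tower NF (S1308), chapter TE part 1: adapted Sylow subgroups. -/

set_option autoImplicit false

open Cfsg Subgroup H14 H98 H1.Gold H31.S2 H14.GC H14.FE H14.NF H28.TE
open scoped commutatorElement

namespace H35.TeAR

universe u

theorem jobAR : JobAR.{u} := by
  intro kt G _ _ Q Q₁ E Q₂ T ln Y hY hc hm
  have k := kt G Q Q₁ E Q₂ T ln
  have hF : Y ≤ nor (E ⊔ T) := fun y hy => mem_normalizer_fintype fun f hf => by
    obtain ⟨e, he, t, ht, rfl⟩ := k.dec f hf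
    have e1 : e * y = y * e := mem_centralizer_iff.1 (hc hy) e he
    have e2 : y * (e * t) * y⁻¹ = e * (⁅t, y⁆⁻¹ * t) := by
      rw [← mul_assoc, ← e1, commutatorElement_def]; group
    rw [e2]
    exact mul_mem (mem_sup_left he) (mul_mem (mem_sup_left (E.inv_mem (hm t ht y hy)))
      (mem_sup_right ht))
  have F2 : IsPGroup 2 ↥(E ⊔ T) :=
    isPGroup_iff_forall.2 fun a ha => ⟨1, by rw [pow_one, sq, k.elF a ha]⟩
  have J2 : IsPGroup 2 ↥(Y ⊔ (E ⊔ T)) := hY.to_sup_of_normal_right' F2 hF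
  obtain ⟨s, hs, hi⟩ := four_exists_inv ln.fE
  have JQ : Y ⊔ (E ⊔ T) ≤ nor Q₁ := by
    refine le_trans ?_ (ln.hy.cen_le Q₁ ln.v1 s (ln.sE.le hs).1 hi)
    refine sup_le (fun y hy => ?_) fun f hf => ?_
    · exact mem_centralizer_singleton_iff.2 (mem_centralizer_iff.1 (hc hy) s hs).symm
    · exact mem_centralizer_singleton_iff.2 (k.abF f hf s (mem_sup_left hs))
  obtain ⟨R, hR, h1, h2⟩ := inv_syl J2 JQ
  exact ⟨R, ⟨hR, (le_inf (le_sup_left.trans le_sup_right) (ln.sE.le.trans inf_le_left)).trans h1,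
    (le_sup_right.trans le_sup_right).trans h2⟩, le_sup_left.trans h2, hF⟩

end H35.TeAR
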