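/- Counting `k - l` over sections, and the cancellation on normal chains of `p`-subgroups. -/
import Cfsg.Agent.H41.SubsecOrth
import Cfsg.Agent.H36.Induce
import Cfsg.Agent.H39.Conj

set_option autoImplicit false
set_option linter.unusedSectionVars false

namespace H35

open Cfsg H28 H34 H36 H41
open scoped MonoidAlgebra

variable {G : Type*} [Group G] [Finite G] {p : ℕ} {M : Ideal AlgInt} [M.IsMaximal]

theorem InB.pReg_of_intC [Fintype G] (hM : IsPModular p M) {A : Set (IrrCharacter G)}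
    (hA : IntC M (fC A)) {η : G → ℂ} (h : InB A η) : InB A (pRegularPart p η) := by
  rw [h.eq_sum, pReg_sum]
  refine inB_sum _ fun χ hχ => ?_
  rw [pReg_smul]
  exact InB.smul ⟨pReg_isClassFunction χ.2.isClassFunction,
    fun ψ hψ => classInner_pReg_eq_zero hM (isPBlock_blockOf χ) (self_mem_blockOf χ)
      fun h' => hψ (blockOf_subset_of_intC hA (mem_bF.1 hχ) h')⟩ _

theorem blockRank_eq_sum_of_intC [Fintype G] (hM : IsPModular p M) {B : Set (IrrCharacter G)}
    (hB : IntC M (fC B)) :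
    (blockRank p B : ℂ) = ∑ χ ∈ bF B, classInner (pRegularPart p (χ : G → ℂ)) χ := by
  classical
  have := Fintype.ofFinite B
  let f : spanB B →ₗ[ℂ] spanB B := (pRegL p G).restrict fun η h => InB.pReg_of_intC hM hB h
  have hf : ∀ η, (f η : G → ℂ) = pRegularPart p η := fun η => rfl
  have hidem : IsIdempotentElem f := by
    ext1 η
    apply Subtype.ext
    rw [Module.End.mul_apply, hf, hf, pReg_pReg]
  have hfree : Module.Free ℂ (LinearMap.range f) := Module.Free.of_divisionRing ℂ (LinearMap.range f)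
  have hfree' : Module.Free ℂ (LinearMap.ker f) := Module.Free.of_divisionRing ℂ (LinearMap.ker f)
  have h1 := (LinearMap.IsIdempotentElem.isProj_range f hidem).trace
  have h2 : Module.finrank ℂ (LinearMap.range f) = blockRank p B := by
    rw [blockRank_eq_finrank_map, ← Submodule.finrank_map_subtype_eq]
    suffices h : Submodule.map (spanB B).subtype (LinearMap.range f) =
        Submodule.map (pRegL p G) (spanB B) by rw [h]
    ext η
    simp only [Submodule.mem_map, LinearMap.mem_range, Submodule.coe_subtype]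
    constructor
    · rintro ⟨_, ⟨θ, rfl⟩, rfl⟩
      exact ⟨θ, θ.2, rfl⟩
    · rintro ⟨θ, hθ, rfl⟩
      exact ⟨_, ⟨⟨θ, hθ⟩, rfl⟩, rfl⟩
  rw [← h2, ← h1, LinearMap.trace_eq_matrix_trace ℂ (basisB B), Matrix.trace,
    Finset.sum_subtype (bF B) (p := (· ∈ B)) (fun _ => mem_bF)]
  refine Finset.sum_congr rfl fun χ _ => ?_
  rw [Matrix.diag_apply, LinearMap.toMatrix_apply, basisB_repr, hf, coe_basisB]

/-- The sum of the kernel of `A` over the `p`-regular elements. -/
noncomputable def RR (p : ℕ) (A : Set (IrrCharacter G)) : ℂ :=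
  ∑ᶠ y, pRegularPart p (fun y => bker A y y) y

theorem RR_eq_rank (hM : IsPModular p M) {B : Set (IrrCharacter G)} (hB : IntC M (fC B)) :
    RR p B = (Nat.card G : ℂ) * (blockRank p B : ℂ) := by
  have := Fintype.ofFinite G
  rw [RR, finsum_eq_sum_of_fintype, blockRank_eq_sum_of_intC hM hB, Finset.mul_sum]
  simp only [card_mul_classInner]
  rw [Finset.sum_comm]
  refine Finset.sum_congr rfl fun x _ => ?_
  simp only [pReg_apply, bker, finsum_mem_eq_bF]
  split_ifs <;> simp

theorem RR_image {K : Type*} [Group K] [Finite K] (σ : K ≃* G) (A : Set (IrrCharacter K)) :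
    RR p (irrEquiv σ '' A) = RR p A := by
  unfold RR
  rw [← finsum_comp_equiv σ.toEquiv]
  refine finsum_congr fun y => ?_
  classical
  simp only [pReg_apply, MulEquiv.toEquiv_eq_coe, EquivLike.coe_coe, MulEquiv.orderOf_eq]
  split_ifs
  · rfl
  · unfold bker
    rw [finsum_mem_image (irrEquiv σ).injective.injOn]
    simp

variable (p M) in
/-- The quantity `|K| l(K, e)`. -/
noncomputable def RK (K : Subgroup G) (e : (F M)[G]) : ℂ :=
  RR p {ξ : IrrCharacter K | lam M ξ.1 (pull K.subtype e) = 1}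

theorem RK_congr {K : Subgroup G} {e e' : (F M)[G]} (h : ∀ g ∈ K, e.coeff g = e'.coeff g) :
    RK p M K e = RK p M K e' := by
  have : pull K.subtype e = pull K.subtype e' := ga_ext fun g => h g g.2
  rw [RK, RK, this]

theorem RR_eq_RK {K : Type*} [Group K] [Finite K] {φ : K →* G} (hφ : Function.Injective φ)
    {e : (F M)[G]} {A : Set (IrrCharacter K)} (hA : IntC M (fC A)) (he : eB M A = pull φ e) :
    RR p A = RK p M φ.range e := by
  classical
  let σ := MonoidHom.ofInjective hφ
  have h1 : IntC M (fC (irrEquiv σ '' A)) := by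
    rw [fC_image]; exact intC_emb σ.injective hA
  have h2 : eB M (irrEquiv σ '' A) = pull φ.range.subtype e := by
    rw [eB_image, he]
    refine ga_ext fun g => ?_
    obtain ⟨k, rfl⟩ := σ.surjective g
    exact coeff_emb_apply (φ := σ.toMonoidHom) σ.injective _ k
  rw [← RR_image σ, RK, ← h2]
  congr 1
  ext ξ
  rw [Set.mem_ofPred_eq, lam_eB_of_intC h1]
  simp

/-- Summation over the `p`-parts. -/
theorem sum_eq_sum_pPart [Fintype G] (hp : p.Prime) (f : G → ℂ)
    [DecidablePred fun u : G => ∃ k : ℕ, orderOf u = p ^ k] :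
    ∑ g, f g = ∑ u : G with ∃ k : ℕ, orderOf u = p ^ k,
      ∑ᶠ y : Subgroup.centralizer ({u} : Set G), pRegularPart p (fun c => f (u * c)) y := by
  classical
  have h1 : ∀ u ∈ Finset.univ.filter fun u : G => ∃ k : ℕ, orderOf u = p ^ k,
      ∑ᶠ y : Subgroup.centralizer ({u} : Set G), pRegularPart p (fun c => f (u * c)) y =
      ∑ g, if IsPPart p g u then f g else 0 := by
    intro u hu
    have h := isSec_centralizer (Finset.mem_filter.1 hu).2
    rw [finsum_eq_sum_of_fintype, ← Finset.sum_filter]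
    simp only [pReg_apply, ← ite_not (p ∣ _)]
    rw [← Finset.sum_filter]
    refine Finset.sum_bij (fun y _ => u * y) (fun y hy => ?_) (fun y _ y' _ e => ?_)
      (fun g hg => ?_) fun y _ => rfl
    · simpa using h.isPPart (by simpa using hy)
    · exact Subtype.ext (by simpa using e)
    · obtain ⟨y, hy, e⟩ := h.exists_eq_mul (Finset.mem_filter.1 hg).2
      exact ⟨y, by simpa using hy, e.symm⟩
  rw [Finset.sum_congr rfl h1, Finset.sum_comm]
  refine Finset.sum_congr rfl fun g _ => ?_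
  obtain ⟨z, hz⟩ := exists_isPPart hp g
  rw [Finset.sum_eq_single_of_mem z, if_pos hz]
  · obtain ⟨_, -, -, h, -⟩ := hz; simpa using h
  · exact fun x _ hne => if_neg fun hx => hne (isPPart_unique hp hx hz)

/-- `|N| (k - l)` as a sum over the nontrivial `p`-elements. -/
theorem card_mul_sub_eq [Fintype G] (hM : IsPModular p M) {N : Type*} [Group N] [Finite N]
    {φ : N →* G} (hφ : Function.Injective φ) {e : (F M)[G]} {A : Set (IrrCharacter N)}
    (hA : IntC M (fC A)) (he : eB M A = pull φ e)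
    [DecidablePred fun u : G => u ≠ 1 ∧ ∃ k : ℕ, orderOf u = p ^ k]
    [DecidablePred fun u : G => u ∈ φ.range] :
    (Nat.card N : ℂ) * ((Nat.card A : ℂ) - blockRank p A) =
      ∑ u : G with u ≠ 1 ∧ ∃ k : ℕ, orderOf u = p ^ k, if u ∈ φ.range then
        RK p M (φ.range ⊓ Subgroup.centralizer {u}) e else 0 := by
  classical
  have := Fintype.ofFinite N
  have := Fact.mk hM.1
  have := charP_F hM
  have h1 := sum_eq_sum_pPart hM.1 (fun g : N => bker A g g)
  have h2 : ∀ u ∈ Finset.univ.filter fun u : N => ∃ k : ℕ, orderOf u = p ^ k,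
      ∑ᶠ y : Subgroup.centralizer ({u} : Set N),
        pRegularPart p (fun c => bker A (u * c) (u * c)) y =
      RK p M (φ.range ⊓ Subgroup.centralizer {φ u}) e := by
    intro u hu
    have h := isSec_centralizer (Finset.mem_filter.1 hu).2
    set C := Subgroup.centralizer ({u} : Set N) with hC
    have h3 : φ.range ⊓ Subgroup.centralizer {φ u} = (φ.comp C.subtype).range := by
      ext g
      simp only [Subgroup.mem_inf, MonoidHom.mem_range, Subgroup.mem_centralizer_singleton_iff,
        MonoidHom.comp_apply, Subgroup.coe_subtype]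
      constructor
      · rintro ⟨⟨x, rfl⟩, hx⟩
        refine ⟨⟨x, Subgroup.mem_centralizer_singleton_iff.2 (hφ ?_)⟩, rfl⟩
        rw [map_mul, map_mul, hx]
      · rintro ⟨x, rfl⟩
        refine ⟨⟨x, rfl⟩, ?_⟩
        rw [← map_mul, ← map_mul, Subgroup.mem_centralizer_singleton_iff.1 x.2]
    have hZ := eB_mem_Z (M := M) A
    have hi : trunc C (eB M A) * trunc C (eB M A) = trunc C (eB M A) := by
      rw [← h.trunc_mul (fun k _ g => mem_Z_iff.1 hZ g k) (fun k _ g => mem_Z_iff.1 hZ g k),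
        eB_mul_eB_of_intC hA hA, Set.inter_self]
    have h4 := (idem_eq_eB (trunc_mem_Z hZ) hi).2
    rw [h3, ← RR_eq_RK (φ := φ.comp C.subtype) (hφ.comp C.subtype_injective) (intC_fC_locSet C A)
      (h4.symm.trans (by rw [he]; exact ga_ext fun _ => rfl)), RR]
    refine finsum_congr fun y => ?_
    by_cases hy : p ∣ orderOf y
    · rw [pReg_of_sing _ hy, pReg_of_sing _ (by rwa [Subgroup.orderOf_coe])]
    · rw [pReg_of_reg _ hy, pReg_of_reg _ (by rwa [Subgroup.orderOf_coe]),
        h.bker_mul_mul hM hA hy hy]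
  rw [Finset.sum_congr rfl h2, sum_bker_self,
    ← Finset.add_sum_erase _ _ (a := 1) (by simpa using ⟨0, by simp⟩)] at h1
  have h5 : φ.range ⊓ Subgroup.centralizer {φ 1} = φ.range := by
    rw [map_one, inf_eq_left]
    intro g _
    simp [Subgroup.mem_centralizer_singleton_iff]
  rw [h5, ← RR_eq_RK hφ hA he, RR_eq_rank hM hA] at h1
  rw [mul_sub, h1, add_sub_cancel_left, ← Finset.sum_filter]
  refine Finset.sum_bij (fun u _ => φ u) (fun u hu => ?_) (fun u _ v _ h => hφ h)
    (fun g hg => ?_) fun _ _ => rfl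
  · simp only [Finset.mem_erase, Finset.mem_filter, Finset.mem_univ, true_and] at hu ⊢
    refine ⟨⟨fun h => hu.1 (hφ (by rw [h, map_one])), ?_⟩, ⟨u, rfl⟩⟩
    rw [orderOf_injective φ hφ]; exact hu.2
  · simp only [Finset.mem_erase, Finset.mem_filter, Finset.mem_univ, true_and] at hg ⊢
    obtain ⟨⟨h1, h2⟩, x, rfl⟩ := hg
    rw [orderOf_injective φ hφ] at h2
    exact ⟨x, ⟨fun h => h1 (by rw [h, map_one]), h2⟩, rfl⟩

/-! ### The involution on normal chains -/

section Chains

open H39

variable {u : G} {s : Finset (Subgroup G)}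

/-- The top of the chain joined with `u`. -/
def chW (u : G) (s : Finset (Subgroup G)) : Subgroup G := s.sup id ⊔ Subgroup.zpowers u

open Classical in
/-- The largest member not containing `u`. -/
noncomputable def chL (u : G) (s : Finset (Subgroup G)) : Subgroup G :=
  (s.filter fun Q => u ∉ Q).sup id

/-- The member to be added or removed. -/
noncomputable def chR (u : G) (s : Finset (Subgroup G)) : Subgroup G :=
  sInf {X | chL u s ≤ X ∧ u ∈ X ∧ chW u s ≤ Nor X}

open Classical in
/-- The involution. -/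
noncomputable def chI (u : G) (s : Finset (Subgroup G)) : Finset (Subgroup G) :=
  if chR u s ∈ s then s.erase (chR u s) else insert (chR u s) s

/-- Normal chains (possibly empty) of nontrivial `p`-subgroups normalized by `u`. -/
structure Ch (p : ℕ) (u : G) (s : Finset (Subgroup G)) : Prop where
  cmp : ∀ Q ∈ s, ∀ R ∈ s, Q ≤ R ∨ R ≤ Q
  pg : ∀ Q ∈ s, Q ≠ ⊥ ∧ IsPGroup p Q
  nor : ∀ Q ∈ s, chW u s ≤ Nor Q

theorem mem_nor_finsup {x : G} {t : Finset (Subgroup G)} (h : ∀ Q ∈ t, x ∈ Nor Q) :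
    x ∈ Nor (t.sup id) := by
  classical
  induction t using Finset.induction_on with
  | empty => simp [nor_bot]
  | insert Q t _ ih =>
    rw [Finset.sup_insert]
    exact mem_nor_sup (h Q (Finset.mem_insert_self _ _))
      (ih fun R hR => h R (Finset.mem_insert_of_mem hR))

theorem sup_mem_of_cmp (h : ∀ Q ∈ s, ∀ R ∈ s, Q ≤ R ∨ R ≤ Q) (hs : s.Nonempty) : s.sup id ∈ s := by
  obtain ⟨T, hT, hmax⟩ := s.exists_maximal hs
  have : s.sup id = T := le_antisymm (Finset.sup_le fun Q hQ => (h Q hQ T hT).elim id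
    fun h' => hmax hQ h') (Finset.le_sup (f := id) hT)
  rwa [this]

theorem mem_chR : u ∈ chR u s := Subgroup.mem_sInf.2 fun _ hX => hX.2.1

theorem chL_le_chR : chL u s ≤ chR u s := le_sInf fun _ hX => hX.1

theorem chR_le {X : Subgroup G} (h1 : chL u s ≤ X) (h2 : u ∈ X) (h3 : chW u s ≤ Nor X) :
    chR u s ≤ X := sInf_le ⟨h1, h2, h3⟩

theorem chW_le_nor_chR : chW u s ≤ Nor (chR u s) := by
  intro w hw
  rw [Subgroup.mem_normalizer_iff]
  intro g
  simp only [chR, Subgroup.mem_sInf]
  exact forall₂_congr fun X hX => Subgroup.mem_normalizer_iff.1 (hX.2.2 hw) g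

theorem chL_le_sup : chL u s ≤ s.sup id := by
  classical
  exact Finset.sup_mono (Finset.filter_subset _ _)

theorem mem_chW : u ∈ chW u s := Subgroup.mem_sup_right (Subgroup.mem_zpowers u)

theorem chR_le_chW : chR u s ≤ chW u s :=
  chR_le (chL_le_sup.trans le_sup_left) mem_chW (le_nor _)

theorem le_chL {Q : Subgroup G} (hQ : Q ∈ s) (hu : u ∉ Q) : Q ≤ chL u s := by
  classical
  exact Finset.le_sup (f := id) (Finset.mem_filter.2 ⟨hQ, hu⟩)

theorem Ch.chR_le (h : Ch p u s) {Q : Subgroup G} (hQ : Q ∈ s) (hu : u ∈ Q) : chR u s ≤ Q := by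
  classical
  refine H35.chR_le (Finset.sup_le fun R hR => ?_) hu (h.nor Q hQ)
  obtain ⟨hR, hu'⟩ := Finset.mem_filter.1 hR
  exact (h.cmp R hR Q hQ).elim id fun h' => absurd (h' hu) hu'

theorem Ch.isPGroup_sup (h : Ch p u s) : IsPGroup p (s.sup id : Subgroup G) := by
  rcases s.eq_empty_or_nonempty with rfl | hs
  · exact IsPGroup.of_bot
  · exact (h.pg _ (sup_mem_of_cmp h.cmp hs)).2

theorem Ch.isPGroup_chW (h : Ch p u s) (hu : IsPGroup p (Subgroup.zpowers u)) :
    IsPGroup p (chW u s) :=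
  isPGroup_sup_of_le_nor h.isPGroup_sup hu
    (Subgroup.zpowers_le.2 (mem_nor_finsup fun Q hQ => h.nor Q hQ mem_chW))

theorem mem_nor_chR {c : G} (hc : ∀ Q ∈ s, c ∈ Nor Q) (hcu : c * u = u * c) :
    c ∈ Nor (chR u s) := by
  classical
  have hL : cS c (chL u s) = chL u s :=
    cS_eq_of_mem_nor (mem_nor_finsup fun Q hQ => hc Q (Finset.mem_filter.1 hQ).1)
  have hU : c ∈ Nor (Subgroup.zpowers u) := cen_le_nor _ fun g hg => by
    obtain ⟨n, rfl⟩ := hg
    exact (Commute.zpow_left (show Commute u c from hcu.symm) n).eq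
  have hW : cS c (chW u s) = chW u s := cS_eq_of_mem_nor (mem_nor_sup (mem_nor_finsup hc) hU)
  have h1 : chR u s ≤ cS c (chR u s) := by
    refine chR_le (hL ▸ cS_mono c chL_le_chR) ?_ ?_
    · rw [mem_cS, mul_assoc, ← hcu, inv_mul_cancel_left]; exact mem_chR
    · rw [nor_cS, ← hW]; exact cS_mono c chW_le_nor_chR
  rw [← cS_eq_iff]
  exact (Subgroup.eq_of_le_of_card_ge h1 (card_cS c _).le).symm

theorem chL_chI : chL u (chI u s) = chL u s := by
  classical
  unfold chL
  congr 1
  ext Q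
  simp only [Finset.mem_filter, chI]
  refine and_congr_left fun hQ => ?_
  have : Q ≠ chR u s := fun h => hQ (h ▸ mem_chR)
  split_ifs <;> simp [this]

theorem Ch.chW_chI [Fact p.Prime] (h : Ch p u s) (_hu : IsPGroup p (Subgroup.zpowers u)) :
    chW u (chI u s) = chW u s := by
  classical
  have hL := chL_chI (u := u) (s := s)
  unfold chI at hL ⊢
  split_ifs at hL ⊢ with hR
  · refine le_antisymm (sup_le_sup_right (Finset.sup_mono (Finset.erase_subset _ _)) _) ?_
    suffices key : chR u s ≤ chW u (s.erase (chR u s)) by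
      refine sup_le (Finset.sup_le fun Q hQ => ?_) le_sup_right
      by_cases hQR : Q = chR u s
      · exact hQR ▸ key
      · exact (Finset.le_sup (f := id) (Finset.mem_erase.2 ⟨hQR, hQ⟩)).trans le_sup_left
    by_cases hex : ∃ Q ∈ s.erase (chR u s), u ∈ Q
    · obtain ⟨Q, hQ, huQ⟩ := hex
      exact ((h.chR_le (Finset.mem_of_mem_erase hQ) huQ).trans
        (Finset.le_sup (f := id) hQ)).trans le_sup_left
    push Not at hex
    have hW : chW u s ≤ chR u s := by
      refine sup_le (Finset.sup_le fun Q hQ => ?_) (Subgroup.zpowers_le.2 mem_chR)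
      by_cases hQR : Q = chR u s
      · exact hQR.le
      · exact (le_chL hQ (hex Q (Finset.mem_erase.2 ⟨hQR, hQ⟩))).trans chL_le_chR
    have hY : chL u s ⊔ Subgroup.zpowers u ≤ chW u (s.erase (chR u s)) :=
      sup_le_sup_right (hL ▸ chL_le_sup) _
    refine le_trans ?_ hY
    by_contra hne
    have hlt : chL u s ⊔ Subgroup.zpowers u < chR u s :=
      lt_of_le_not_ge (sup_le chL_le_chR (Subgroup.zpowers_le.2 mem_chR)) hne
    obtain ⟨X, hX1, hX2, hmax⟩ := Finite.exists_le_maximal
      (p := fun X => X < chR u s) hlt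
    have h3 := lt_inf_nor (h.pg _ hR).2 hX2
    have h4 : chR u s ⊓ Nor X = chR u s := by
      by_contra h4
      exact h3.not_ge (hmax (lt_of_le_of_ne inf_le_left h4) h3.le)
    exact hX2.not_ge (H35.chR_le (le_sup_left.trans hX1)
      (hX1 (Subgroup.mem_sup_right (Subgroup.mem_zpowers u))) (hW.trans (inf_eq_left.1 h4)))
  · unfold chW
    rw [Finset.sup_insert, id, sup_assoc, sup_eq_right]
    exact chR_le_chW

theorem Ch.chR_chI [Fact p.Prime] (h : Ch p u s) (hu : IsPGroup p (Subgroup.zpowers u)) :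
    chR u (chI u s) = chR u s := by
  rw [chR, chL_chI, h.chW_chI hu, chR]

theorem Ch.chI_chI [Fact p.Prime] (h : Ch p u s) (hu : IsPGroup p (Subgroup.zpowers u)) :
    chI u (chI u s) = s := by
  classical
  rw [chI, h.chR_chI hu]
  unfold chI
  split_ifs with h1 h2 h2
  · simp at h2
  · exact Finset.insert_erase h1
  · exact Finset.erase_insert h1
  · simp at h2

theorem mem_chI {Q : Subgroup G} (hQ : Q ∈ chI u s) : Q ∈ s ∨ Q = chR u s := by
  classical
  unfold chI at hQ
  split_ifs at hQ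
  · exact Or.inl (Finset.mem_of_mem_erase hQ)
  · exact (Finset.mem_insert.1 hQ).symm

theorem Ch.chI [Fact p.Prime] (h : Ch p u s) (hu : IsPGroup p (Subgroup.zpowers u)) (hu1 : u ≠ 1) :
    Ch p u (chI u s) := by
  have hc : ∀ Q ∈ s, Q ≤ chR u s ∨ chR u s ≤ Q := fun Q hQ => by
    by_cases huQ : u ∈ Q
    · exact Or.inr (h.chR_le hQ huQ)
    · exact Or.inl ((le_chL hQ huQ).trans chL_le_chR)
  refine ⟨fun Q hQ R hR => ?_, fun Q hQ => ?_, fun Q hQ => ?_⟩
  · rcases mem_chI hQ with hQ | rfl <;> rcases mem_chI hR with hR | rfl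
    · exact h.cmp Q hQ R hR
    · exact hc Q hQ
    · exact (hc R hR).symm
    · exact Or.inl le_rfl
  · rcases mem_chI hQ with hQ | rfl
    · exact h.pg Q hQ
    · exact ⟨fun h0 => hu1 (Subgroup.mem_bot.1 (h0 ▸ mem_chR)),
        (h.isPGroup_chW hu).to_le chR_le_chW⟩
  · rw [h.chW_chI hu]
    rcases mem_chI hQ with hQ | rfl
    · exact h.nor Q hQ
    · exact chW_le_nor_chR

theorem neg_one_pow_card_chI : (-1 : ℂ) ^ (chI u s).card = -(-1) ^ s.card := by
  classical
  unfold chI
  split_ifs with h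
  · rw [← Finset.card_erase_add_one h, pow_succ]; ring
  · rw [Finset.card_insert_of_notMem h, pow_succ]; ring

theorem chI_ne : chI u s ≠ s := by
  intro h
  have := neg_one_pow_card_chI (u := u) (s := s)
  rw [h, eq_neg_iff_add_eq_zero, ← two_mul] at this
  simp at this

theorem stab_chI_le : (⨅ Q ∈ s, Nor Q) ⊓ Subgroup.centralizer {u} ≤
    (⨅ Q ∈ chI u s, Nor Q) ⊓ Subgroup.centralizer {u} := by
  intro c hc
  simp only [Subgroup.mem_inf, Subgroup.mem_iInf] at hc ⊢
  obtain ⟨h1, h2⟩ := hc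
  refine ⟨fun Q hQ => ?_, h2⟩
  rcases mem_chI hQ with hQ | rfl
  · exact h1 Q hQ
  · exact mem_nor_chR h1 (Subgroup.mem_centralizer_singleton_iff.1 h2)

theorem Ch.stab_chI [Fact p.Prime] (h : Ch p u s) (hu : IsPGroup p (Subgroup.zpowers u)) :
    (⨅ Q ∈ H35.chI u s, Nor Q) ⊓ Subgroup.centralizer {u} =
      (⨅ Q ∈ s, Nor Q) ⊓ Subgroup.centralizer {u} := by
  refine le_antisymm ?_ stab_chI_le
  conv_rhs => rw [← h.chI_chI hu]
  exact stab_chI_le

/-- The cancellation. -/
theorem sum_chains_eq_zero [Fact p.Prime] (hu : IsPGroup p (Subgroup.zpowers u)) (hu1 : u ≠ 1)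
    (t : Subgroup G → Subgroup G → ℂ) (X : Finset (Finset (Subgroup G)))
    (hX : ∀ s, s ∈ X ↔ Ch p u s) :
    ∑ s ∈ X, (-1 : ℂ) ^ s.card * t ((⨅ Q ∈ s, Nor Q) ⊓ Subgroup.centralizer {u}) (chW u s) = 0 := by
  refine Finset.sum_involution (fun s _ => chI u s) (fun s hs => ?_) (fun s _ _ => chI_ne)
    (fun s hs => (hX _).2 (((hX s).1 hs).chI hu hu1)) fun s hs => ((hX s).1 hs).chI_chI hu
  rw [((hX s).1 hs).stab_chI hu, ((hX s).1 hs).chW_chI hu, neg_one_pow_card_chI]
  ring

end Chains

end H35
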