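import Cfsg.Agent.H35.BL1
import Cfsg.Agent.H88.ZassRec
import Cfsg.Agent.H30.ZassInv

/-! Bender's theorem on large TI-subgroups (S3043), part 2: the doubly transitive case. -/

set_option autoImplicit false
set_option linter.unusedSectionVars false

namespace H35.BL

open Subgroup H98 MulAction

variable {G : Type*} [Group G] [Finite G] {M N : Subgroup G} {z g n t u v x y d c : G}

theorem smul_eq {g h k : G} : g • (h : G ⧸ N) = (k : G ⧸ N) ↔ k⁻¹ * g * h ∈ N := by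
  rw [MulAction.Quotient.smul_coe, smul_eq_mul, eq_comm, QuotientGroup.eq, mul_assoc]

namespace Big

variable (B : Big M N z) (hu : u ∉ N) (uu : u * u = 1) (hd : d ∈ N) (h : u * d * u⁻¹ ∈ N)
  (dd : d * d ≠ 1)
include B hu uu hd h dd

theorem trans (hg : g ∉ N) : ∃ x ∈ M, x • (u : G ⧸ N) = g := by
  obtain ⟨x, hx, vv⟩ := B.all g hg
  have hv : g * x ∉ N := fun k => hg ((mul_mem_cancel_right (B.le hx)).1 k)
  obtain ⟨y1, h1, k1⟩ := B.exists_t hu uu
  obtain ⟨y2, h2, k2⟩ := B.exists_t hv vv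
  have hy : y1 * y2⁻¹ ∈ N := B.le (mul_mem h1 (inv_mem h2))
  have ht : y1 * z * y1⁻¹ ∈ N := mul_mem (mul_mem (B.le h1) B.zN) (inv_mem (B.le h1))
  set w := y1 * y2⁻¹ * (g * x) * (y1 * y2⁻¹)⁻¹ with hw
  have wN : w ∉ N := fun k => hv ((mul_mem_cancel_left hy).1 ((mul_mem_cancel_right (inv_mem hy)).1 k))
  have ww : w * w = 1 := by rw [hw, conj_mul, vv]; simp
  have wt : w * (y1 * z * y1⁻¹) * w⁻¹ = y1 * z * y1⁻¹ := by
    calc _ = y1 * y2⁻¹ * (g * x * (y2 * z * y2⁻¹) * (g * x)⁻¹) * (y1 * y2⁻¹)⁻¹ := by rw [hw]; group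
      _ = _ := by rw [k2]; group
  obtain ⟨x', hx', k⟩ := B.dec wN ww hd
  have k3 := B.commD hu uu hd h ht (by rw [k1, mul_inv_cancel_right]; exact ht)
  have k4 := B.commD wN ww (mul_mem hd (B.le hx')) (k ▸ inv_mem (mul_mem hd (B.le hx'))) ht
    (wt.symm ▸ ht)
  rw [← mul_assoc _ d, ← k3, mul_assoc d, mul_assoc d, mul_right_inj] at k4
  rw [B.fpf (B.zy y1) (fun e => B.z1 (conj_eq_one_iff.1 e)) hx' k4.symm, mul_one] at k
  have k5 : w⁻¹ * u ∈ N := B.cen_le hu uu hd h dd (by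
    calc _ = w⁻¹ * (u * d * u⁻¹) * u := by group
      _ = _ := by rw [B.invD hu uu hd h, ← k]; group)
  refine ⟨_, inv_mem (mul_mem h1 (inv_mem h2)), smul_eq.2 ?_⟩
  simpa [hw, mul_assoc] using mul_mem (mul_mem (B.le hx) (inv_mem hy)) k5

theorem two {p q : G ⧸ N} (hpq : p ≠ q) : ∃ g : G, g • ((1 : G) : G ⧸ N) = p ∧ g • (u : G ⧸ N) = q := by
  obtain ⟨p, rfl⟩ := QuotientGroup.mk_surjective p
  obtain ⟨q, rfl⟩ := QuotientGroup.mk_surjective q
  obtain ⟨x, hx, k⟩ := B.trans hu uu hd h dd (g := p⁻¹ * q) fun k => hpq (QuotientGroup.eq.2 k)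
  exact ⟨p * x, smul_eq.2 (by simpa using B.le hx), by rw [mul_smul, k]; exact smul_eq.2 (by simp)⟩

theorem preZ : H30.PreZ G (G ⧸ N) := by
  have ne : ((1 : G) : G ⧸ N) ≠ u := fun k => hu (by simpa using QuotientGroup.eq.1 k)
  refine ⟨fun h1 h2 => ?_, fun {g p q r} h1 h2 h3 k1 k2 k3 => ?_, ?_⟩
  · obtain ⟨g, a1, a2⟩ := B.two hu uu hd h dd h1
    obtain ⟨g', b1, b2⟩ := B.two hu uu hd h dd h2
    exact ⟨g' * g⁻¹, by rw [← a1, smul_smul, inv_mul_cancel_right, b1],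
      by rw [← a2, smul_smul, inv_mul_cancel_right, b2]⟩
  · obtain ⟨e, rfl, rfl⟩ := B.two hu uu hd h dd h1
    obtain ⟨r, hr⟩ := QuotientGroup.mk_surjective (e⁻¹ • r)
    obtain rfl := (smul_eq_iff_eq_inv_smul e).2 hr
    obtain ⟨w, hw, k⟩ := B.trans hu uu hd h dd (g := r) fun k => h3 (by
      rw [QuotientGroup.eq.2 (show (1 : G)⁻¹ * r ∈ N by simpa using k)])
    rw [← k] at h2 k3
    have f : ∀ p : G ⧸ N, g • e • p = e • p → (e⁻¹ * g * e) • p = p := fun p k => by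
      rw [mul_smul, mul_smul, k, inv_smul_smul]
    have a1 : e⁻¹ * g * e ∈ N := by simpa using smul_eq.1 (f _ k1)
    have a2 := smul_eq.1 (f _ k2)
    have a3 := f _ k3
    rw [smul_smul, ← inv_smul_eq_iff, smul_smul] at a3
    have a4 := B.semi hu (mul_mem (inv_mem hw) (B.cj a1 hw)) (by
      simpa [mul_assoc] using mul_mem (smul_eq.1 a3) (inv_mem a2))
    rcases B.frob hu uu a1 (by rwa [← inv_eq_of_mul_eq_one_right uu, inv_inv]) hw
      (mul_inv_eq_iff_eq_mul.1 (inv_mul_eq_one.1 a4).symm) with k | k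
    · exact conj_eq_one_iff.1 (show e⁻¹ * g * e⁻¹⁻¹ = 1 by rw [inv_inv, k])
    · exact absurd (by rw [k, one_smul]) h2
  · obtain ⟨⟨x, hx⟩, x1⟩ := ne_bot_iff_exists_ne_one.1 B.ne
    refine ⟨_, _, x • (u : G ⧸ N), ne, fun k => x1 (Subtype.ext (B.semi hu hx (smul_eq.1 k.symm))),
      fun k => hu ?_⟩
    simpa using (mul_mem_cancel_left (B.le hx)).1 (by simpa using smul_eq.1 k.symm)

theorem case_one : ∃ (F : Type) (_ : Field F) (_ : Fintype F) (p : ℕ) (_ : Fact p.Prime) (_ : CharP F p),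
    Fintype.card F = Nat.card M ∧ Cfsg.IsElementaryAbelian p M ∧
      (Nonempty (G ≃* (GL (Fin 2) F ⧸ Subgroup.center (GL (Fin 2) F))) ∨
        (Fintype.card F % 4 = 1 ∧ Nonempty (G ≃* Matrix.ProjectiveSpecialLinearGroup (Fin 2) F))) := by
  have hZ := B.preZ hu uu hd h dd
  have ne : ((1 : G) : G ⧸ N) ≠ u := fun k => hu (by simpa using QuotientGroup.eq.1 k)
  obtain ⟨y, hy, k⟩ := B.exists_t hu uu
  have ht : y * z * y⁻¹ ∈ N := mul_mem (mul_mem (B.le hy) B.zN) (inv_mem (B.le hy))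
  have t1 : y * z * y⁻¹ ≠ 1 := fun e => B.z1 (conj_eq_one_iff.1 e)
  have hs : y * z * y⁻¹ ∈ stabilizer G ((1 : G) : G ⧸ N) ⊓ stabilizer G (u : G ⧸ N) :=
    ⟨smul_eq.2 (by simpa using ht), smul_eq.2 (by rwa [mul_assoc, ← k, inv_mul_cancel_left])⟩
  have hE : stabilizer G ((1 : G) : G ⧸ N) ⊓ stabilizer G (u : G ⧸ N) ≠ ⊥ := fun e =>
    t1 (mem_bot.1 (e ▸ hs))
  have hl : Nat.card (G ⧸ N) - 2 ≤
      2 * Nat.card ↥(stabilizer G ((1 : G) : G ⧸ N) ⊓ stabilizer G (u : G ⧸ N)) := by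
    refine (H88.preZ_card_swap_ge hZ ne t1 (B.zy y) hs.1 hs.2).trans (Nat.mul_le_mul_left 2 ?_)
    rw [← H88.preZ_card_pair hZ ne ne.symm]
    exact Nat.card_le_card_of_injective (fun u => ⟨u.1, u.2.2,
      H88.smul_eq_of_involution' u.2.1 u.2.2⟩) fun x y e => Subtype.ext (Subtype.mk.inj e)
  have hM : M = hZ.ker ((1 : G) : G ⧸ N) := hZ.eq_ker_of_large ne hE hl M (fun x hx =>
    ⟨smul_eq.2 (by simpa using B.le hx), or_iff_not_imp_left.2 fun x1 p hp => by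
      obtain ⟨p, rfl⟩ := QuotientGroup.mk_surjective p
      exact QuotientGroup.eq.2 (by
        simpa using by_contra fun k => x1 (B.semi k hx (smul_eq.1 hp)))⟩) B.ne
    fun e he x hx => B.cj (by simpa using smul_eq.1 he.1) hx
  obtain ⟨hc, p, f, hp, h1, h2⟩ := hZ.elementary_of_large ne hE hl
  have P := H88.preZ_pline hZ ne (fun a ha b hb => B.comm (hM ▸ ha) (hM ▸ hb)) (s := u)
    (smul_eq.2 (by simp)) (smul_eq.2 (by simp [uu])) fun e h1 h2 => B.invD hu uu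
      (by simpa using smul_eq.1 h1) (by
        rw [← inv_eq_of_mul_eq_one_right uu, inv_inv]; exact smul_eq.1 h2)
  have h3 := hZ.card_ker ((1 : G) : G ⧸ N)
  have h4 := hZ.two_le_card_ker ((1 : G) : G ⧸ N)
  obtain ⟨m, hm⟩ := hZ.card_stab2_dvd ne
  obtain ⟨K, _, _, hK⟩ := H88.exists_field_of_isPrimePow (P.isPrimePow (by omega) hl)
  obtain ⟨q, _, r, hq, hr⟩ := FiniteField.card' K
  rw [← hM] at hc h1 h2 h3 h4 hm
  obtain rfl : p = q := by
    have f0 : f ≠ 0 := by rintro rfl; rw [pow_zero] at h2; omega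
    exact (Nat.prime_dvd_prime_iff_eq hp hq).1 (hp.dvd_of_dvd_pow (by
      rw [← hr, show Fintype.card K = p ^ f by omega]; exact dvd_pow_self p f0))
  refine ⟨K, inferInstance, inferInstance, p, ⟨hp⟩, inferInstance, by omega, ⟨hc, h1⟩, ?_⟩
  have h5 : 0 < Nat.card ↥(stabilizer G ((1 : G) : G ⧸ N) ⊓ stabilizer G (u : G ⧸ N)) := Nat.card_pos
  have h6 : m ≠ 0 := by rintro rfl; omega
  have h7 : m ≤ 2 := Nat.le_of_mul_le_mul_left (by omega) h5
  obtain rfl | rfl : m = 1 ∨ m = 2 := by omega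
  · exact Or.inl (P.nonempty_equiv_pgl (by omega) K (by omega))
  · have h8 := orderOf_dvd_natCard _ hs
    rw [orderOf_eq_prime (p := 2) (by rw [pow_two, B.zy y]) t1] at h8
    exact Or.inr ⟨by omega, P.nonempty_equiv_psl (by omega) K (by omega)⟩

end Big

end H35.BL
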