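import Cfsg.Agent.H35.BL1
import Cfsg.Agent.H66.CC
import Cfsg.Agent.H99.Product
import Cfsg.Agent.H28.ConjCount
import Cfsg.Agent.H5.FrobCompl
import Cfsg.Agent.H61.Dihedral
import Cfsg.Agent.H83.BaerSuzuki
import Cfsg.Agent.S1230
import Cfsg.Agent.S2503

/-! Bender's theorem on large TI-subgroups (S3043), part 3: the case `|N : M| = 2`. -/

set_option autoImplicit false
set_option linter.unusedSectionVars false

namespace H35.BL

open Subgroup H98

variable {G : Type*} [Group G] [Finite G] {M N : Subgroup G} {z g n t u v x y d c : G}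

/-- The normalizer is `M ∪ zM` and proper. -/
structure Two (M N : Subgroup G) (z : G) : Prop extends Big M N z where
  two : ∀ n ∈ N, n ∈ M ∨ z⁻¹ * n ∈ M
  out : ∃ g, g ∉ N

theorem Big.toTwo (B : Big M N z) (hu : u ∉ N) (uu : u * u = 1)
    (h : ∀ d ∈ N, u * d * u⁻¹ ∈ N → d * d = 1) : Two M N z := by
  refine ⟨B, fun n hn => ?_, u, hu⟩
  obtain ⟨x, hx, k⟩ := B.dec hu uu hn
  have h1 := mul_mem hn (B.le hx)
  by_cases e : n * x = 1
  · exact Or.inl (by rw [eq_inv_of_mul_eq_one_left e]; exact inv_mem hx)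
  · have := B.coset h1 (h _ h1 (k ▸ inv_mem h1)) e
    rw [← mul_assoc] at this
    exact Or.inr ((mul_mem_cancel_right hx).1 this)

theorem arith {m q e k : ℕ} (hq : q = 2 ^ e) (h2 : 2 < q) (hm : Odd m) (m1 : 1 < m)
    (h : k * q = m * (2 + m * (q - 2))) (hk : k ≤ m * (q - 1)) :
    1 < e ∧ (m = q + 1 ∧ k = m * (q - 1) ∨
      ∃ d, 1 ≤ d ∧ m = 2 ^ d + 1 ∧ k * q = m * (2 * 2 ^ (2 * d)) ∧ m * (q - 1) + 1 = k + 2 ^ (2 * d)) := by
  obtain ⟨d, rfl⟩ : ∃ d, e = d + 1 := ⟨e - 1, by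
    rcases e with _ | e
    · omega
    · rfl⟩
  have d1 : 1 ≤ d := by
    rcases d with _ | d
    · omega
    · omega
  refine ⟨by omega, ?_⟩
  rw [pow_succ] at hq
  have hc : Nat.Coprime (2 ^ d) m := Nat.Coprime.pow_left _ (Nat.coprime_two_left.2 hm)
  obtain ⟨r, hr⟩ : ∃ r, 2 ^ d = r + 1 := ⟨2 ^ d - 1, by omega⟩
  have hs : 2 ^ (2 * d) = (r + 1) ^ 2 := by rw [← hr, ← pow_mul, mul_comm]
  obtain ⟨n, rfl⟩ : ∃ n, m = n + 1 := ⟨m - 1, by omega⟩
  rw [hq, hr, show (r + 1) * 2 - 2 = 2 * r by omega] at h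
  rw [hq, hr, show (r + 1) * 2 - 1 = 2 * r + 1 by omega] at hk ⊢
  have r0 : 0 < r := by omega
  have h1 : k * (r + 1) = (n + 1) * (1 + (n + 1) * r) := by nlinarith
  have h3 : r + 1 ∣ 1 + (n + 1) * r := (hr ▸ hc).dvd_of_dvd_mul_left ⟨k, by rw [← h1, mul_comm]⟩
  have h4 : r + 1 ∣ n := (Nat.dvd_add_right h3).1 ⟨n + 1, by ring⟩
  obtain ⟨j, rfl⟩ := h4
  have h5 : k = ((r + 1) * j + 1) * (1 + j * r) := Nat.eq_of_mul_eq_mul_right r.succ_pos (by
    rw [Nat.succ_eq_add_one, h1]; ring)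
  have h6 : j ≤ 2 := by
    have := Nat.le_of_mul_le_mul_left (h5 ▸ hk) (by omega)
    exact Nat.le_of_mul_le_mul_right (by omega) r0
  obtain rfl | rfl | rfl : j = 0 ∨ j = 1 ∨ j = 2 := by omega
  · omega
  · exact Or.inr ⟨d, d1, by omega, by rw [hs, h5]; ring, by rw [hs, h5]; ring⟩
  · exact Or.inl ⟨by omega, by rw [h5]; ring⟩

namespace Two

variable (T : Two M N z)
include T

theorem sq' (hn : n ∈ N) (h : n ∉ M) : n * n = 1 := by
  simpa using T.mul_sq T.zN T.zz T.z1 ((T.two n hn).resolve_left h)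

theorem isCC : H66.IsCC M := fun x hx x1 => le_antisymm (fun g hg => by
  rw [mem_centralizer_singleton_iff] at hg
  refine by_contra fun k => x1 (T.fpf (T.sq' (T.ti x hx x1 g ?_) k) (fun e => k (e ▸ one_mem _)) hx hg)
  rwa [hg, mul_inv_cancel_right]) fun y hy => mem_centralizer_singleton_iff.2 (T.comm hy hx)

theorem cz_sq (h : g * z = z * g) : g * g = 1 := by
  by_cases hg : g ∈ N
  · by_cases k : g ∈ M
    · rw [T.fpf T.zz T.z1 k h.symm, one_mul]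
    · exact T.sq' hg k
  obtain ⟨x, hx, k⟩ := T.all g hg
  have e : g * x * z * (g * x)⁻¹ = x⁻¹ * z * x := by
    rw [← inv_eq_of_mul_eq_one_right k, inv_inv, mul_inv_rev, mul_assoc, mul_assoc, ← mul_assoc z,
      ← h]
    group
  have := T.invD (fun e => hg ((mul_mem_cancel_right (T.le hx)).1 e)) k T.zN
    (e ▸ mul_mem (mul_mem (inv_mem (T.le hx)) T.zN) (T.le hx))
  rw [e, inv_eq_of_mul_eq_one_right T.zz, mul_assoc, inv_mul_eq_iff_eq_mul] at this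
  simpa [T.fpf T.zz T.z1 hx this] using k

theorem cz_inf : {c : G | c * z = z * c} ∩ N = {1, z} := by
  ext n
  simp only [Set.mem_inter_iff, SetLike.mem_coe, Set.mem_ofPred_eq, Set.mem_insert_iff,
    Set.mem_singleton_iff]
  refine ⟨fun ⟨h, hn⟩ => (T.two n hn).imp (fun k => T.fpf T.zz T.z1 k h.symm) fun k =>
    (inv_mul_eq_one.1 (T.fpf T.zz T.z1 k ?_)).symm, ?_⟩
  · rw [mul_assoc, h]; group
  · rintro (rfl | rfl)
    exacts [⟨by simp, one_mem _⟩, ⟨rfl, T.zN⟩]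

theorem index : (M.subgroupOf N).index = 2 :=
  relIndex_eq_two_iff_exists_notMem_and'.2 ⟨z⁻¹, inv_mem T.zN,
    fun k => T.notMem T.zz T.z1 (inv_mem_iff.1 k), fun b hb => (T.two b hb).symm⟩

theorem card_N : Nat.card N = Nat.card M * 2 := by
  rw [← T.index, ← (M.subgroupOf N).card_mul_index,
    Nat.card_congr (subgroupOfEquivOfLe T.le).toEquiv]

theorem card_out : ({t : G | t * t = 1 ∧ t ≠ 1} \ N).ncard =
    (M : Set G).ncard * ({c : G | c * z = z * c} \ N).ncard := by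
  rw [← Set.ncard_prod, ← Set.InjOn.ncard_image (f := fun p : G × G => p.1 * p.2 * p.1⁻¹)]
  · congr 1
    ext u
    refine ⟨fun ⟨⟨uu, _⟩, hu⟩ => ?_, ?_⟩
    · obtain ⟨y, hy, k⟩ := T.exists_t hu uu
      refine ⟨(y, y⁻¹ * u * y), ⟨hy, ?_, fun e => hu ?_⟩, by group⟩
      · calc y⁻¹ * u * y * z = y⁻¹ * (u * (y * z * y⁻¹)) * y := by group
          _ = z * (y⁻¹ * u * y) := by rw [k]; group
      · simpa [mul_assoc] using mul_mem (mul_mem (T.le hy) e) (inv_mem (T.le hy))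
    · rintro ⟨⟨y, c⟩, ⟨hy, hc, cN⟩, rfl⟩
      refine ⟨⟨?_, fun e => cN ?_⟩, fun e => cN ?_⟩
      · rw [conj_mul, T.cz_sq hc]; simp
      · rw [conj_eq_one_iff.1 e]; exact one_mem _
      · exact (mul_mem_cancel_left (T.le hy)).1 ((mul_mem_cancel_right (inv_mem (T.le hy))).1 e)
  · rintro ⟨y, c⟩ ⟨hy, h1, -⟩ ⟨y', c'⟩ ⟨hy', h2, cN⟩ e
    have hw := mul_mem (inv_mem hy') hy
    simp only [Set.mem_ofPred_eq] at e hw h1 h2 cN
    have e1 : c' = y'⁻¹ * y * c * (y'⁻¹ * y)⁻¹ := by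
      calc _ = y'⁻¹ * (y' * c' * y'⁻¹) * y' := by group
        _ = _ := by rw [← e]; group
    have e2 : y'⁻¹ * y = 1 := by
      generalize y'⁻¹ * y = w at e1 hw
      have a1 : Commute c' (w * z * w⁻¹) := by rw [e1, Commute, SemiconjBy, conj_mul, conj_mul, h1]
      have a2 := (Commute.mul_right h2 a1).eq
      rw [← mul_assoc z, ← mul_assoc z, show z * w * z = w⁻¹ by
        rw [← T.inv T.zN T.zz T.z1 hw, inv_eq_of_mul_eq_one_right T.zz]] at a2
      exact inv_eq_one.1 (T.sq (inv_mem hw) (T.fpf (T.cz_sq h2) (fun e => cN (e ▸ one_mem N))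
        (mul_mem (inv_mem hw) (inv_mem hw)) a2))
    rw [e2, one_mul, inv_one, mul_one] at e1
    rw [e1, inv_mul_eq_one.1 e2]

theorem card_compl : ((N : Set G)ᶜ).ncard =
    ({t : G | t * t = 1 ∧ t ≠ 1} \ N).ncard * (M : Set G).ncard := by
  rw [← Set.ncard_prod, ← Set.InjOn.ncard_image (f := fun p : G × G => p.1 * p.2)]
  · congr 1
    ext g
    refine ⟨fun hg => ?_, ?_⟩
    · obtain ⟨x, hx, k⟩ := T.all g hg
      have hv : g * x ∉ N := fun k => hg ((mul_mem_cancel_right (T.le hx)).1 k)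
      exact ⟨(g * x, x⁻¹), ⟨⟨⟨k, fun e : g * x = 1 => hv (e ▸ one_mem N)⟩, hv⟩, inv_mem hx⟩, by simp⟩
    · rintro ⟨⟨u, x⟩, ⟨⟨-, hu⟩, hx⟩, rfl⟩ e
      exact hu ((mul_mem_cancel_right (T.le hx)).1 e)
  · rintro ⟨u, x⟩ ⟨⟨⟨uu, -⟩, hu⟩, hx⟩ ⟨v, y⟩ ⟨⟨⟨vv, -⟩, -⟩, hy⟩ e
    dsimp only at e uu vv
    have e1 := T.uniq hu uu (mul_mem hx (inv_mem hy)) (by
      rw [← mul_assoc u x, e, mul_inv_cancel_right, vv])
    obtain rfl := mul_inv_eq_one.1 e1
    rw [mul_right_cancel e]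

theorem card_in : ({t : G | t * t = 1 ∧ t ≠ 1} ∩ N).ncard = (M : Set G).ncard := by
  rw [← Set.ncard_image_of_injective (M : Set G) (mul_right_injective z)]
  congr 1
  ext t
  refine ⟨fun ⟨⟨tt, t1⟩, ht⟩ => ⟨_, T.coset ht tt t1, by simp⟩, ?_⟩
  rintro ⟨x, hx, rfl⟩
  exact ⟨⟨T.mul_sq T.zN T.zz T.z1 hx, fun e => T.notMem T.zz T.z1 (by
    rw [eq_inv_of_mul_eq_one_left e]; exact inv_mem hx)⟩, mul_mem T.zN (T.le hx)⟩

theorem isPGroup : IsPGroup 2 (centralizer ({z} : Set G)) :=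
  isPGroup_iff_forall.2 fun g hg => ⟨1, by
    rw [pow_one, pow_two, T.cz_sq (mem_centralizer_singleton_iff.1 hg)]⟩

theorem one_lt : 1 < Nat.card M := (one_lt_card_iff_ne_bot M).2 T.ne

/-- The numerical dichotomy. -/
theorem count : ∃ e, 1 < e ∧ Nat.card (centralizer ({z} : Set G)) = 2 ^ e ∧
    ((Nat.card M = 2 ^ e + 1 ∧ Nat.card G = 2 ^ e * ((2 ^ e + 1) * (2 ^ e - 1)) ∧
      ∀ t : G, t * t = 1 → t ≠ 1 → IsConj z t) ∨
    ∃ d, 1 ≤ d ∧ Nat.card M = 2 ^ d + 1 ∧ Nat.card G = Nat.card M * (2 * 2 ^ (2 * d)) ∧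
      ({t : G | t * t = 1 ∧ t ≠ 1} \ {x | IsConj z x}).ncard + 1 = 2 ^ (2 * d)) := by
  obtain ⟨e, he⟩ := IsPGroup.iff_card.1 T.isPGroup
  have h1 := T.card_out
  have h2 := T.card_compl
  have h3 := T.card_in
  have h4 := Set.ncard_add_ncard_compl (N : Set G)
  have h5 := Set.ncard_inter_add_ncard_sdiff_eq_ncard {t : G | t * t = 1 ∧ t ≠ 1} N
  have h6 := Set.ncard_inter_add_ncard_sdiff_eq_ncard {c : G | c * z = z * c} N
  have h7 := H28.card_isConj_mul_card_centralizer z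
  have h8 : {x | IsConj z x} ⊆ {t : G | t * t = 1 ∧ t ≠ 1} := fun x hx => by
    obtain ⟨c, rfl⟩ := isConj_iff.1 hx
    exact ⟨T.zy c, fun e => T.z1 (conj_eq_one_iff.1 e)⟩
  have h9 := Set.ncard_sdiff_add_ncard_of_subset h8
  have h10 : ({c : G | c * z = z * c} \ N).ncard ≠ 0 := by
    obtain ⟨g, hg⟩ := T.out
    obtain ⟨x, hx, k⟩ := T.all g hg
    have hv : g * x ∉ N := fun k => hg ((mul_mem_cancel_right (T.le hx)).1 k)
    intro e
    rw [e, mul_zero, Set.ncard_eq_zero] at h1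
    exact Set.notMem_empty (g * x) (h1 ▸ ⟨⟨k, fun e => hv (e ▸ one_mem N)⟩, hv⟩)
  have hq : {c : G | c * z = z * c}.ncard = 2 ^ e := by
    rw [← he, ← Nat.card_coe_set_eq]
    exact Nat.card_congr (Equiv.subtypeEquivRight fun _ => mem_centralizer_singleton_iff.symm)
  have hm : Odd (Nat.card M) := Nat.not_even_iff_odd.1 fun k => by
    obtain ⟨⟨x, hx⟩, k⟩ := exists_prime_orderOf_dvd_card' 2 k.two_dvd
    rw [← Subgroup.orderOf_coe] at k
    have := T.sq hx (by rw [← pow_two, ← k, pow_orderOf_eq_one])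
    simp [this] at k
  rw [T.cz_inf, Set.ncard_pair T.z1.symm, hq] at h6
  rw [← Nat.card_coe_set_eq, SetLike.coe_sort_coe, T.card_N, h2] at h4
  rw [← Nat.card_coe_set_eq (M : Set G), SetLike.coe_sort_coe] at h1 h3 h4
  rw [he, show Nat.card {x : G // IsConj z x} = {x | IsConj z x}.ncard from
    Nat.card_coe_set_eq {x | IsConj z x}] at h7
  rw [show ({c : G | c * z = z * c} \ N).ncard = 2 ^ e - 2 by omega] at h1
  have h11 : {t : G | t * t = 1 ∧ t ≠ 1}.ncard = Nat.card M * (2 ^ e - 1) := by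
    rw [← h5, h1, h3, show 2 ^ e - 1 = 2 ^ e - 2 + 1 by omega]; ring
  obtain ⟨e1, ⟨k1, k2⟩ | ⟨d, d1, k1, k2, k3⟩⟩ := arith (k := {x | IsConj z x}.ncard) rfl
    (show 2 < 2 ^ e by omega) hm T.one_lt (by rw [h7, ← h4, h1]; ring) (by omega)
  · refine ⟨e, e1, he, Or.inl ⟨k1, by rw [← h7, k2, k1, mul_comm], fun t tt t1 => ?_⟩⟩
    exact (Set.eq_of_subset_of_ncard_le h8 (by omega)).ge ⟨tt, t1⟩
  · exact ⟨e, e1, he, Or.inr ⟨d, d1, k1, by omega, by omega⟩⟩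

theorem case_psl {e : ℕ} (e1 : 1 < e) (he : Nat.card (centralizer ({z} : Set G)) = 2 ^ e)
    (hm : Nat.card M = 2 ^ e + 1) (hG : Nat.card G = 2 ^ e * ((2 ^ e + 1) * (2 ^ e - 1)))
    (h : ∀ t : G, t * t = 1 → t ≠ 1 → IsConj z t) :
    ∃ (F : Type) (_ : Field F) (_ : Fintype F) (e : ℕ), 1 < e ∧ Fintype.card F = 2 ^ e ∧ IsCyclic M ∧
      Nat.card M = 2 ^ e + 1 ∧ Nonempty (G ≃* Matrix.ProjectiveSpecialLinearGroup (Fin 2) F) := by
  have h4 : 2 ^ 2 ≤ 2 ^ e := Nat.pow_le_pow_right two_pos e1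
  have h2 : 2 ∣ 2 ^ e := dvd_pow_self 2 (by omega)
  have hS : IsSyl 2 (centralizer ({z} : Set G)) ⊤ := isSyl_of_not_dvd_relIndex le_top T.isPGroup (by
    have := (centralizer ({z} : Set G)).card_mul_index
    rw [he, hG] at this
    rw [relIndex_top_right, Nat.eq_of_mul_eq_mul_left (by omega) this, Nat.prime_two.dvd_mul]
    omega)
  have hsq : ∀ t c : G, orderOf t = 2 → c ∈ centralizer ({t} : Set G) → c * c = 1 := fun t c ht hc => by
    obtain ⟨g, rfl⟩ := isConj_iff.1 (h t (by rw [← pow_two, ← ht, pow_orderOf_eq_one])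
      fun e => by simp [e] at ht)
    have := T.cz_sq (g := g⁻¹ * c * g⁻¹⁻¹) (by
      calc _ = g⁻¹ * (c * (g * z * g⁻¹)) * g := by group
        _ = _ := by rw [mem_centralizer_singleton_iff.1 hc]; group)
    rwa [conj_mul, conj_eq_one_iff] at this
  obtain ⟨F, _, _, hF, ⟨φ⟩⟩ := Cfsg.Agent.S1230.result hS.toSylowTop (fun hc => by
      obtain ⟨⟨a, ha⟩, k⟩ := @IsCyclic.exists_ofOrder_eq_natCard (centralizer ({z} : Set G)) _ hc
      have := Nat.le_of_dvd two_pos (orderOf_dvd_of_pow_eq_one (x := a) (n := 2) (by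
        rw [pow_two, T.cz_sq (mem_centralizer_singleton_iff.1 ha)]))
      rw [← Subgroup.orderOf_coe] at k
      dsimp only at k
      omega)
    (fun hn => by
      obtain ⟨⟨x, hx⟩, x1⟩ := ne_bot_iff_exists_ne_one.1 T.ne
      have : x * z * x⁻¹ ∈ ({1, z} : Set G) := T.cz_inf ▸ ⟨mem_centralizer_singleton_iff.1
        (hn.conj_mem z (mem_centralizer_singleton_iff.2 rfl) x),
        mul_mem (mul_mem (T.le hx) T.zN) (inv_mem (T.le hx))⟩
      rcases this with k | k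
      · exact T.z1 (conj_eq_one_iff.1 k)
      · exact x1 (Subtype.ext (T.fpf T.zz T.z1 hx (mul_inv_eq_iff_eq_mul.1 k).symm)))
    fun t ht => ⟨⟨⟨fun a b => Subtype.ext (by
      have := hsq t _ ht (mul_mem a.2 b.2)
      rw [coe_mul, coe_mul, ← inv_eq_of_mul_eq_one_right this, mul_inv_rev,
        inv_eq_of_mul_eq_one_right (hsq t _ ht a.2), inv_eq_of_mul_eq_one_right (hsq t _ ht b.2)])⟩⟩,
      fun c hc => by rw [pow_two, hsq t c ht hc]⟩
  replace hF : Fintype.card F = 2 ^ e := hF.trans he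
  refine ⟨F, inferInstance, inferInstance, e, e1, hF, ?_, hm, ⟨φ⟩⟩
  obtain ⟨A, -, hA, k, -⟩ := Cfsg.Agent.S2503.result (F := F) (hF ▸ h2) (hF ▸ h4)
  obtain ⟨a, ha⟩ := IsCyclic.exists_ofOrder_eq_natCard (α := A)
  rw [k, hF, ← hm, ← Subgroup.orderOf_coe, ← φ.symm.orderOf_eq] at ha
  obtain ⟨g, hg⟩ := T.isCC.exists_conj_mem (x := φ.symm a) (by
    rw [ha, Nat.coprime_self]; exact T.one_lt.ne')
  refine isCyclic_of_orderOf_eq_card ⟨_, hg⟩ ?_
  rw [← Subgroup.orderOf_coe, ← ha, ← (MulAut.conj g⁻¹).orderOf_eq (φ.symm a)]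
  exact congrArg orderOf (by simp)

theorem case_aff {d : ℕ} (d1 : 1 ≤ d) (hm : Nat.card M = 2 ^ d + 1)
    (hG : Nat.card G = Nat.card M * (2 * 2 ^ (2 * d)))
    (h : ({t : G | t * t = 1 ∧ t ≠ 1} \ {x | IsConj z x}).ncard + 1 = 2 ^ (2 * d)) :
    ∃ E : Subgroup G, E.Normal ∧ Cfsg.IsElementaryAbelian 2 E ∧ Nat.card E = 2 ^ (2 * d) ∧
      E ⊓ N = ⊥ ∧ E ⊔ N = ⊤ ∧ Nonempty (N ≃* DihedralGroup (2 ^ d + 1)) := by
  set J := {t : G | t * t = 1 ∧ t ≠ 1} \ {x | IsConj z x} with hJ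
  have hK : ∀ x ∈ J, ∀ g : G, g * x * g⁻¹ ∈ J := fun x ⟨⟨h1, h2⟩, h3⟩ g =>
    ⟨⟨by rw [conj_mul, h1]; simp, fun e => h2 (conj_eq_one_iff.1 e)⟩,
      fun e => h3 (IsConj.trans e (isConj_iff.2 ⟨g, rfl⟩).symm)⟩
  have hP : IsPGroup 2 (closure J) := H83.baer_suzuki_set hK fun a ha b hb =>
    H83.isPGroup_closure_pair ha.1.1 hb.1.1 (k := 2 * d + 1) (by
      by_cases k : (orderOf (a * b)).Coprime (Nat.card M)
      · rw [← orderOf_dvd_iff_pow_eq_one, pow_succ']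
        exact k.dvd_of_dvd_mul_left (hG ▸ orderOf_dvd_natCard _)
      obtain ⟨g, hg⟩ := T.isCC.exists_conj_mem k
      by_cases e : a * b = 1
      · rw [e, one_pow]
      obtain ⟨⟨h1, h2⟩, h3⟩ := hK a ha g⁻¹
      obtain ⟨y, -, hy⟩ := T.conj_z (T.ti _ hg (fun k => e (conj_eq_one_iff.1 (by
        rwa [inv_inv] : g⁻¹ * (a * b) * g⁻¹⁻¹ = 1))) (g⁻¹ * a * g⁻¹⁻¹) (by
        rw [← inv_mem_iff]
        convert hg using 1
        calc _ = g⁻¹ * (a * b⁻¹ * (a * a)⁻¹) * g := by group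
          _ = _ := by rw [ha.1.1, inv_eq_of_mul_eq_one_right hb.1.1]; group)) h1 h2
      exact (h3 (isConj_iff.2 ⟨y, hy.symm⟩)).elim)
  have hn : (closure J).Normal := ⟨fun x hx g => closure_induction (fun x hx => subset_closure (hK x hx g))
    (by simp) (fun x y _ _ h1 h2 => by rw [← conj_mul]; exact mul_mem h1 h2)
    (fun x _ h1 => conj_inv (a := x) (b := g) ▸ inv_mem h1) hx⟩
  have hM : ∀ x ∈ closure J, x ∈ M → x = 1 := fun x hx hx' => by_contra fun x1 => by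
    obtain ⟨k, hk⟩ := isPGroup_iff_forall.1 hP x hx
    exact x1 (orderOf_eq_one_iff.1 ((Nat.Coprime.pow_right _ (Nat.coprime_two_right.2
      (T.odd x hx' x1 x rfl))).eq_one_of_dvd (orderOf_dvd_of_pow_eq_one hk)))
  have hN : closure J ⊓ N = ⊥ := eq_bot_iff.2 fun n ⟨h1, h2⟩ => by_contra fun n1 => by
    have k : n ∉ M := fun k => n1 (hM n h1 k)
    obtain ⟨⟨x, hx⟩, x1⟩ := ne_bot_iff_exists_ne_one.1 T.ne
    have := mul_mem (hn.conj_mem n h1 x) (inv_mem h1)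
    rw [show x * n * x⁻¹ * n⁻¹ = x * (n * x⁻¹ * n⁻¹) by group,
      T.inv h2 (T.sq' h2 k) n1 (inv_mem hx), inv_inv] at this
    exact x1 (Subtype.ext (T.sq hx (hM _ this (mul_mem hx hx))))
  have h1 : insert 1 J ⊆ closure J := Set.insert_subset (one_mem _) subset_closure
  have h2 : (insert 1 J).ncard = 2 ^ (2 * d) := by
    rw [Set.ncard_insert_of_notMem fun k => k.1.2 rfl, h]
  have h3 := Set.ncard_le_ncard h1
  have h4 : Nat.card (closure J) * Nat.card N = Nat.card ↥(closure J ⊔ N) := by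
    rw [← H99.card_sup_mul_card_inf_of_le_normalizer' (by rw [normalizer_eq_top]; exact le_top), hN,
      card_bot, mul_one]
  have h5 : Nat.card ↥(closure J ⊔ N) ≤ Nat.card G := card_le_card_group _
  have h6 : Nat.card (closure J) = (closure J : Set G).ncard := Nat.card_coe_set_eq _
  have h7 : Nat.card (closure J) = 2 ^ (2 * d) := le_antisymm (Nat.le_of_mul_le_mul_right
    (h4 ▸ h5.trans (by rw [hG, T.card_N]; exact le_of_eq (by ring))) Nat.card_pos) (by omega)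
  have h8 : ∀ x ∈ closure J, x * x = 1 := fun x hx => by
    rcases (Set.eq_of_subset_of_ncard_le h1 (by omega)).ge hx with rfl | k
    exacts [one_mul _, k.1.1]
  have hc : IsMulCommutative M := ⟨⟨fun a b => Subtype.ext (T.comm a.2 b.2)⟩⟩
  have hC : IsCyclic M := H5.isCyclic_of_fpf_of_comm (K := closure J) (fun e => by
      rw [e, card_bot] at h7
      have := Nat.one_lt_two_pow (show 2 * d ≠ 0 by omega)
      omega) (by rw [normalizer_eq_top]; exact le_top)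
    fun a ha a1 => eq_bot_iff.2 fun x hx => hM x hx.1 (T.isCC a ha a1 ▸ hx.2)
  refine ⟨closure J, hn, ⟨⟨⟨fun a b => Subtype.ext ?_⟩⟩, fun a ha => by rw [pow_two, h8 a ha]⟩, h7, hN,
    eq_top_of_card_eq _ (by rw [← h4, h7, hG, T.card_N]; ring), ?_⟩
  · rw [coe_mul, coe_mul, ← inv_eq_of_mul_eq_one_right (h8 _ (mul_mem a.2 b.2)), mul_inv_rev,
      inv_eq_of_mul_eq_one_right (h8 _ a.2), inv_eq_of_mul_eq_one_right (h8 _ b.2)]
  · rw [← hm, ← Nat.card_congr (subgroupOfEquivOfLe T.le).toEquiv]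
    exact H61.dihedral_of_index_two _ ((subgroupOfEquivOfLe T.le).isCyclic.2 hC) T.index
      fun g hg => Subtype.ext (T.sq' g.2 hg)

end Two

end H35.BL
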