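import Cfsg.Agent.H71.Glue
set_option maxRecDepth 1000000
set_option Elab.async false
namespace H35.CMTc1
open H71
noncomputable def nx_0 : ℕ := 0xe00000
noncomputable def nx_1 : ℕ := 0xda4000822
noncomputable def nx_2 : ℕ := 0x26018018032
noncomputable def nx_3 : ℕ := 0x82080080
noncomputable def nx_4 : ℕ := 0x48208241201
noncomputable def nx_5 : ℕ := 0x249249241249
noncomputable def nx_6 : ℕ := 0x240048200200
noncomputable def nx_7 : ℕ := 0x186005144080
noncomputable def nx_8 : ℕ := 0x3300e038039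
noncomputable def nx_9 : ℕ := 0x125000951
noncomputable def nx_10 : ℕ := 0xe00000
noncomputable def nx : Net := .cons 24 nx_0 <| .cons 12 nx_1 <| .cons 6 nx_2 <| .cons 3 nx_3 <| .cons 2 nx_4 <| .cons 1 nx_5 <| .cons 2 nx_6 <| .cons 3 nx_7 <| .cons 6 nx_8 <| .cons 12 nx_9 <| .cons 24 nx_10 <| .nil
theorem vnx : Net.valid 48 nx = true := by decide +kernel
noncomputable def nk_0 : ℕ := 0xe27680
noncomputable def nk_1 : ℕ := 0x4a2000e00
noncomputable def nk_2 : ℕ := 0x8032026
noncomputable def nk_3 : ℕ := 0x82080080106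
noncomputable def nk_4 : ℕ := 0x248241201048
noncomputable def nk_5 : ℕ := 0x249249249049
noncomputable def nk_6 : ℕ := 0x208200200008
noncomputable def nk_7 : ℕ := 0x103144084107
noncomputable def nk_8 : ℕ := 0x25031039022
noncomputable def nk_9 : ℕ := 0xf15000e04
noncomputable def nk_10 : ℕ := 0xf53e04
noncomputable def nk : Net := .cons 24 nk_0 <| .cons 12 nk_1 <| .cons 6 nk_2 <| .cons 3 nk_3 <| .cons 2 nk_4 <| .cons 1 nk_5 <| .cons 2 nk_6 <| .cons 3 nk_7 <| .cons 6 nk_8 <| .cons 12 nk_9 <| .cons 24 nk_10 <| .nil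
theorem vnk : Net.valid 48 nk = true := by decide +kernel
noncomputable def na : Net := .nil
theorem vna : Net.valid 48 na = true := by decide +kernel
noncomputable def nb : Net := .nil
theorem vnb : Net.valid 48 nb = true := by decide +kernel
noncomputable def nt : Net := .nil
theorem vnt : Net.valid 48 nt = true := by decide +kernel
noncomputable def nu : Net := .nil
theorem vnu : Net.valid 48 nu = true := by decide +kernel
noncomputable def nm : Net := .nil
theorem vnm : Net.valid 48 nm = true := by decide +kernel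
noncomputable def ne_0 : ℕ := 0xe00000
noncomputable def ne_1 : ℕ := 0x680000000
noncomputable def ne_2 : ℕ := 0x800400c020
noncomputable def ne_3 : ℕ := 0x80080080080
noncomputable def ne_4 : ℕ := 0x241248009200
noncomputable def ne_5 : ℕ := 0x249249209200
noncomputable def ne_6 : ℕ := 0x49209049240
noncomputable def ne_7 : ℕ := 0x86086086080
noncomputable def ne_8 : ℕ := 0x2303b00c020
noncomputable def ne_9 : ℕ := 0xe82000000
noncomputable def ne_10 : ℕ := 0xe00000
noncomputable def ne : Net := .cons 24 ne_0 <| .cons 12 ne_1 <| .cons 6 ne_2 <| .cons 3 ne_3 <| .cons 2 ne_4 <| .cons 1 ne_5 <| .cons 2 ne_6 <| .cons 3 ne_7 <| .cons 6 ne_8 <| .cons 12 ne_9 <| .cons 24 ne_10 <| .nil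
theorem vne : Net.valid 48 ne = true := by decide +kernel
noncomputable def nc_0 : ℕ := 0x400000
noncomputable def nc_1 : ℕ := 0xe0000400
noncomputable def nc_2 : ℕ := 0x8008028
noncomputable def nc_3 : ℕ := 0x84100080
noncomputable def nc_4 : ℕ := 0x1008200
noncomputable def nc_5 : ℕ := 0x201249200
noncomputable def nc_6 : ℕ := 0x8248040248
noncomputable def nc_7 : ℕ := 0x811c3080
noncomputable def nc_8 : ℕ := 0x17032037028
noncomputable def nc_9 : ℕ := 0x4f0000400
noncomputable def nc_10 : ℕ := 0x400000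
noncomputable def nc : Net := .cons 24 nc_0 <| .cons 12 nc_1 <| .cons 6 nc_2 <| .cons 3 nc_3 <| .cons 2 nc_4 <| .cons 1 nc_5 <| .cons 2 nc_6 <| .cons 3 nc_7 <| .cons 6 nc_8 <| .cons 12 nc_9 <| .cons 24 nc_10 <| .nil
theorem vnc : Net.valid 48 nc = true := by decide +kernel
noncomputable def nd_0 : ℕ := 0xe00000
noncomputable def nd_1 : ℕ := 0x90000000
noncomputable def nd_2 : ℕ := 0x4008004038
noncomputable def nd_3 : ℕ := 0x2080002080
noncomputable def nd_4 : ℕ := 0x1040
noncomputable def nd_5 : ℕ := 0x1200001240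
noncomputable def nd_6 : ℕ := 0x248049049208
noncomputable def nd_7 : ℕ := 0x1c5147002140
noncomputable def nd_8 : ℕ := 0x3703b006038
noncomputable def nd_9 : ℕ := 0xf6f000000
noncomputable def nd_10 : ℕ := 0xe00000
noncomputable def nd : Net := .cons 24 nd_0 <| .cons 12 nd_1 <| .cons 6 nd_2 <| .cons 3 nd_3 <| .cons 2 nd_4 <| .cons 1 nd_5 <| .cons 2 nd_6 <| .cons 3 nd_7 <| .cons 6 nd_8 <| .cons 12 nd_9 <| .cons 24 nd_10 <| .nil
theorem vnd : Net.valid 48 nd = true := by decide +kernel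
noncomputable def ns_0 : ℕ := 0x400000
noncomputable def ns_1 : ℕ := 0x5a0000800
noncomputable def ns_2 : ℕ := 0xc008018000
noncomputable def ns_3 : ℕ := 0x102080006000
noncomputable def ns_4 : ℕ := 0x9200008001
noncomputable def ns_5 : ℕ := 0x249200008201
noncomputable def ns_6 : ℕ := 0x208249249041
noncomputable def ns_7 : ℕ := 0x1c20801c6000
noncomputable def ns_8 : ℕ := 0x19018039000
noncomputable def ns_9 : ℕ := 0x5a0000800
noncomputable def ns_10 : ℕ := 0x400000
noncomputable def ns : Net := .cons 24 ns_0 <| .cons 12 ns_1 <| .cons 6 ns_2 <| .cons 3 ns_3 <| .cons 2 ns_4 <| .cons 1 ns_5 <| .cons 2 ns_6 <| .cons 3 ns_7 <| .cons 6 ns_8 <| .cons 12 ns_9 <| .cons 24 ns_10 <| .nil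
theorem vns : Net.valid 48 ns = true := by decide +kernel
noncomputable def gensN : List Net := [nx, Net.nil, nk]
noncomputable def invsN : List Net := [na, nb, nt, nu, nm, ne, nc, nd, ns]
noncomputable def A : ℕ → ℕ → ℕ := mkA gensN invsN
noncomputable def π : ℕ → Equiv.Perm ℕ := mkPi gensN invsN
theorem vG : ∀ r ∈ ([nx, Net.nil, nk] : List Net), Net.valid 48 r = true := by
  intro r hr
  simp only [List.mem_cons, List.not_mem_nil, or_false] at hr
  rcases hr with rfl | rfl | rfl
  · exact vnx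
  · rfl
  · exact vnk
theorem vI : ∀ r ∈ ([na, nb, nt, nu, nm, ne, nc, nd, ns] : List Net), Net.valid 48 r = true := by
  intro r hr
  simp only [List.mem_cons, List.not_mem_nil, or_false] at hr
  rcases hr with rfl | rfl | rfl | rfl | rfl | rfl | rfl | rfl | rfl
  · exact vna
  · exact vnb
  · exact vnt
  · exact vnu
  · exact vnm
  · exact vne
  · exact vnc
  · exact vnd
  · exact vns
theorem env : Env 48 π A := env_mk vG vI
theorem hN : 48 ≤ 2 ^ 6 := by norm_num
theorem pinv : ∀ l, π (linv 6 l) = (π l)⁻¹ := mkPi_inv' hN rfl vI (by decide +kernel)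
def R : List (List ℕ) := [[6,7,6,7],
  [6,8,6,8],
  [7,8,7,8],
  [6,9,6,9],
  [7,9,7,9],
  [8,9,8,9],
  [6,10,6,10],
  [7,10,7,10],
  [8,10,8,10],
  [9,10,9,10],
  [6,11,6,11],
  [7,11,7,11],
  [8,11,8,11],
  [9,11,6,9,11],
  [10,11,7,10,11],
  [6,12,6,12],
  [7,12,7,12],
  [8,12,8,12],
  [9,12,6,9,12],
  [10,12,6,7,8,10,12],
  [11,12,11,12],
  [6,13,6,13],
  [7,13,7,13],
  [8,13,8,13],
  [9,13,6,7,8,9,13],
  [10,13,7,10,13],
  [11,13,11,13],
  [12,13,12,13],
  [6,14,6,14],
  [7,14,6,7,14],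
  [8,14,8,14],
  [9,14,9,14],
  [10,14,8,9,10,14],
  [11,14,11,14],
  [12,14,6,12,14],
  [13,14,6,7,12,13,14],
  [0,6,1,7],
  [0,7,1,6,7],
  [0,8,1,8],
  [0,9,1,10],
  [0,10,1,8,9,10],
  [0,11,1,11],
  [0,12,1,13],
  [0,13,1,12,13],
  [4,6,5,6],
  [4,7,5,6,7,9],
  [4,8,5,8],
  [4,9,5,7,8],
  [4,10,5,6,7,8,10],
  [4,11,5,7,8,12,14],
  [4,12,5,6,7,8,9,11,14],
  [4,14,5,8,11],
  [0,0,0],
  [4,4,4],
  [14,0,14,0],
  [13,12,11,4,11,12,13,4],
  [0,4,0,4,1,5,1,5,7,12]]
def RH : List (List ℕ) := []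
def HL : List ℕ := [6,7,8,9,10,11,12,13,14]
def S : List ℕ := [0,1,4,5,6,7,8,9,10,11,12,13,14]
theorem relP : ∀ r ∈ R, evw π r = 1 := env.eq_one_of_allId hN (by decide +kernel)
def seeds : List (List ℕ) := []
theorem seeds_mem {G : Type*} [Group G] {val : ℕ → G} {H : Subgroup G} (hv : ∀ l, val (linv 6 l) = (val l)⁻¹) (he : val 15 = 1)
    (hR : ∀ r ∈ R ++ RH, evw val r = 1) (hH : ∀ l ∈ HL, val l ∈ H) : ∀ w ∈ seeds, evw val w ∈ H := by simp [seeds]
def spec : List ℕ := [425984,434176,294914,294918,311298,311302,319490,319494,335874,335878,344066,344070,360450,360454,376834,376838,442368,237574,278528,278532,352258,385026,385030,417794,417800,262152,327688,368642,368650,393218,393228,401410,401418,450572,409602,409606,409616,458756,458760,81920,90112,253952,106496,114688,458764,458768,335872,344064]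
noncomputable def rules : List (List ℕ) := spec.map (mkRule 6 R)
noncomputable def hs : List (List ℕ) := HL.map (fun z => [z]) ++ seeds
noncomputable def D0 : ℕ := Nat.shiftLeft 1 0
noncomputable def K0 : List ℕ := List.replicate 15 0
def steps0_0 : List ℕ := [3,16387,32771,49155,65539,81923,98307,114691,131075,0,4,16,20,0,4,16,20,1,2,5,18,9,13,17,21,25,29,33,37,41,45,49,53,57,61,65,58,69,73,77,81,85,89,93,97,101,105,109,113,117,121,125,129,133,54,137,50,141,145,58,149,2,153,6,157,161,165,9,13,17,21,25,29,33,37,41,45,49,53,57,61,65,58,169,173,69,73,77,81,85,89,93,97,101,105,109,113,117,121,125,129,133,54,137,50,141,145,58,149,2,177,6,181,1,2,157,161,165,29,185,2,189,2,173]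
theorem run0 : tcRun A 6 0 rules hs (steps0_0) (finSt A S (ival 0 45)) D0 K0 = true := by decide +kernel
theorem done {G : Type*} [Group G] {val : ℕ → G} {H : Subgroup G} (hv : ∀ l, val (linv 6 l) = (val l)⁻¹) (he : val 15 = 1)
    (hR : ∀ r ∈ R ++ RH, evw val r = 1) (hH : ∀ l ∈ HL, val l ∈ H) : TCDone val H π 0 S (ival 0 45) := by
  have T : TCHyp val H 48 π A 6 rules hs := tcHyp_mk env hv pinv (fun r hr => hR r (List.mem_append_left _ hr)) relP hH (seeds_mem hv he hR hH) spec
  have h0 : Inv val H π 0 D0 K0 := inv_init val H π 0 15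
  exact tcRun_fin T h0 run0
end H35.CMTc1
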