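import Cfsg.Agent.H71.Glue
set_option maxRecDepth 1000000
set_option Elab.async false
namespace H35.CMTc2
open H71
noncomputable def nx_0 : ℕ := 0x80000000
noncomputable def nx_1 : ℕ := 0xc4000000e780
noncomputable def nx_2 : ℕ := 0x4a0080
noncomputable def nx_3 : ℕ := 0xc04020e
noncomputable def nx_4 : ℕ := 0x2002002
noncomputable def nx_5 : ℕ := 0x1111111114514514
noncomputable def nx_6 : ℕ := 0x2222222223323322
noncomputable def nx_7 : ℕ := 0x30303030a0f0c0a
noncomputable def nx_8 : ℕ := 0x4e00b100e40080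
noncomputable def nx_9 : ℕ := 0x665d0000a780
noncomputable def nx_10 : ℕ := 0x80000000
noncomputable def nx : Net := .cons 32 nx_0 <| .cons 16 nx_1 <| .cons 8 nx_2 <| .cons 4 nx_3 <| .cons 2 nx_4 <| .cons 1 nx_5 <| .cons 2 nx_6 <| .cons 4 nx_7 <| .cons 8 nx_8 <| .cons 16 nx_9 <| .cons 32 nx_10 <| .nil
theorem vnx : Net.valid 64 nx = true := by decide +kernel
noncomputable def nh_0 : ℕ := 0x987f8000
noncomputable def nh_1 : ℕ := 0x12ca00008000
noncomputable def nh_2 : ℕ := 0x900070004a0000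
noncomputable def nh_3 : ℕ := 0x20c04020c040800
noncomputable def nh_4 : ℕ := 0x2002002002000022
noncomputable def nh_5 : ℕ := 0x4514514514510044
noncomputable def nh_6 : ℕ := 0x3323323323323033
noncomputable def nh_7 : ℕ := 0xc0a0f0c0a0f0e00
noncomputable def nh_8 : ℕ := 0x9800ad00e40000
noncomputable def nh_9 : ℕ := 0x9c6400008000
noncomputable def nh_10 : ℕ := 0xd87f8000
noncomputable def nh : Net := .cons 32 nh_0 <| .cons 16 nh_1 <| .cons 8 nh_2 <| .cons 4 nh_3 <| .cons 2 nh_4 <| .cons 1 nh_5 <| .cons 2 nh_6 <| .cons 4 nh_7 <| .cons 8 nh_8 <| .cons 16 nh_9 <| .cons 32 nh_10 <| .nil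
theorem vnh : Net.valid 64 nh = true := by decide +kernel
noncomputable def nk_0 : ℕ := 0x4000400000098
noncomputable def nk_1 : ℕ := 0x208
noncomputable def nk_2 : ℕ := 0x2000
noncomputable def nk_3 : ℕ := 0x5054510
noncomputable def nk_4 : ℕ := 0x132013212123320
noncomputable def nk_5 : ℕ := 0x60c060c05050c08
noncomputable def nk_6 : ℕ := 0x260026000000d8
noncomputable def nk : Net := .cons 8 nk_0 <| .cons 4 nk_1 <| .cons 2 nk_2 <| .cons 1 nk_3 <| .cons 2 nk_4 <| .cons 4 nk_5 <| .cons 8 nk_6 <| .nil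
theorem vnk : Net.valid 64 nk = true := by decide +kernel
noncomputable def na_0 : ℕ := 0x80000000
noncomputable def na_1 : ℕ := 0x8000
noncomputable def na_2 : ℕ := 0xff0000
noncomputable def na_3 : ℕ := 0xffff00008000
noncomputable def na_4 : ℕ := 0x80000000
noncomputable def na : Net := .cons 32 na_0 <| .cons 16 na_1 <| .cons 8 na_2 <| .cons 16 na_3 <| .cons 32 na_4 <| .nil
theorem vna : Net.valid 64 na = true := by decide +kernel
noncomputable def nb_0 : ℕ := 0x80000000
noncomputable def nb_1 : ℕ := 0x8000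
noncomputable def nb_2 : ℕ := 0x80
noncomputable def nb_3 : ℕ := 0xf00
noncomputable def nb_4 : ℕ := 0xff00ff00aa0080
noncomputable def nb_5 : ℕ := 0xc4c400008000
noncomputable def nb_6 : ℕ := 0x80000000
noncomputable def nb : Net := .cons 32 nb_0 <| .cons 16 nb_1 <| .cons 8 nb_2 <| .cons 4 nb_3 <| .cons 8 nb_4 <| .cons 16 nb_5 <| .cons 32 nb_6 <| .nil
theorem vnb : Net.valid 64 nb = true := by decide +kernel
noncomputable def nt_0 : ℕ := 0x80000000
noncomputable def nt_1 : ℕ := 0xf0f0f0f00000000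
noncomputable def nt_2 : ℕ := 0x11001100000000
noncomputable def nt_3 : ℕ := 0x22aa00000000
noncomputable def nt_4 : ℕ := 0x80000000
noncomputable def nt : Net := .cons 32 nt_0 <| .cons 4 nt_1 <| .cons 8 nt_2 <| .cons 16 nt_3 <| .cons 32 nt_4 <| .nil
theorem vnt : Net.valid 64 nt = true := by decide +kernel
noncomputable def nu_0 : ℕ := 0x80000000
noncomputable def nu_1 : ℕ := 0x8000
noncomputable def nu_2 : ℕ := 0x8
noncomputable def nu_3 : ℕ := 0x3333333300000030
noncomputable def nu_4 : ℕ := 0x505050500000508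
noncomputable def nu_5 : ℕ := 0xbe00be00a50000
noncomputable def nu_6 : ℕ := 0x6f9a00008000
noncomputable def nu_7 : ℕ := 0x80000000
noncomputable def nu : Net := .cons 32 nu_0 <| .cons 16 nu_1 <| .cons 4 nu_2 <| .cons 2 nu_3 <| .cons 4 nu_4 <| .cons 8 nu_5 <| .cons 16 nu_6 <| .cons 32 nu_7 <| .nil
theorem vnu : Net.valid 64 nu = true := by decide +kernel
noncomputable def nm_0 : ℕ := 0x80000000
noncomputable def nm_1 : ℕ := 0x8000
noncomputable def nm_2 : ℕ := 0x80
noncomputable def nm_3 : ℕ := 0x8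
noncomputable def nm_4 : ℕ := 0x2
noncomputable def nm_5 : ℕ := 0x5555555500000004
noncomputable def nm_6 : ℕ := 0x22
noncomputable def nm_7 : ℕ := 0xc0c0c0c00000c08
noncomputable def nm_8 : ℕ := 0x3000300c60080
noncomputable def nm_9 : ℕ := 0xcf8700008000
noncomputable def nm_10 : ℕ := 0x80000000
noncomputable def nm : Net := .cons 32 nm_0 <| .cons 16 nm_1 <| .cons 8 nm_2 <| .cons 4 nm_3 <| .cons 2 nm_4 <| .cons 1 nm_5 <| .cons 2 nm_6 <| .cons 4 nm_7 <| .cons 8 nm_8 <| .cons 16 nm_9 <| .cons 32 nm_10 <| .nil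
theorem vnm : Net.valid 64 nm = true := by decide +kernel
noncomputable def ne_0 : ℕ := 0x80000000
noncomputable def ne_1 : ℕ := 0x8000
noncomputable def ne_2 : ℕ := 0x80
noncomputable def ne_3 : ℕ := 0x3300
noncomputable def ne_4 : ℕ := 0xf0f0f0f0f0f0a00
noncomputable def ne_5 : ℕ := 0xbb00bb00880080
noncomputable def ne_6 : ℕ := 0x199100008000
noncomputable def ne_7 : ℕ := 0x80000000
noncomputable def ne : Net := .cons 32 ne_0 <| .cons 16 ne_1 <| .cons 8 ne_2 <| .cons 2 ne_3 <| .cons 4 ne_4 <| .cons 8 ne_5 <| .cons 16 ne_6 <| .cons 32 ne_7 <| .nil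
theorem vne : Net.valid 64 ne = true := by decide +kernel
noncomputable def nc_0 : ℕ := 0x80000000
noncomputable def nc_1 : ℕ := 0x8000
noncomputable def nc_2 : ℕ := 0x80
noncomputable def nc_3 : ℕ := 0x33333300
noncomputable def nc_4 : ℕ := 0xa0a0a0a0f0f0500
noncomputable def nc_5 : ℕ := 0x55005500280080
noncomputable def nc_6 : ℕ := 0x8800008000
noncomputable def nc_7 : ℕ := 0x80000000
noncomputable def nc : Net := .cons 32 nc_0 <| .cons 16 nc_1 <| .cons 8 nc_2 <| .cons 2 nc_3 <| .cons 4 nc_4 <| .cons 8 nc_5 <| .cons 16 nc_6 <| .cons 32 nc_7 <| .nil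
theorem vnc : Net.valid 64 nc = true := by decide +kernel
noncomputable def nd_0 : ℕ := 0x80000000
noncomputable def nd_1 : ℕ := 0x8000
noncomputable def nd_2 : ℕ := 0x80
noncomputable def nd_3 : ℕ := 0x5500
noncomputable def nd_4 : ℕ := 0x22223300
noncomputable def nd_5 : ℕ := 0x303030305050600
noncomputable def nd_6 : ℕ := 0x88008800f50080
noncomputable def nd_7 : ℕ := 0x6e6e00008000
noncomputable def nd_8 : ℕ := 0x80000000
noncomputable def nd : Net := .cons 32 nd_0 <| .cons 16 nd_1 <| .cons 8 nd_2 <| .cons 1 nd_3 <| .cons 2 nd_4 <| .cons 4 nd_5 <| .cons 8 nd_6 <| .cons 16 nd_7 <| .cons 32 nd_8 <| .nil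
theorem vnd : Net.valid 64 nd = true := by decide +kernel
noncomputable def ns_0 : ℕ := 0x80000000
noncomputable def ns_1 : ℕ := 0x8000
noncomputable def ns_2 : ℕ := 0x8
noncomputable def ns_3 : ℕ := 0x55550050
noncomputable def ns_4 : ℕ := 0x2222222233331130
noncomputable def ns_5 : ℕ := 0xa0a0a0a0f0f0008
noncomputable def ns_6 : ℕ := 0xaa00aa00810000
noncomputable def ns_7 : ℕ := 0xb2cf00008000
noncomputable def ns_8 : ℕ := 0x80000000
noncomputable def ns : Net := .cons 32 ns_0 <| .cons 16 ns_1 <| .cons 4 ns_2 <| .cons 1 ns_3 <| .cons 2 ns_4 <| .cons 4 ns_5 <| .cons 8 ns_6 <| .cons 16 ns_7 <| .cons 32 ns_8 <| .nil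
theorem vns : Net.valid 64 ns = true := by decide +kernel
noncomputable def gensN : List Net := [nx, nh, nk]
noncomputable def invsN : List Net := [na, nb, nt, nu, nm, ne, nc, nd, ns]
noncomputable def A : ℕ → ℕ → ℕ := mkA gensN invsN
noncomputable def π : ℕ → Equiv.Perm ℕ := mkPi gensN invsN
theorem vG : ∀ r ∈ ([nx, nh, nk] : List Net), Net.valid 64 r = true := by
  intro r hr
  simp only [List.mem_cons, List.not_mem_nil, or_false] at hr
  rcases hr with rfl | rfl | rfl
  · exact vnx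
  · exact vnh
  · exact vnk
theorem vI : ∀ r ∈ ([na, nb, nt, nu, nm, ne, nc, nd, ns] : List Net), Net.valid 64 r = true := by
  intro r hr
  simp only [List.mem_cons, List.not_mem_nil, or_false] at hr
  rcases hr with rfl | rfl | rfl | rfl | rfl | rfl | rfl | rfl | rfl
  · exact vna
  · exact vnb
  · exact vnt
  · exact vnu
  · exact vnm
  · exact vne
  · exact vnc
  · exact vnd
  · exact vns
theorem env : Env 64 π A := env_mk vG vI
theorem hN : 64 ≤ 2 ^ 6 := by norm_num
theorem pinv : ∀ l, π (linv 6 l) = (π l)⁻¹ := mkPi_inv' hN rfl vI (by decide +kernel)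
def R : List (List ℕ) := [[6,7,6,7],
  [6,8,6,8],
  [7,8,7,8],
  [6,9,6,9],
  [7,9,7,9],
  [8,9,8,9],
  [6,10,6,10],
  [7,10,7,10],
  [8,10,8,10],
  [9,10,9,10],
  [6,11,6,11],
  [7,11,7,11],
  [8,11,8,11],
  [9,11,6,9,11],
  [10,11,7,10,11],
  [6,12,6,12],
  [7,12,7,12],
  [8,12,8,12],
  [9,12,6,9,12],
  [10,12,6,7,8,10,12],
  [11,12,11,12],
  [6,13,6,13],
  [7,13,7,13],
  [8,13,8,13],
  [9,13,6,7,8,9,13],
  [10,13,7,10,13],
  [11,13,11,13],
  [12,13,12,13],
  [6,14,6,14],
  [7,14,6,7,14],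
  [8,14,8,14],
  [9,14,9,14],
  [10,14,8,9,10,14],
  [11,14,11,14],
  [12,14,6,12,14],
  [13,14,6,7,12,13,14],
  [0,6,1,7],
  [0,7,1,6,7],
  [0,8,1,8],
  [0,9,1,10],
  [0,10,1,8,9,10],
  [0,11,1,11],
  [0,12,1,13],
  [0,13,1,12,13],
  [2,6,3,6],
  [2,7,3,8,11],
  [2,8,3,6,7,8,11,12],
  [2,9,3,6,7,8,11,12,14],
  [2,11,3,12],
  [2,12,3,11,12],
  [2,13,3,12,13],
  [2,14,3,6,8,9,14],
  [4,6,5,6],
  [4,7,5,6,7,9],
  [4,8,5,8],
  [4,9,5,7,8],
  [4,10,5,6,7,8,10],
  [4,11,5,7,8,12,14],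
  [4,12,5,6,7,8,9,11,14],
  [4,14,5,8,11],
  [0,0,0],
  [2,2,2],
  [4,4,4],
  [14,0,14,0],
  [13,12,11,10,9,8,7,6,2,6,7,8,9,10,11,12,13,2],
  [13,12,11,4,11,12,13,4],
  [2,4,3,5],
  [0,2,1,3,0,2,11],
  [0,4,0,4,1,5,1,5,7,12]]
def RH : List (List ℕ) := []
def HL : List ℕ := [0,1,4,5,6,7,8,9,10,11,12,13,14]
def S : List ℕ := [0,1,2,3,4,5,6,7,8,9,10,11,12,13,14]
theorem relP : ∀ r ∈ R, evw π r = 1 := env.eq_one_of_allId hN (by decide +kernel)
def seeds : List (List ℕ) := []
theorem seeds_mem {G : Type*} [Group G] {val : ℕ → G} {H : Subgroup G} (hv : ∀ l, val (linv 6 l) = (val l)⁻¹) (he : val 15 = 1)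
    (hR : ∀ r ∈ R ++ RH, evw val r = 1) (hH : ∀ l ∈ HL, val l ∈ H) : ∀ w ∈ seeds, evw val w ∈ H := by simp [seeds]
def spec : List ℕ := [491520,499712,507904,360450,360454,393218,393222,540674,540678,368642,401410,401414,409602,409608,434186,196616,417794,548866,548870,376834,376840,385026,385040,557062,294914,294918,311298,311302,319494,335874,335878,344066,344070,425986,425990,442370,442374,516096,540672,540676,237574,278528,278532,352258,450562,483330,483336,417798,417802,458754,466946,548868,475138,81920,319490,262152,327688,155648,548872,532480,557058,106502,237568,303110,483328,262144,466944,548864,532486,475136,557066,557070,557072,24576,32768]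
noncomputable def rules : List (List ℕ) := spec.map (mkRule 6 R)
noncomputable def hs : List (List ℕ) := HL.map (fun z => [z]) ++ seeds
noncomputable def D0 : ℕ := Nat.shiftLeft 1 0
noncomputable def K0 : List ℕ := List.replicate 15 0
def steps0_0 : List ℕ := [3,2,32771,18,65539,81923,98307,114691,131075,147459,163843,180227,196611,8,12,0,4,16,20,0,4,8,12,1,2,5,10,9,18,13,17,21,25,29,18,33,22,37,41,45,49,53,57,61,65,69,10,73,14,77,81,85,89,93,18,97,101,105,109,113,117,121,125,129,25,133,137,141,145,149,58,153,10,29,18,157,14,33,22,161,165,169,173,177,181,185,189,193,38,197,201,69,10,205,6,73,14,209,93,18,213,101,105,109,217,113,117,121,129,25,149,58,153,10,29,18,157,14,33,22,37,41,50,53,177,181,221,225,229,197,205,6,233,2,237,54,241,18,97,217,113,125,129,13,21,133,149,58,29,18,33,22,245,249,161,165,169,253,173,41,45,49,53,177,257,18,261,221,225,65,265,18,269,2,77,273,18,85,277,18,241,18,93,18,281,22,285,22,289,30,9,18,293,297,105,113,141,145,149,181]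
theorem run0 : tcRun A 6 0 rules hs (steps0_0) (finSt A S (ival 0 63)) D0 K0 = true := by decide +kernel
theorem done {G : Type*} [Group G] {val : ℕ → G} {H : Subgroup G} (hv : ∀ l, val (linv 6 l) = (val l)⁻¹) (he : val 15 = 1)
    (hR : ∀ r ∈ R ++ RH, evw val r = 1) (hH : ∀ l ∈ HL, val l ∈ H) : TCDone val H π 0 S (ival 0 63) := by
  have T : TCHyp val H 64 π A 6 rules hs := tcHyp_mk env hv pinv (fun r hr => hR r (List.mem_append_left _ hr)) relP hH (seeds_mem hv he hR hH) spec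
  have h0 : Inv val H π 0 D0 K0 := inv_init val H π 0 15
  exact tcRun_fin T h0 run0
end H35.CMTc2
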