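import Cfsg.Agent.H35.CMTc0
import Cfsg.Agent.H35.CMTc1
import Cfsg.Agent.H35.CMTc2
import Cfsg.Agent.H22.SpCover
import Cfsg.Agent.H22.HNKit

/-! Tower CO3M: `Sp₆(2)` is presented by its three minimal parabolic subgroups. -/

set_option autoImplicit false
set_option maxRecDepth 100000

namespace H35.CM

open H49 H71 H22.Sp6

theorem tc_bound {K : Type*} [Group K] {val : ℕ → K} (h : Sat 6 15 CMTc2.R val) :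
    Bd val CMTc2.S 1451520 :=
  (CMTc2.done h.hv h.he h.hR fun _ hl => mem_gen val hl).step
    ((CMTc1.done h.hv h.he (rels_of_subset h.hR (by decide +kernel)) fun _ hl => mem_gen val hl).step
      ((CMTc0.done h.hv h.he (rels_of_subset h.hR (by decide +kernel))
        fun _ hl => mem_gen val hl).step (gen_nil_card val)))

/-- The letters in the model. -/
noncomputable def mv : ℕ → UG CS6 := mkVal
  ([[3, 2, 4, 3, 6, 3, 2, 1, 0, 4, 3, 2, 1, 6, 3, 2, 4, 3],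
    [1, 0, 2, 1, 3, 2, 1, 0, 4, 3, 2, 1, 0, 5, 4, 3, 2, 1, 0, 6, 3, 2, 1, 4, 3, 2, 5, 6, 3, 4],
    [0, 2, 1, 3, 2, 4, 3, 6, 3, 2, 1, 0, 4, 3]].map (wd gS))
  ([[0, 1, 0, 2, 1, 0, 3, 2, 1, 0, 4, 3, 2, 1, 6, 3, 2, 1, 0, 4, 3, 2, 1, 6, 3, 2, 4, 3],
    [2, 3, 2, 4, 3, 2, 6, 3, 2, 4, 3, 6],
    [0, 1, 0, 2, 1, 0, 3, 2, 1, 0, 4, 3, 2, 1, 0, 6, 3, 2, 1, 0, 4, 3, 2, 1, 6, 3, 2, 4, 3, 6],
    [1, 2, 3, 2, 4, 3, 6, 3, 2, 1, 4, 3], [2, 3, 4, 3, 6, 3, 2, 4], [0, 2, 4],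
    [0, 3, 2, 4, 3, 2, 6, 3, 2, 4, 3, 6],
    [0, 1, 0, 2, 1, 0, 3, 2, 4, 3, 6, 3, 2, 1, 0, 4, 3, 2, 1, 6], [1, 0, 2, 1, 6]].map (wd gS))

theorem mv_sat : Sat 6 15 CMTc2.R mv :=
  ⟨mkVal_inv _ _ (by decide +kernel), rfl, by decide +kernel⟩

theorem mv_top : gen mv CMTc2.S = ⊤ := by
  rw [eq_top_iff, ← τ_top]
  refine gen_le fun l hl => ?_
  obtain ⟨w, h1, h2⟩ := (by decide +kernel : ∀ l ∈ S7, ∃ w ∈ [[0, 3, 8, 2, 1], [4, 0, 2, 8, 3, 1, 5],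
    [1, 3, 8, 2, 0], [0, 4, 1, 2, 8, 3, 0, 5, 1], [3, 8, 2], [2, 1, 5, 0, 3, 8, 2, 1, 4, 0, 3],
    [2, 8, 3]], evw mv w = τ l) l hl
  rw [← h2]
  exact evw_mem fun r hr => mem_gen _ ((by decide +kernel : ∀ w ∈ [[0, 3, 8, 2, 1],
    [4, 0, 2, 8, 3, 1, 5], [1, 3, 8, 2, 0], [0, 4, 1, 2, 8, 3, 0, 5, 1], [3, 8, 2],
    [2, 1, 5, 0, 3, 8, 2, 1, 4, 0, 3], [2, 8, 3]], ∀ r ∈ w, r ∈ CMTc2.S) w h1 r hr)

theorem card_X : Nat.card (UG CS6) = 1451520 := by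
  obtain ⟨φ⟩ := nonempty_equiv
  rw [Nat.card_congr φ.toEquiv, card_sp6]

theorem exists_psi {K : Type*} [Group K] {val : ℕ → K} (h : Sat 6 15 CMTc2.R val) :
    ∃ ψ : UG CS6 →* K, ψ (τ 0 * τ 2 * τ 4) = val 11 ∧ ∀ l ∈ CMTc2.S, val l ∈ ψ.range := by
  obtain ⟨ψ, hψ⟩ := H22.HK.exists_hom_top (tc_bound (h.pair mv_sat)) card_X.ge mv_top
  exact ⟨ψ, by rw [← hψ 11 (by decide), show mv 11 = τ 0 * τ 2 * τ 4 by decide +kernel],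
    fun l hl => ⟨_, hψ l hl⟩⟩

end H35.CM
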