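import Cfsg.Agent.H35.CMSt2

/-! Tower CO3M: the group of order `2¹⁰`; two types survive. -/

set_option autoImplicit false
set_option linter.unusedSectionVars false

namespace H35.CM

open Subgroup H14 H98 H1.Gold H31.S2 H85.FZ Cfsg

universe u
variable {G : Type u} [Group G] [Finite G] {T : Tb} {l l' : List G} {im : List (List ℕ)}
  {z a b e c s d x g h u y v w n : G} {fc fs κ β : Bool}

/-- Letters `z, a, b, e, c, s, y, v, d, w`. -/
def T10 : Bool → Bool → Tb
  | false, β => tb 10 [[],[],[],[],[[],[],[2,0]],[[],[],[2,1],[],[4,1,0]],[[],[],[],[3,0]],[[],[],[],[3,1]],[[],[1,0],[],[],[],[5,4,2,1],[],[7,6]],[[],[],[],[3,2],[6,4],cond β [7,5,0] [7,5]]]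
  | true, β => tb 10 [[],[],[],[],[[],[],[2,0]],[[],[],[2,1],[],[4,1,0]],[[],[],[],[3,0],[],[5,0]],[[],[],[],[3,1],[4,1,0],[5,1],[6,1]],[[],[1,0],[],[],[],[5,4,2,1],[],[7,6,3,2,1]],[[],[],[],[3,2],[6,4,3,2,1,0],cond β [7,5,0] [7,5],[6,2],[],[8,2,0]]] [[],[],[],[],[],[],[],[1],[],[2]]

def fpw (fs β : Bool) : List ℕ := cond fs [2, 1] [] ++ cond β [0] []

def imX10 (fs β : Bool) : List (List ℕ) :=
  [[0],[2],[1,2],[3],[8],[],[6],[9],[4,8], 9 :: 7 :: fpw fs β]

def im3 (fs : Bool) (om fp : List ℕ) : List (List ℕ) :=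
  [[0],[1],[2],[3,2],cond fs [6,4,3,2,1,0] [6,4], 7 :: (fp ++ (cond fs [2, 1] [] ++ [5])),
    cond fs [6,2] [6], 7 :: om, cond fs [8,2,0] [8]]

/-- The group of order `2¹⁰`: wreath type (`fs = false`) and `Co₃` type. -/
structure St3 (z a b e c s d x g y v w : G) (fs β : Bool) : Prop where
  loc : Loc z a b e c s d x g
  pi : PI (T10 fs β) [z, a, b, e, c, s, y, v, d, w]
  ig : Im (val [z, a, b, e, c, s, y, v, d, w]) g (imG8 fs fs)
  ix : Im (val [z, a, b, e, c, s, y, v, d, w]) x (imX10 fs β)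

theorem St2.exists_st3 (S : St2 z a b e c s d x g y v fs κ) :
    ∃ w β, St3 z a b e c s d x g y v w fs β := by
  have L := S.loc
  have P := S.pi
  have DX := S.ix.does P.pres
  have DI := L.does_xi DX
  have DV : Does (val [z, a, b, e, c, s, y, v, d]) v (iF (T9 fs κ) [7]) := (P.inn [7]).eq (by simp)
  have DVi : Does (val [z, a, b, e, c, s, y, v, d]) v⁻¹ (iF (T9 fs κ) (iv (T9 fs κ) [7])) :=
    (P.inn _).eq (by rw [P.iv (by cases κ <;> cases fs <;> rfl)]; simp)
  have D3 := DX.mul (DV.mul DI)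
  have D3i := (DX.mul (DVi.mul DI)).eq (γ' := (x * (v * x⁻¹))⁻¹) (by group)
  have D4 := (DX.mul (DX.mul (DV.mul DX))).eq (γ' := x * (x * (v * x⁻¹)) * x⁻¹) (by
    rw [mul_assoc x, mul_assoc x, mul_assoc v, ← mul_inv_rev, ← L.xi, inv_inv])
  set w := x * (v * x⁻¹) with hw
  have fix : ∀ {γ : G} {φ : Fn}, Does (val [z, a, b, e, c, s, y, v, d]) γ φ →
      ([0, 1, 2, 3].all fun r => hit (T9 fs κ) φ [r] [r]) = true →
      ∃ k ∈ subs 4, γ = W (val [z, a, b, e, c, s, y, v, d]) k := fun D k => by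
    simp only [List.all_cons, List.all_nil, Bool.and_true, Bool.and_eq_true] at k
    exact L.cen4 _ (conj_fix (by simpa using D.hit P.pres k.2.2.2))
      (conj_fix (by simpa using D.hit P.pres k.1)) (conj_fix (by simpa using D.hit P.pres k.2.1))
      (conj_fix (by simpa using D.hit P.pres k.2.2.1))
  obtain ⟨fp, h1, e1⟩ := fix (DVi.mul (D3i.mul D4)) (by cases κ <;> cases fs <;> decide +kernel)
  obtain ⟨om, h2, e2⟩ := fix (DVi.mul (D3i.mul (DV.mul D3))) (by cases κ <;> cases fs <;> decide +kernel)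
  obtain ⟨rfl, β, rfl⟩ : κ = fs ∧ ∃ β : Bool, fp = fpw fs β :=
    (by decide +kernel : ∀ fs κ : Bool, ∀ k ∈ subs 4, (∀ r ∈ [3, 4, 6, 8], agr (T9 fs κ)
      (iF (T9 fs κ) (iv (T9 fs κ) [7]) ∘∘
        (oF (T9 fs κ) imX9 ∘∘ iF (T9 fs κ) (iv (T9 fs κ) [7]) ∘∘ oF (T9 fs κ) imX9 ∘∘ oF (T9 fs κ) imX9) ∘∘
        oF (T9 fs κ) imX9 ∘∘ oF (T9 fs κ) imX9 ∘∘ iF (T9 fs κ) [7] ∘∘ oF (T9 fs κ) imX9)
      (iF (T9 fs κ) k) [r] [r] = true) → κ = fs ∧ ∃ β : Bool, k = fpw fs β) fs κ fp h1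
    fun r _ => (DVi.mul (D3i.mul D4)).agr (P.inn fp) P.pres P.ind (by rw [e1])
  have si : s⁻¹ = s := inv_eq_of_mul_eq_one_right L.ss
  have i3 : Im (val [z, a, b, e, c, s, y, v, d]) w⁻¹ (im3 κ om (fpw κ β)) :=
    Im.of_lt fun r hr hn => by
      have hr : r < 9 := hr
      rcases (show (r ≠ 5 ∧ r ≠ 7) ∨ r = 5 ∨ r = 7 by omega) with k | rfl | rfl
      · have := D3i.toIm P.pres (im := ((im3 κ [] []).set 5 []).set 7 []) [] (by simp)
          (by cases κ <;> decide +kernel) r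
        interval_cases r <;> first | exact this hn | omega
      · have k1 : s * v * s = v * W (val [z, a, b, e, c, s, y, v, d]) (cond κ [1] []) := by
          simpa [mul_assoc] using P.eq (w := [5, 7, 5]) (w' := 7 :: cond κ [1] []) (by cases κ <;> rfl)
        have k2 := DI.hit P.pres (u := cond κ [1] []) (v := cond κ [2, 1] []) (by cases κ <;> rfl)
        simp only [im3, List.getD_cons_succ, List.getD_cons_zero, W_cons, W_append, W_nil, val_succ,
          val_zero]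
        rw [← e1, ← k2]
        have k3 : s * w * s = x⁻¹ * (s * v * s) * x := by
          calc _ = s * x * s * (s * v * s) * (s * x⁻¹ * s) := by
                simp only [hw, mul_assoc, ← mul_assoc s s, L.ss, one_mul]
            _ = _ := by rw [L.sx, L.sxi]
        have k4 : x * w * x⁻¹ = x⁻¹ * v * x := by
          rw [hw, ← mul_assoc x x, ← L.xi, mul_assoc, mul_assoc v, ← mul_inv_rev, ← L.xi, inv_inv,
            mul_assoc]
        calc _ = w⁻¹ * (s * w * s) * s := by simp only [mul_assoc, L.ss, mul_one, inv_inv]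
          _ = _ := by rw [k3, k1, k4]; group
      · simp only [im3, List.getD_cons_succ, List.getD_cons_zero, W_cons, val_succ, val_zero]
        rw [← e2]; group
  have ww : w * w = W (val [z, a, b, e, c, s, y, v, d]) (cond κ [2] []) := by
    rw [← DX.hit P.pres (u := cond κ [1] []) (by cases κ <;> rfl),
      ← P.eq (w := [7, 7]) (by cases κ <;> rfl), hw]
    simp [mul_assoc]
  have D3' := i3.does P.pres
  obtain rfl : om = [] := (by decide +kernel : ∀ κ β : Bool, ∀ k ∈ subs 4, (∀ r < 9, agr (T9 κ κ)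
      (iF (T9 κ κ) (cond κ [2] []) ∘∘ oF (T9 κ κ) (im3 κ k (fpw κ β)) ∘∘ oF (T9 κ κ) (im3 κ k (fpw κ β)))
      some [r] [r] = true) → autB (T9 κ κ) (oF (T9 κ κ) (im3 κ k (fpw κ β))) = true → k = [])
    κ β om h2 (fun r _ => ((P.inn _).mul (D3'.mul D3')).agr Does.one P.pres P.ind (by
      rw [← ww]; group)) (D3'.autB P.pres P.ind)
  refine ⟨w, β, L, P.snoc (T10 κ β) i3 (by rw [ww]; cases κ <;> rfl)
    (fun k => P.notMem (Ω := [[3], [3, 0], [3, 1], [3, 1, 0]]) (u := [3]) (v := [3, 2])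
      (by simpa [im3] using i3 3 (by simp [im3])) (by cases κ <;> decide +kernel) (inv_mem k))
    (by cases κ <;> cases β <;> decide +kernel), S.ig.snoc w (by cases κ <;> rfl),
    Im.of_lt fun r hr hn => ?_⟩
  have hr : r < 10 := hr
  rcases (show (r ≠ 7 ∧ r ≠ 9) ∨ r = 7 ∨ r = 9 by omega) with k | rfl | rfl
  · have := S.ix.snoc w rfl r
    interval_cases r <;> first | exact this hn | omega
  · simp [imX10, hw, mul_assoc]
  · simp only [imX10, List.getD_cons_succ, List.getD_cons_zero, W_cons, val_succ, val_zero]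
    rw [W_pre (l' := [z, a, b, e, c, s, y, v, d]) 9 (by simp) (by cases κ <;> cases β <;> rfl), ← e1]
    group

theorem exists_st3 (he : orderOf e = 2)
    (hC : Nonempty (centralizer ({e} : Set G) ≃* Multiplicative (ZMod 2) × Spor.M12))
    (hO : e ∈ pResidual 2 G) :
    ∃ z a b c s d x g y v w fs β, St3 z a b e c s d x g y v w fs β := by
  obtain ⟨z, a, b, c, s, d, x, g, L⟩ := exists_loc he hC hO
  obtain ⟨y, fc, fs, S1⟩ := L.exists_st1
  obtain ⟨v, κ, S2⟩ := S1.exists_st2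
  obtain ⟨w, β, S3⟩ := S2.exists_st3
  exact ⟨z, a, b, c, s, d, x, g, y, v, w, fs, β, S3⟩

end H35.CM
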