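import Cfsg.Agent.H20.DGSpec

/-! # Tower DG (S3579): case A -/

set_option autoImplicit false

namespace H35.DgCA

open Subgroup MulAction Cfsg H98 H20.DG

universe u v

theorem card_inf_mul {G : Type u} [Group G] (H K : Subgroup G) :
    Nat.card ↥(K ⊓ H) * H.relIndex K = Nat.card K := by
  rw [← (H.subgroupOf K).card_mul_index, relIndex, ← inf_subgroupOf_left,
    Nat.card_congr (subgroupOfEquivOfLe (inf_le_left : K ⊓ H ≤ K)).toEquiv]

theorem jobCA : JobCA.{u, v} := by
  intro G Ω _ _ _ _ p q P A O hy hb hw ⟨d, hd⟩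
  have : Fact p.Prime := ⟨hy.pp⟩
  have hno : ∀ a : Ω, A ≤ stabilizer G a → a ∉ O := fun a ha hO => by
    have h1 := hb.inO a hO
    rw [relIndex_eq_one.2 ha] at h1
    exact hy.pp.one_lt.ne h1
  have cA : Nat.card A * p = Nat.card P := by
    have := card_inf_mul A P
    rwa [inf_eq_right.2 hb.le, hb.idx] at this
  have cP : ∀ a, a ∉ O → Nat.card ↥(P ⊓ stabilizer G a) = Nat.card A := fun a ha => by
    have := card_inf_mul (stabilizer G a) P
    rw [hb.out a ha, ← cA] at this
    exact Nat.eq_of_mul_eq_mul_right hy.pp.pos this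
  have ed : A = P ⊓ stabilizer G d :=
    eq_of_le_of_card_ge (le_inf hb.le hd) (cP d (hno d hd)).le
  have sd : IsSyl p A (stabilizer G d) := by
    have := hb.sylo d (hno d hd)
    rwa [← ed] at this
  have ea : ∀ a, a ∉ O → P ⊓ stabilizer G a = A := fun a ha => by
    obtain ⟨g, hg⟩ := hy.trans d a
    have s1 := sd.cj g
    rw [cj_stab, hg] at s1
    obtain ⟨h, -, hh⟩ := s1.exists_cj_eq (hb.sylo a ha)
    have el : El p (P ⊓ stabilizer G a) := hh ▸ (hb.el.cj g).cj h
    refine eq_of_le_of_card_ge (hw _ inf_le_left el ?_) (cP a ha).ge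
    rw [cP a ha, ← cA, mul_comm]
    exact Nat.mul_le_mul_right _ (by rw [sq]; exact Nat.le_mul_self p)
  refine ⟨hb, hw, fun a => ⟨hno a, fun ha => ?_⟩, fun a ha => ?_⟩
  · rw [← ea a ha]
    exact inf_le_right
  · have := hb.sylo a ha
    rwa [ea a ha] at this

end H35.DgCA
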