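import Cfsg.Agent.H20.DGSpec

/-! # Tower DG (S3579): the number of exceptional linear characters -/

set_option autoImplicit false

namespace H35.DgT0

open Subgroup MulAction Cfsg H98 H20.DG

universe u v

theorem cnt {C Z : Type*} [Group C] [CommGroup Z] [Finite Z] (σ : C →* Z)
    (hσ : Function.Surjective σ) : {μ : C →* ℂˣ | σ.ker ≤ μ.ker}.ncard = Nat.card Z := by
  have : NeZero (Monoid.exponent Z) := ⟨Monoid.exponent_ne_zero_of_finite⟩
  rw [← CommGroup.card_monoidHom_of_hasEnoughRootsOfUnity Z ℂ, ← Nat.card_coe_set_eq]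
  exact Nat.card_congr (σ.liftOfSurjective hσ)

theorem jobT0 : JobT0.{u, v} := by
  intro G Ω _ _ _ _ p q P A L O hy h
  obtain ⟨τ, hτ, hk⟩ := h.tau
  have hp := hy.pp
  have : NeZero (p ^ 2) := ⟨pow_ne_zero _ hp.ne_zero⟩
  have hA : A ≤ Cn A := fun a ha => mem_centralizer_iff.2 fun b hb => h.el.1 b hb a ha
  set B := (A.subgroupOf (Cn A)).map τ with hB
  have cZ : Nat.card (Multiplicative (ZMod (p ^ 2))) = p ^ 2 := by
    rw [Nat.card_congr Multiplicative.toAdd, Nat.card_zmod]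
  have cB : Nat.card B = p := by
    have h1 : Nat.card B ∣ p := by
      have := card_map_dvd (H := A.subgroupOf (Cn A)) τ
      rwa [Nat.card_congr (subgroupOfEquivOfLe hA).toEquiv, h.cardA] at this
    refine ((Nat.dvd_prime hp).1 h1).resolve_left fun e => h.cop ?_
    rw [card_eq_one] at e
    rw [← h.cardA]
    refine card_dvd_of_le fun a ha => (hk ⟨a, hA ha⟩).1 ?_
    have : τ ⟨a, hA ha⟩ ∈ B := mem_map_of_mem τ (show (⟨a, hA ha⟩ : Cn A) ∈ A.subgroupOf _ from ha)
    rwa [e, mem_bot] at this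
  have cQ : Nat.card (Multiplicative (ZMod (p ^ 2)) ⧸ B) = p := by
    have := B.card_mul_index
    rw [cB, cZ] at this
    exact Nat.eq_of_mul_eq_mul_left hp.pos (this.trans (sq p))
  have c1 := cnt τ hτ
  have c2 := cnt ((QuotientGroup.mk' B).comp τ) ((QuotientGroup.mk'_surjective B).comp hτ)
  rw [cZ] at c1
  rw [cQ] at c2
  have hsub : {μ : Cn A →* ℂˣ | ((QuotientGroup.mk' B).comp τ).ker ≤ μ.ker} ⊆
      {μ : Cn A →* ℂˣ | τ.ker ≤ μ.ker} := fun μ hμ c hc => hμ (by
    rw [MonoidHom.mem_ker] at hc ⊢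
    rw [MonoidHom.comp_apply, hc, map_one])
  have hfin : {μ : Cn A →* ℂˣ | τ.ker ≤ μ.ker}.Finite :=
    Set.finite_of_ncard_ne_zero (by rw [c1]; exact pow_ne_zero _ hp.ne_zero)
  have e : MM A L = {μ : Cn A →* ℂˣ | τ.ker ≤ μ.ker} \
      {μ : Cn A →* ℂˣ | ((QuotientGroup.mk' B).comp τ).ker ≤ μ.ker} := by
    ext μ
    constructor
    · rintro ⟨h1, c, hc, hμ⟩
      refine ⟨fun d hd => h1 d ((hk d).1 hd), fun h2 => hμ (h2 ?_)⟩
      rw [MonoidHom.mem_ker, MonoidHom.comp_apply, QuotientGroup.mk'_apply,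
        QuotientGroup.eq_one_iff]
      exact mem_map_of_mem τ (show c ∈ A.subgroupOf _ from hc)
    · rintro ⟨h1, h2⟩
      refine ⟨fun d hd => h1 ((hk d).2 hd), ?_⟩
      by_contra hn
      push Not at hn
      refine h2 fun d hd => ?_
      rw [MonoidHom.mem_ker, MonoidHom.comp_apply, QuotientGroup.mk'_apply,
        QuotientGroup.eq_one_iff] at hd
      obtain ⟨a, ha, had⟩ := hd
      have h3 : μ (a⁻¹ * d) = 1 := h1 (by rw [MonoidHom.mem_ker, map_mul, map_inv, had, inv_mul_cancel])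
      rw [map_mul, map_inv, hn a ha, inv_one, one_mul] at h3
      exact h3
  rw [e, Set.ncard_diff hsub (hfin.subset hsub), c1, c2]

end H35.DgT0
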