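import Cfsg.Agent.H48.DNASpec

/-! # S3275, chapter alpha: transport of the `U₃(3)` facts -/

set_option autoImplicit false

namespace H35.DnFU1

open Subgroup Cfsg H98 H48.DP H57.DPC H48.DP2
open scoped commutatorElement

universe u

theorem fu_map {L X : Type u} [Group L] [Group X] {f : L →* X} (hf : Function.Injective f)
    {K P S : Subgroup L} {z r : L} (h : Fu K P S z r) :
    Fu (K.map f) (P.map f) (S.map f) (f z) (f r) where
  syl := h.syl.map_of_injective hf
  card := by rw [card_map_of_injective hf, h.card]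
  ex := by
    rintro _ ⟨p, hp, rfl⟩
    rw [← map_pow, h.ex p hp, map_one]
  z3 := by rw [orderOf_injective f hf, h.z3]
  der := by rw [← map_commutator, h.der, MonoidHom.map_zpowers]
  zc := by
    rintro _ ⟨p, hp, rfl⟩
    refine mem_centralizer_singleton_iff.2 ?_
    rw [← map_mul, ← map_mul, mem_centralizer_singleton_iff.1 (h.zc hp)]
  cP := by
    rintro _ ⟨⟨a, ha, rfl⟩, hc⟩
    rw [← MonoidHom.map_zpowers]
    refine mem_map_of_mem f (h.cP ⟨ha, mem_centralizer_iff.2 fun p hp => hf ?_⟩)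
    rw [map_mul, map_mul]
    exact mem_centralizer_iff.1 hc _ (mem_map_of_mem f hp)
  rK := mem_map_of_mem f h.rK
  r2 := by rw [← MonoidHom.map_zpowers]; exact h.r2.map f
  rP := le_normalizer_map f (mem_map_of_mem f h.rP)
  rz := by rw [← map_inv, ← map_mul, ← map_mul, h.rz, map_inv]
  cr := by
    rintro _ ⟨w, hw, rfl⟩ h3 hc
    rw [h.cr w hw (hf (by rw [map_pow, h3, map_one])) (hf (by rw [map_mul, map_mul]; exact hc)),
      map_one]
  SK := map_mono h.SK
  S2 := h.S2.map f
  zS := le_normalizer_map f (mem_map_of_mem f h.zS)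
  gen := by
    refine (map_mono h.gen).trans ?_
    rw [Subgroup.map_sup]
    refine sup_le_sup_right ?_ _
    rintro _ ⟨a, ha, rfl⟩
    refine ⟨mem_map_of_mem f ha.1, ?_⟩
    rw [← MonoidHom.map_zpowers]
    exact le_normalizer_map f (mem_map_of_mem f ha.2)

theorem job : JFU1.{u} := by
  intro h0 X _ _ K R hK hR h3
  have : Fact (Nat.Prime 3) := ⟨Nat.prime_three⟩
  obtain ⟨-, P, S, z, r, h⟩ := h0 K hK
  obtain ⟨g, -, hg⟩ := h.syl.exists_le_cj (Q := R.subgroupOf K)
    (h3.comap_of_injective _ K.subtype_injective) le_top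
  let f : K →* X := K.subtype.comp (MulAut.conj g).toMonoidHom
  have hf : Function.Injective f := K.subtype_injective.comp (MulAut.conj g).injective
  have e : (⊤ : Subgroup K).map f = K := by
    refine le_antisymm ?_ fun k hk => ⟨(MulAut.conj g).symm ⟨k, hk⟩, trivial, by simp [f, mul_assoc]⟩
    rintro _ ⟨a, -, rfl⟩
    exact ((MulAut.conj g) a).2
  have h' := fu_map hf h
  rw [e] at h'
  refine ⟨P.map f, S.map f, f z, f r, fun a ha => ?_, h'⟩
  obtain ⟨b, hb, hb'⟩ := hg (show (⟨a, hR ha⟩ : K) ∈ R.subgroupOf K from ha)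
  exact ⟨b, hb, congrArg Subtype.val hb'⟩

end H35.DnFU1
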