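import Cfsg.Agent.H48.DC4Spec
import Cfsg.Agent.H98.Baumann
import Cfsg.Agent.H98.RD

/-! S3275, chapter C4, job OF: an offender from the Thompson subgroup. -/

set_option autoImplicit false

namespace H35.DpOF

open Subgroup Cfsg H98 H12 H48.DP H57.DPC H48.DP2

universe u

theorem rel_card {G : Type u} [Group G] {D K : Subgroup G} (h : D ≤ K) :
    D.relIndex K * Nat.card D = Nat.card K := by
  rw [← (D.subgroupOf K).index_mul_card, Nat.card_congr (subgroupOfEquivOfLe h).toEquiv]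
  rfl

theorem job : JOF.{u} := by
  intro G _ _ M Q J L y z u h
  by_contra hc
  have hQ : IsPGroup 2 Q := h.bd.o2 ▸ isPGroup_pCoreOf M
  have J1 : J ≤ Q ⊓ L := le_inf h.lt.JQ h.lt.JL
  have a1 : jt 2 (Q ⊓ L) ≤ J := thompsonSubgroupOf_le_iff.2 fun A hA => by
    by_contra hAJ
    refine hc ⟨A, hA.1, hAJ, ?_⟩
    have eZ : IsElementaryAbelian 2 (Om J) := ea_of
      (fun a ha b hb => mem_centralizer_iff.1 hb.2.1 a ha.1) fun a ha => by rw [pow_two, ha.2.2]
    have c : Om J ≤ centralizer ((A ⊓ J : Subgroup G) : Set G) := fun a ha b hb =>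
      mem_centralizer_iff.1 ha.2.1 b hb.2
    have k := hA.2.2 (Om J ⊔ A ⊓ J) (sup_le (fun a ha => J1 ha.1) (inf_le_right.trans J1))
      (ea_sup eZ (ea_mono hA.2.1 inf_le_left) c)
    rw [← rel_card (le_sup_right : A ⊓ J ≤ Om J ⊔ A ⊓ J), ← rel_card (inf_le_left : A ⊓ J ≤ A),
      relIndex_sup_of_norm (H98.le_normalizer_of_le_centralizer c), inf_relIndex_left] at k
    refine (relIndex_le_of_le_left (inf_le_left.trans (ea_le_centralizer hA.2.1))
      (index_ne_zero_of_finite)).trans (Nat.le_of_mul_le_mul_right k Nat.card_pos)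
  have e : jt 2 J = jt 2 (Q ⊓ L) := jt_eq_of_le a1 J1
  have c2 : IsPGroup 2 (jt 2 J) := h.j2.to_le (jt_le J)
  have c0 : jt 2 J ≠ ⊥ := thompsonSubgroupOf_ne_bot (by
    obtain ⟨n, hn⟩ := IsPGroup.iff_card.1 h.j2
    rcases n with _ | n
    · exact absurd (card_eq_one.1 hn) h.lt.nt
    · exact hn ▸ dvd_pow_self 2 n.succ_ne_zero)
  have cL : L ≤ No (jt 2 J) := le_normalizer_jt h.lt.LN
  have un := h.lt.uniq _ c2 c0 cL (le_normalizer_jt le_rfl h.lt.yN)
  have n1 : No (Q ⊓ L) ≤ No (jt 2 J) := e ▸ le_normalizer_jt le_rfl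
  have q : Q ⊓ L = Q := by
    by_contra hne
    exact (lt_inf_normalizer hQ (lt_of_le_of_ne inf_le_left hne)).not_ge
      (le_inf inf_le_left ((inf_le_inf_left Q (n1.trans un)).trans h.q1))
  rw [q, h.bd.no] at n1
  exact h.lt.out (cL.trans (h.nM _ c2 c0 n1))

end H35.DpOF
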