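import Cfsg.Agent.H92.DP0BSpec
import Cfsg.Agent.H98.Coprime
import Cfsg.Agent.H2.CoreFree
import Cfsg.Agent.S0144

/-! S3275, chapter U0, section B, job XY. -/

set_option autoImplicit false
set_option linter.unusedSectionVars false

namespace H35.DpXY

open Subgroup Cfsg H98 H48.DP H57.DPC H48.DP2 H92.DPB
open scoped commutatorElement

universe u

variable {X : Type u} [Group X] [Finite X] {D : Subgroup X} {x : X}

theorem cardZ (h : Xd X D x) : Nat.card (zpowers x) = 3 := by rw [Nat.card_zpowers, h.x3]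

theorem norZ (h : Xd X D x) : (zpowers x).Normal := by
  have := h.nor
  rw [← h.der]; infer_instance

theorem ZD (h : Xd X D x) : zpowers x ≤ D := by
  have := h.nor
  rw [← h.der]; exact commutator_le_right D D

theorem Z_le (h : Xd X D x) {T : Subgroup X} (hT : zpowers x ⊓ T ≠ ⊥) : zpowers x ≤ T := by
  have h1 := card_dvd_of_le (inf_le_left : zpowers x ⊓ T ≤ zpowers x)
  rw [cardZ h, Nat.dvd_prime Nat.prime_three] at h1
  have h2 := h1.resolve_left (by rwa [card_eq_one])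
  exact inf_eq_left.1 (eq_of_le_of_card_ge inf_le_left (by rw [h2, cardZ h]))

theorem cx (h : Xd X D x) {Y : Subgroup X} (hY : ∀ g ∈ Y, g ^ 3 = 1) : zpowers x ≤ Ce Y := by
  have : Fact (Nat.Prime 3) := ⟨Nat.prime_three⟩
  have := norZ h
  refine Z_le h (inf_centralizer_ne_bot (p := 3) (IsPGroup.of_card (n := 1) (cardZ h))
    (isPGroup_iff_forall.2 fun g hg => ⟨1, hY g hg⟩) (by rw [normalizer_eq_top]; exact le_top) ?_)
  rw [Ne, ← card_eq_one, cardZ h]; norm_num

theorem sol (h : Xd X D x) : Group.IsSolvable X := by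
  have := h.nor
  have := norZ h
  have key : (Nat.card X).factorization.support ⊆ {2, 3} := fun q hq => by
    obtain ⟨hp, hd, -⟩ := Nat.mem_primeFactors.1 (Nat.support_factorization _ ▸ hq)
    have : Fact q.Prime := ⟨hp⟩
    by_contra hc
    simp only [Finset.mem_insert, Finset.mem_singleton, not_or] at hc
    have q5 : 5 ≤ q := hp.five_le_of_ne_two_of_ne_three hc.1 hc.2
    obtain ⟨a, ha⟩ := exists_prime_orderOf_dvd_card' q hd
    have hA : IsPGroup q (zpowers a) :=
      IsPGroup.of_card (n := 1) (by rw [Nat.card_zpowers, ha, pow_one])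
    have m1 := H2.card_modEq_card_inf_centralizer (K := zpowers x) hA
      (by rw [normalizer_eq_top]; exact le_top)
    have m2 := H2.card_modEq_card_inf_centralizer (K := D) hA
      (by rw [normalizer_eq_top]; exact le_top)
    have z1 : zpowers x ≤ Ce (zpowers a) := Z_le h fun e => by
      rw [e, cardZ h, card_bot] at m1
      have := Nat.le_of_dvd two_pos ((Nat.modEq_iff_dvd' (by norm_num)).1 m1.symm)
      omega
    have d1 := card_dvd_of_le (le_inf (ZD h) z1)
    have d2 := card_dvd_of_le (inf_le_left : D ⊓ Ce (zpowers a) ≤ D)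
    rw [h.card] at m2 d2
    rw [cardZ h] at d1
    have e : Nat.card ↥(D ⊓ Ce (zpowers a)) = 27 := by
      obtain ⟨k, hk, e⟩ := (Nat.dvd_prime_pow Nat.prime_three (m := 3)).1 d2
      rw [e] at m2 d1 ⊢
      have no : ∀ i j : ℕ, ¬ q ∣ 2 ^ i * 3 ^ j := fun i j hq => by
        rcases (Nat.Prime.dvd_mul hp).1 hq with h | h <;>
          have := Nat.le_of_dvd (by norm_num) (hp.dvd_of_dvd_pow h) <;> omega
      interval_cases k
      · omega
      · exact absurd ((Nat.modEq_iff_dvd' (by norm_num)).1 m2.symm) (no 3 1)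
      · exact absurd ((Nat.modEq_iff_dvd' (by norm_num)).1 m2.symm) (no 1 2)
      · rfl
    have l1 : D ≤ Ce (zpowers a) :=
      inf_eq_left.1 (eq_of_le_of_card_ge inf_le_left (by rw [e, h.card]))
    obtain ⟨k, hk⟩ := isPGroup_iff_forall.1 h.c3 a (le_centralizer_iff.1 l1 (mem_zpowers a))
    have := Nat.le_of_dvd (by norm_num)
      (hp.dvd_of_dvd_pow (ha ▸ orderOf_dvd_of_pow_eq_one hk : q ∣ 3 ^ k))
    omega
  have e := Nat.factorization_prod_pow_eq_self (Nat.card_pos (α := X)).ne'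
  rw [Finsupp.prod_of_support_subset _ key _ (by simp), Finset.prod_pair (by norm_num)] at e
  exact Cfsg.Agent.S0144.result 2 3 _ _ Nat.prime_two Nat.prime_three e.symm

/-- Correcting `y` by a power of `f`. -/
theorem fix (h : Xd X D x) {e f y : X} (he : e ∈ D) (hf : f ∈ D) (hne : f * e ≠ e * f)
    (hy : y * e * y⁻¹ * e⁻¹ ∈ zpowers x) : ∃ j : ℤ, (f ^ j)⁻¹ * y * e = e * ((f ^ j)⁻¹ * y) := by
  have w : ⁅f, e⁆ ∈ zpowers x := h.der ▸ commutator_mem_commutator hf he
  have l : zpowers x ≤ zpowers ⁅f, e⁆ := Z_le h fun e1 => hne (by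
    rw [← commutatorElement_eq_one_iff_mul_comm, ← mem_bot, ← e1]
    exact ⟨w, mem_zpowers _⟩)
  obtain ⟨j, hj⟩ := mem_zpowers_iff.1 (l hy)
  have c : Commute f ⁅f, e⁆ := cx h h.ex w f hf
  have k : ∀ i : ℤ, f ^ i * e * (f ^ i)⁻¹ = ⁅f, e⁆ ^ i * e := fun i => by
    have s : ∀ i : ℤ, f * (⁅f, e⁆ ^ i * e) * f⁻¹ = ⁅f, e⁆ ^ (i + 1) * e := fun i => by
      rw [← mul_assoc, (c.zpow_right i).eq, zpow_add_one, commutatorElement_def]; group
    induction i using Int.induction_on with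
    | zero => simp
    | succ n ih => rw [← s, ← ih]; group
    | pred n ih =>
      have := s (-n - 1)
      rw [sub_add_cancel, ← ih] at this
      rw [← mul_left_cancel_iff (a := f), ← mul_right_cancel_iff (a := f⁻¹), this]; group
  refine ⟨j, ?_⟩
  have := k j
  rw [hj, inv_mul_cancel_right] at this
  calc (f ^ j)⁻¹ * y * e = (f ^ j)⁻¹ * (y * e * y⁻¹) * y := by group
    _ = _ := by rw [← this]; group

theorem mem (h : Xd X D x) {e f y : X} (he : e ∈ D) (hf : f ∈ D) (hne : f * e ≠ e * f)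
    (y3 : y ^ 3 = 1) (h1 : y * e * y⁻¹ * e⁻¹ ∈ zpowers x) (h2 : y * f * y⁻¹ * f⁻¹ ∈ zpowers x) :
    y ∈ D := by
  have : Fact (Nat.Prime 3) := ⟨Nat.prime_three⟩
  obtain ⟨j, hj⟩ := fix h he hf hne h1
  obtain ⟨i, hi⟩ := fix h hf he hne.symm (y := (f ^ j)⁻¹ * y) (by
    have := (norZ h).conj_mem _ h2 (f ^ j)⁻¹
    convert this using 1; group)
  set c := (e ^ i)⁻¹ * ((f ^ j)⁻¹ * y) with hc
  have ce : c * e = e * c := by rw [hc, mul_assoc, hj]; group
  have l : D ≤ C1 c := by
    obtain ⟨k, hk, e1⟩ := (Nat.dvd_prime_pow Nat.prime_three (m := 3)).1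
      (show _ ∣ 3 ^ 3 from h.card ▸ card_dvd_of_le (inf_le_left : D ⊓ C1 c ≤ D))
    have m1 : e ∈ D ⊓ C1 c := ⟨he, mem_centralizer_singleton_iff.2 ce.symm⟩
    have m2 : f ∈ D ⊓ C1 c := ⟨hf, mem_centralizer_singleton_iff.2 hi.symm⟩
    have nc : ¬ IsMulCommutative ↥(D ⊓ C1 c) := fun hm =>
      hne (congrArg Subtype.val (hm.is_comm.comm ⟨f, m2⟩ ⟨e, m1⟩))
    have k1 : ¬ k ≤ 1 := fun hk1 => nc (by
      have := isCyclic_of_card_dvd_prime (p := 3) (α := ↥(D ⊓ C1 c))
        (e1 ▸ (pow_dvd_pow 3 hk1).trans (by norm_num))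
      infer_instance)
    have k2 : k ≠ 2 := fun hk2 => nc (IsPGroup.isMulCommutative_of_card_eq_prime_sq (hk2 ▸ e1))
    obtain rfl : k = 3 := by omega
    exact inf_eq_left.1 (eq_of_le_of_card_ge inf_le_left (by rw [e1, h.card]; norm_num))
  have d : f ^ j * e ^ i ∈ D := D.mul_mem (D.zpow_mem hf j) (D.zpow_mem he i)
  have ey : y = f ^ j * e ^ i * c := by rw [hc]; group
  have cm : Commute (f ^ j * e ^ i) c := mem_centralizer_singleton_iff.1 (l d)
  rw [ey, cm.mul_pow, h.ex _ d, one_mul] at y3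
  rw [ey]
  exact D.mul_mem d (ZD h (h.cen c (fun g hg => mem_centralizer_singleton_iff.1 (l hg)) y3))

theorem le (h : Xd X D x) {Y : Subgroup X} (hY : ∀ g ∈ Y, g ^ 3 = 1) (h81 : 81 ≤ Nat.card Y) :
    D ≤ Y := by
  have : Fact (Nat.Prime 3) := ⟨Nat.prime_three⟩
  have := norZ h
  have := h.nor
  let π := QuotientGroup.mk' (zpowers x)
  have p3 : IsPGroup 3 Y := isPGroup_iff_forall.2 fun g hg => ⟨1, hY g hg⟩
  have nD : (D.map π).Normal := h.nor.map _ (QuotientGroup.mk'_surjective _)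
  have c9 : Nat.card (D.map π) = 9 := by
    have h1 := (zpowers x).subgroupOf D |>.index_mul_card
    rw [Nat.card_congr (subgroupOfEquivOfLe (ZD h)).toEquiv, cardZ h, h.card] at h1
    have h2 := relIndex_ker D π
    rw [QuotientGroup.ker_mk', relIndex] at h2
    omega
  have key : ∀ {y g : X}, π y * π g * (π y)⁻¹ = π g → y * g * y⁻¹ * g⁻¹ ∈ zpowers x :=
    fun {y g} e => by
      rw [← QuotientGroup.ker_mk' (zpowers x), MonoidHom.mem_ker, map_mul, map_mul, map_mul,
        map_inv, map_inv]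
      exact mul_inv_eq_one.2 e
  obtain ⟨⟨_, ⟨e, he, rfl⟩, hc⟩, e1⟩ := ne_bot_iff_exists_ne_one.1
    (inf_centralizer_ne_bot (p := 3) (Q := D.map π) (IsPGroup.of_card (n := 2) c9) (p3.map π)
      (by rw [normalizer_eq_top]; exact le_top) (by rw [Ne, ← card_eq_one, c9]; norm_num))
  obtain ⟨f, hf, hne⟩ : ∃ f ∈ D, f * e ≠ e * f := by
    by_contra! hc'
    exact e1 (Subtype.ext ((QuotientGroup.eq_one_iff e).2 (h.cen e hc' (h.ex e he))))
  have f1 : π f ≠ 1 := fun e2 =>
    hne (cx h h.ex ((QuotientGroup.eq_one_iff f).1 e2) e he).symm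
  let act : MulAction Y (X ⧸ zpowers x) :=
    MulAction.compHom _ ((MulAut.conj (G := X ⧸ zpowers x)).comp (π.comp Y.subtype))
  have sm : ∀ (y : Y) (g : X ⧸ zpowers x), y • g = π y * g * (π y)⁻¹ := fun _ _ => rfl
  have i8 : (MulAction.stabilizer Y (π f)).index ≤ 8 := by
    rw [MulAction.index_stabilizer]
    have : MulAction.orbit Y (π f) ⊂ (D.map π : Set (X ⧸ zpowers x)) := by
      refine ⟨?_, fun hs => ?_⟩
      · rintro _ ⟨y, rfl⟩
        exact nD.conj_mem _ (mem_map_of_mem π hf) (π y)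
      · obtain ⟨y, hy⟩ := hs (one_mem (D.map π))
        exact f1 (by simpa [sm] using hy)
    have := Set.ncard_lt_ncard this
    rw [← Nat.card_coe_set_eq (D.map π : Set (X ⧸ zpowers x)), SetLike.coe_sort_coe, c9] at this
    omega
  obtain ⟨k, hk⟩ := p3.index (MulAction.stabilizer Y (π f))
  have k1 : k ≤ 1 := by
    by_contra hk1
    have := Nat.pow_le_pow_right (show 0 < 3 by norm_num) (show 2 ≤ k by omega)
    omega
  have i3 := Nat.pow_le_pow_right (show 0 < 3 by norm_num) k1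
  have h1 := (MulAction.stabilizer Y (π f)).index_mul_card
  have l : (MulAction.stabilizer Y (π f)).map Y.subtype ≤ D := by
    rintro _ ⟨y, hy, rfl⟩
    refine mem h he hf hne (hY _ y.2) (key ?_) (key hy)
    rw [mul_inv_eq_iff_eq_mul]
    exact hc _ (mem_map_of_mem π y.2)
  rw [← eq_of_le_of_card_ge l (by
    rw [card_map_of_injective Y.subtype_injective, h.card]
    rw [hk] at h1
    nlinarith)]
  exact map_subtype_le _

theorem jobXY : JobXY.{u} := fun _ _ _ _ _ h => ⟨sol h, fun Y hY h81 => by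
  rw [← cardZ h]
  exact card_le_of_le fun c hc => h.cen c (centralizer_le (le h hY h81) hc.2) (hY c hc.1)⟩

end H35.DpXY
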