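/- Slots FS-RedC and FS-Sol of the tower FS (rows S3257, S3617). -/
import Cfsg.Agent.H82.FSKit
import Cfsg.Agent.H46.Nil

set_option autoImplicit false
set_option linter.unusedSectionVars false

namespace H35.FSC

open Cfsg Subgroup H82.FS
open H46 hiding cj
open scoped commutatorElement

universe u

variable {G : Type u} [Group G] [Finite G] {p r : ℕ} {A : Subgroup G}

theorem nrm_top {N : Subgroup G} (h : N.Normal) (X : Subgroup G) : X ≤ Nrm N :=
  le_normalizer_of_normal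

theorem normal_of {N : Subgroup G} (h : ⊤ ≤ Nrm N) : N.Normal := normalizer_eq_top_iff.1 (top_le_iff.1 h)

/-- a Sylow subgroup of `N` centralising `A` -/
theorem sylow_cen (hL : Lin p r A) {N : Subgroup G} (hN : N.Normal) {l : ℕ} (hl : l.Prime) (hlr : l ≠ r)
    (h : l = p ∨ ¬ p ∣ Nat.card N) : ∃ P, IsSylowOf l P N ∧ P ≤ Cent A := by
  by_cases hlp : l = p
  · subst hlp
    obtain ⟨P, hP, hAP⟩ := exists_sylow_ge (K := ⊤) hl hL.pgp le_top
    have hp := hP.isPGroup hl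
    have h1 : P ≤ Nrm A := fun y hy => cj_eq_iff.1 (hL.wc0 hp hAP (cj_le_of hAP hy))
    have h2 := nil_le_zc_of_prime (nil_of_isPGroup hl hp) ⟨hAP, h1⟩ (hL.card ▸ hl)
    exact ⟨P ⊓ N, hP.inf_normal ⟨le_top, nrm_top hN _⟩,
      inf_le_left.trans (le_cent_symm (h2.trans inf_le_right))⟩
  · have hc : (Nat.card A).Coprime (Nat.card N) := by
      rw [hL.card]; exact (hL.hp.coprime_iff_not_dvd).2 (h.resolve_left hlp)
    obtain ⟨P, hP, hA⟩ := coprime_Sylow_exists hl (nrm_top hN A) hc (Or.inl hL.solv)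
    refine ⟨P, hP, hL.cen_of_cop hA (coprime_of_le hc le_rfl hP.le) ?_⟩
    obtain ⟨k, hk⟩ := hP.isPi.exists_pow hl
    rw [hk]; exact ((Nat.coprime_primes hl hL.hr).2 hlr).pow_left k

section
variable (hL : Lin p r A) (hQ : ∀ Q : Subgroup G, Q.Normal → IsPGroup r Q → Q = ⊥) (hA : ¬ A.Normal)
  {N : Subgroup G} (hN : N.Normal) (hs : N ⊔ A = ⊤)
include hL hQ hA hN hs

theorem dvd_card : p ∣ Nat.card N := by
  by_contra hd
  have hc : (Nat.card A).Coprime (Nat.card N) := by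
    rw [hL.card]; exact (hL.hp.coprime_iff_not_dvd).2 hd
  obtain ⟨P, hP, hAP⟩ := coprime_Sylow_exists hL.hr (nrm_top hN A) hc (Or.inl hL.solv)
  have hi : PNat {r} ((N ⊓ Cent A).relIndex N) := fun l hl hdv => by
    by_contra hlr
    obtain ⟨S, hS, hSA⟩ := sylow_cen hL hN hl hlr (Or.inr hd)
    exact hS.not_dvd hl (hdv.trans (relIndex_dvd_of_le_left _ (le_inf hS.le hSA)))
  have ht : P ⊔ A = ⊤ := hL.top_of fun g => by
    obtain ⟨n, hn, a, ha, rfl⟩ := mem_sup_norm (nrm_top hN A) (hs.ge (mem_top g))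
    obtain ⟨y, hy, c, hc, rfl⟩ := exists_mul_of_coprime_relIndex hP.le inf_le_left (hP.idx.coprime' hi) hn
    rw [H82.FS.cj_mul, H82.FS.cj_mul, cj_eq_iff.2 (le_normalizer ha), cj_eq_of_cen hc.2]
    exact cj_le_of le_sup_right (mem_sup_left hy)
  have hb := hQ P (normal_of (ht ▸ sup_le le_nrm_self hAP)) (hP.isPGroup hL.hr)
  rw [hb, bot_sup_eq] at ht
  exact hA (ht ▸ inferInstance)

theorem not_pgroup (h1 : N ≠ ⊥) {l : ℕ} (hl : l.Prime) : ¬ IsPGroup l N := fun h => by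
  haveI := Fact.mk hl
  have hd := dvd_card hL hQ hA hN hs
  obtain rfl : p = l := isPi_of_isPGroup hl h p hL.hp hd
  have ht : IsPGroup p (⊤ : Subgroup G) := hs ▸ h.to_sup_of_normal_left hL.pgp
  exact hA (normal_of fun g _ => cj_eq_iff.1 (hL.wc0 ht le_top le_top))

theorem not_comm (hm : MinNormal N ⊤) : ¬ IsMulCommutative N := fun h => by
  obtain ⟨l, hl, -, he⟩ := hm.exists_elem (sol_of_comm h)
  exact not_pgroup hL hQ hA hN hs hm.ne_bot hl ((isPi_of_elem hl he).isPGroup hl)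

theorem eq_of_min (hm : MinNormal N ⊤) {T : Subgroup G} (hT : MinNormal T N) (hTN : T ≤ N) : T = N := by
  by_cases hAT : A ≤ Nrm T
  · exact hm.2.2 T hTN hT.ne_bot (hs ▸ sup_le hT.nrm hAT)
  exfalso
  obtain ⟨a, ha, haT⟩ := SetLike.not_le_iff_exists.1 hAT
  have hi : T ⊓ cj a T = ⊥ := by
    refine (hT.le_or_inf_eq_bot (L := cj a T) ?_).resolve_left fun h => haT ?_
    · have := H82.FS.cj_mono a hT.nrm
      rwa [cj_norm, cj_eq_iff.2 (nrm_top hN ⊤ (mem_top a))] at this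
    · exact cj_eq_iff.1 (eq_of_le_of_card_ge h (H82.FS.card_cj a T).le).symm
  have core : ∀ π : Set ℕ, IsPi π T → IsPi π N := fun π h => by
    have h1 : T ≤ piCoreOf π N := le_piCoreOf h ⟨hTN, hT.nrm⟩
    rw [← hm.2.2 _ (piCoreOf_le π N) (ne_bot_of_le h1 hT.ne_bot) (nrm_piCoreOf π hm.nrm)]
    exact isPi_piCoreOf π N
  have hd : p ∣ Nat.card T := by
    by_contra hd
    exact (isPi_compl_singleton hL.hp).1 (core _ ((isPi_compl_singleton hL.hp).2 hd))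
      (dvd_card hL hQ hA hN hs)
  obtain ⟨P, hP, hPA⟩ := sylow_cen hL hN hL.hp hL.pr.symm (Or.inl rfl)
  refine (hP.inf_normal ⟨hTN, hT.nrm⟩).ne_bot hL.hp rfl hd (le_bot_iff.1 (hi ▸ fun t ht => ⟨ht.2, ?_⟩))
  refine H82.FS.mem_cj.2 ?_
  rw [mul_assoc, ← hPA ht.1 a ha, inv_mul_cancel_left]; exact ht.2
end

theorem jobRedC : JobRedC.{u} := by
  intro G _ _ p r A hL hM hQ hA
  obtain ⟨N, hm, -⟩ := exists_minNormal_le (N := (⊤ : Subgroup G)) (X := ⊤) (ne_bot_of_le le_top hL.ne_bot)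
    le_nrm_self
  have hN := normal_of hm.nrm
  have hs := (hM N hN).resolve_left hm.ne_bot
  have hc := not_comm hL hQ hA hN hs hm
  refine ⟨N, hN, ?_, hc, hs, ?_, dvd_card hL hQ hA hN hs⟩
  · haveI : Nontrivial N := (nontrivial_iff_ne_bot N).2 hm.ne_bot
    refine ⟨fun H hH => or_iff_not_imp_left.2 fun h1 => ?_⟩
    have h2 : H.map N.subtype ≠ ⊥ := fun e => h1 ((map_eq_bot_iff_of_injective _ N.subtype_injective).1 e)
    obtain ⟨T, hT, hle⟩ := exists_minNormal_le h2 (normalIn_map_subtype hH).2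
    have e := eq_of_min hL hQ hA hN hs hm hT (hle.trans (map_subtype_le H))
    rw [eq_top_iff]
    intro x _
    obtain ⟨y, hy, e'⟩ := hle (e.ge x.2)
    exact Subtype.ext e' ▸ hy
  · refine (hM _ inferInstance).resolve_right fun h => hc ?_
    have h1 : ⁅N, N⁆ ≤ Cent N := by
      refine (der_mono (h.ge.trans' le_top)).trans ((der_sup_le (nrm_cent (nrm_top hN A))).trans ?_)
      rw [commutator_eq_bot_iff.2 hL.comm, sup_bot_eq]
    rcases hm.le_or_inf_eq_bot (nrm_cent hm.nrm) with h2 | h2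
    · exact comm_iff_le_cent.2 h2
    · exact der_eq_bot_iff.1 (le_bot_iff.1 (h2 ▸ le_inf (der_le N) h1))

/-! ### Spans have class two -/

theorem cen_of_comm (hL : Lin p r A) (hn : An A) {W : Subgroup G} (hW : IsPGroup r W) (hA : A ≤ Nrm W)
    (hc : IsMulCommutative W) : W ≤ Cent A := fun w hw =>
  hL.norm_cen (hL.cop hW) hA hw (cj_eq_iff.1 (by
    by_contra h
    exact hn w h (comm_of_le hc (hL.kl_le' hA hw))))

theorem central_of_comm (hL : Lin p r A) (hn : An A) {R W : Subgroup G} (hR : Sp r A R) (hle : W ≤ R)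
    (hRW : R ≤ Nrm W) (hA : A ≤ Nrm W) (hc : IsMulCommutative W) : W ≤ Cent R := by
  have h1 : A ≤ Cent W := le_cent_symm (cen_of_comm hL hn (hR.1.to_le hle) hA hc)
  refine le_cent_symm ?_
  rw [← hR.2.2, commutator_le]
  intro y hy a ha
  exact mul_mem (conj_mem_of_mem_nrm (nrm_cent hRW hy) (h1 ha)) (inv_mem (h1 ha))

theorem der_central (hL : Lin p r A) (hn : An A) {R : Subgroup G} (hR : Sp r A R) : ⁅R, R⁆ ≤ Cent R := by
  by_contra h
  obtain ⟨U, hU, hmin⟩ := exists_minimal_le_of_wellFoundedLT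
    (fun U : Subgroup G => U ≤ ⁅R, R⁆ ∧ R ≤ Nrm U ∧ A ≤ Nrm U ∧ ¬ U ≤ Cent R) ⁅R, R⁆
    ⟨le_rfl, nrm_der le_nrm_self, nrm_der hR.2.1, h⟩
  obtain ⟨h1, h2, h3, h4⟩ := hmin.1
  have hUR := h1.trans (der_le R)
  have hlt : ⁅U, R⁆ < U := nil_commutator_lt (nil_of_isPGroup hL.hr hR.1) hUR le_rfl h2
    fun e => h4 (e ▸ bot_le)
  have h5 : ⁅U, R⁆ ≤ Cent R := by
    by_contra h5
    exact hlt.not_ge (hmin.2 ⟨hlt.le.trans h1, nrm_commutator h2 le_nrm_self, nrm_commutator h3 hR.2.1, h5⟩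
      hlt.le)
  have h6 : ⁅⁅R, R⁆, U⁆ = ⊥ := commutator_commutator_eq_bot_of_rotate
    (by rw [commutator_comm R U]; exact commutator_eq_bot_iff.2 h5) (commutator_eq_bot_iff.2 h5)
  exact h4 (central_of_comm hL hn hR hUR h2 h3
    (comm_iff_le_cent.2 (h1.trans (commutator_eq_bot_iff.1 h6))))

theorem cen_le_der (hL : Lin p r A) {R : Subgroup G} (hR : Sp r A R) : R ⊓ Cent A ≤ ⁅R, R⁆ := by
  have h1 : R ≤ Nrm ⁅R, R⁆ := nrm_der le_nrm_self
  have h2 : A ≤ Nrm ⁅R, R⁆ := nrm_der hR.2.1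
  have h := coprime_abel_cent_TI (comm_quo_der R) (quo_nrm ⁅R, R⁆ hR.2.1)
    (((hL.cop hR.1).coprime_dvd_left (card_quo_dvd _ _)).coprime_dvd_right (card_quo_dvd _ _))
  rw [← quo_commutator h1 h2, hR.2.2] at h
  rw [← quo_eq_bot_iff (inf_le_left.trans h1), eq_bot_iff, ← h]
  exact le_inf (quo_mono _ inf_le_left) (quo_cent _ inf_le_right)

theorem jobSol : JobSol.{u} := by
  intro G _ _ p r A hU hn R hR
  have hL := hU.lin
  have h1 := der_central hL hn hR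
  have h2 : ⁅R, R⁆ = R ⊓ Cent A := le_antisymm (le_inf (der_le R) (cen_of_comm hL hn (hR.1.to_le (der_le R))
    (nrm_der hR.2.1) (comm_iff_le_cent.2 (h1.trans (cent_anti (der_le R)))))) (cen_le_der hL hR)
  have h3 : ∀ y ∈ R, cj y A = A → y ∈ ⁅R, R⁆ := fun y hy e =>
    h2.ge ⟨hy, hL.norm_cen (hL.cop hR.1) hR.2.1 hy (cj_eq_iff.1 e)⟩
  refine ⟨h2, h1, fun y hy => ?_⟩
  by_cases e : cj y A = A
  · exact pow_mem (h3 y hy e) r
  obtain ⟨k, hk, ek⟩ := hL.exists_kl y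
  have hK := hL.kl_le' hR.2.1 hy
  have hc : k⁻¹ * y ∈ ⁅R, R⁆ := h3 _ (mul_mem (inv_mem (hK hk)) hy) (by
    rw [H82.FS.cj_mul, ek, H82.FS.cj_inv_cj])
  have hcm : Commute k (k⁻¹ * y) := h1 hc k (hK hk)
  rw [← mul_inv_cancel_left k y, hcm.mul_pow]
  refine mul_mem (h3 _ (pow_mem (hK hk) r) ?_) (pow_mem hc r)
  by_contra e'
  have hf := pow_mem_frattiniOf hL.hr (hL.line y) hk
  have hA : A ≤ Nrm (frattiniOf (kl A y)) := nrm_frattiniOf (A_le_norm_kl A y)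
  have h4 : ln A (k ^ r) ≤ frattiniOf (kl A y) ⊔ A :=
    sup_le le_sup_right (cj_le_of le_sup_right (mem_sup_left hf))
  have h5 : ln A (k ^ r) = ln A y := eq_of_le_of_card_eq
    (h4.trans (sup_le ((frattiniOf_le _).trans (kl_le_ln A y)) le_sup_left)) (hU.eq _ _ e' e)
  exact (frattiniOf_lt (hL.kl_ne_bot e)).not_ge
    (le_of_le_sup_cop hA ((kl_le_ln A y).trans (h5 ▸ h4)) (hL.cop (hL.line y)))

end H35.FSC
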