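/- Slots FS-Rk2 and FS-Rk3 of the tower FS (rows S3257, S3617). -/
import Cfsg.Agent.H82.FSSpec2
import Cfsg.Agent.H91.U4Std

set_option autoImplicit false
set_option linter.unusedSectionVars false

namespace H35.FSR

open Cfsg Subgroup H82.FS Matrix MatrixGroups

theorem jobRk2 : JobRk2 := by
  intro F _ _ ho z x y hz hx hy h1 h2
  obtain ⟨z, rfl⟩ := QuotientGroup.mk_surjective z
  have c2 : ∀ c ∈ center SL(2, F), c ^ 2 = 1 := fun c hc =>
    orderOf_dvd_iff_pow_eq_one.1 ((orderOf_dvd_natCard _ hc).trans (by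
      rw [H57.card_center_sl]; exact Nat.gcd_dvd_left _ _))
  have key : ∀ x : SL(2, F), Odd (orderOf (x : SL(2, F) ⧸ center SL(2, F))) →
      Commute (x : SL(2, F) ⧸ center SL(2, F)) z → x * z = z * x := fun x hx h => by
    have h1 : (z * x)⁻¹ * (x * z) ∈ center SL(2, F) := QuotientGroup.eq.1 h.eq.symm
    obtain ⟨c, hc, e⟩ : ∃ c ∈ center SL(2, F), x * z = z * x * c := ⟨_, h1, by group⟩
    have h2 : x * x * z = z * (x * x) := by
      rw [mul_assoc, e, ← mul_assoc, ← mul_assoc, e, mul_assoc _ c, ← mem_center_iff.1 hc, mul_assoc,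
        mul_assoc, mul_assoc, ← pow_two c, c2 c hc, mul_one]
    obtain ⟨m, hm⟩ := hx
    have h3 : x ^ (2 * m + 1) ∈ center SL(2, F) := (QuotientGroup.eq_one_iff _).1 (by
      rw [QuotientGroup.mk_pow, ← hm, pow_orderOf_eq_one])
    have h4 : Commute (x ^ (2 * m)) z := by
      rw [pow_mul, pow_two]; exact Commute.pow_left h2 m
    have := (h4.inv_left).mul_left (show Commute (x ^ (2 * m + 1)) z from (mem_center_iff.1 h3 z).symm)
    rwa [pow_succ, inv_mul_cancel_left] at this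
  obtain ⟨x, rfl⟩ := QuotientGroup.mk_surjective x
  obtain ⟨y, rfl⟩ := QuotientGroup.mk_surjective y
  have e : x * y = y * x := Subtype.ext (H95.comm_of_comm_nonscalar (A := z.1)
    (congrArg Subtype.val (key x hx h1)) (congrArg Subtype.val (key y hy h2)) fun ⟨a, b, c⟩ => by
      have : z ∈ center SL(2, F) := mem_center_iff.2 fun g => Subtype.ext (by
        change g.1 * z.1 = z.1 * g.1
        ext i j
        fin_cases i <;> fin_cases j <;> simp [mul_apply, Fin.sum_univ_two, a, b, c, mul_comm])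
      rw [(QuotientGroup.eq_one_iff _).2 this, orderOf_one] at hz
      exact absurd hz (by decide))
  exact congrArg QuotientGroup.mk e

theorem exists_pair {G : Type*} [Group G] [Finite G] (S : Sylow 2 G) {x y : G} (hx2 : x * x = 1)
    (hy2 : y * y = 1) (h4 : (x * y) ^ 2 ^ 2 = 1) (hxy : x * y ≠ y * x) :
    ∃ u ∈ S, ∃ v ∈ S, u * u = 1 ∧ v * v = 1 ∧ u * v ≠ v * u := by
  obtain ⟨b, -, hb⟩ := (H92.sylIn_top S).exists_conj (C := Subgroup.closure {x, y})
    (fun d => ⟨2, Subtype.ext (by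
      obtain ⟨d, hd⟩ := d
      change d ^ 2 ^ 2 = 1
      obtain ⟨k, rfl | rfl⟩ := (H83.mem_closure_pair_iff hx2 hy2 d).1 hd
      · rw [← zpow_natCast, ← _root_.zpow_mul, mul_comm, _root_.zpow_mul, zpow_natCast, h4,
          _root_.one_zpow]
      · rw [pow_two, pow_mul, pow_two (x * _),
          H83.mul_zpow_mul_self_of_inverts hx2 (H83.left_inverts_mul hx2 hy2), one_pow])⟩) le_top
  refine ⟨_, hb x (Subgroup.subset_closure (by simp)), _, hb y (Subgroup.subset_closure (by simp)),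
    ?_, ?_, fun h => hxy ?_⟩
  · rw [conj_mul, hx2]; simp
  · rw [conj_mul, hy2]; simp
  · rw [conj_mul, conj_mul] at h
    simpa using h

variable {F : Type} [Field F]

theorem mat_comm (h2 : (2 : F) ≠ 0) {z u v x y : SL(3, F)} (zz : z * z = 1) (uu : u * u = 1) (z1 : z ≠ 1)
    (u1 : u ≠ 1) (zu : z ≠ u) (cu : z * u = u * z) (cv : z * v = v * z) (cx : z * x = x * z)
    (cy : z * y = y * z) (ux : u * x = x * u) (vx : v * x = x * v) (uv : u * v ≠ v * u) : x * y = y * x := by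
  obtain ⟨P, p0, p1, p2⟩ := H91.U4.exists_diag h2 zz uu z1 u1 zu cu
  obtain ⟨g, -, g1, -⟩ := H91.U4.exists_diag_sl h2 p0 p1 p2
  let c : SL(3, F) →* Matrix (Fin 3) (Fin 3) F := (slToMat 3 F).comp (MulAut.conj g⁻¹).toMonoidHom
  have ci : Function.Injective c := fun a b e => (MulAut.conj g⁻¹).injective (Subtype.ext e)
  have cd : ∀ a, (c a).det = 1 := fun a => (g⁻¹ * a * g⁻¹⁻¹).2
  have cz : c z = H95.z3 F := by
    change (g⁻¹).1 * z.1 * (g⁻¹⁻¹).1 = _
    rw [inv_inv, mul_assoc, g1, ← mul_assoc, show (g⁻¹).1 * g.1 = 1 from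
      congrArg Subtype.val (inv_mul_cancel g), one_mul]
    ext i j; fin_cases i <;> fin_cases j <;> simp [H95.z3]
  have cc : ∀ a, z * a = a * z → H95.z3 F * c a = c a * H95.z3 F := fun a e => by
    rw [← cz, ← map_mul, e, map_mul]
  have bm : ∀ a b, z * a = a * z → H95.blk (c (a * b)) = H95.blk (c a) * H95.blk (c b) := fun a b e => by
    rw [map_mul]
    exact H95.blk_mul (H95.block_of_commute_z3 h2 (cc a e)).1 (H95.block_of_commute_z3 h2 (cc a e)).2.1
  have fin : ∀ a b, z * a = a * z → z * b = b * z →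
      H95.blk (c a) * H95.blk (c b) = H95.blk (c b) * H95.blk (c a) → a * b = b * a := fun a b ea eb e =>
    ci (H95.eq_of_blk_eq h2 (cd _) (cd _) (cc _ (Commute.mul_right ea eb)) (cc _ (Commute.mul_right eb ea))
      (by rw [bm a b ea, bm b a eb, e]))
  refine fin x y cx cy ?_
  by_contra k
  refine uv (fin u v cu cv (H95.comm_of_comm_nonscalar (A := H95.blk (c x))
    (by rw [← bm _ _ cu, ← bm _ _ cx, ux]) (by rw [← bm _ _ cv, ← bm _ _ cx, vx]) fun ⟨a, b, d⟩ => k ?_))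
  generalize H95.blk (c x) = m at a b d
  ext i j
  fin_cases i <;> fin_cases j <;> simp [mul_apply, Fin.sum_univ_two, a, b, d, mul_comm]

theorem r3 (h2 : (2 : F) ≠ 0) {Γ : Type} [Group Γ] [Finite Γ] (ρ : Γ →* SL(3, F))
    (hρ : Function.Injective ρ) (hc : Nat.card (center Γ) ∣ 3) {a b : Γ} (ha : (ρ a).1 = H95.x3 F)
    (hb : (ρ b).1 = H95.y3 F) : R3 (Γ ⧸ center Γ) := by
  intro S z x hz hzS hzc hxc _ y hy
  have h3 := H91.U4.pow_three_of_card hc
  let σ := (slToMat 3 F).comp ρ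
  have hσ : Function.Injective σ := fun g k e => hρ (Subtype.ext e)
  replace ha : σ a = H95.x3 F := ha
  replace hb : σ b = H95.y3 F := hb
  have aa : a * a = 1 := hσ (by rw [map_mul, map_one, ha, H95.x3_sq])
  have bb : b * b = 1 := hσ (by rw [map_mul, map_one, hb, H95.y3_sq])
  have ab : σ (a * b * (a * b)) = H95.z3 F := by rw [map_mul, map_mul, ha, hb, H95.xy3_sq]
  have a4 : (a * b) ^ 2 ^ 2 = 1 := hσ (by
    rw [pow_two, pow_mul, pow_two, pow_two, map_mul, ab, H95.z3_sq, map_one])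
  obtain ⟨u, hu, v, hv, uu, vv, uv⟩ := exists_pair S (x := (a : Γ ⧸ center Γ)) (y := b)
    (congrArg QuotientGroup.mk aa) (congrArg QuotientGroup.mk bb) (congrArg QuotientGroup.mk a4) fun e => by
      have := H91.U4.comm_of_mk h3 bb e
      refine H95.z3_ne_one h2 ?_
      rw [← ab]
      nth_rewrite 1 [this]
      rw [mul_assoc, ← mul_assoc a, aa, one_mul, bb, map_one]
  have ou : orderOf u = 2 := H83.orderOf_eq_two_iff'.2 ⟨uu, fun e => uv (by simp [e])⟩
  have ov : orderOf v = 2 := H83.orderOf_eq_two_iff'.2 ⟨vv, fun e => uv (by simp [e])⟩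
  obtain ⟨z, zz, z1, rfl⟩ := H91.U4.exists_inv_mk h3 hz
  obtain ⟨u, u2, u1, rfl⟩ := H91.U4.exists_inv_mk h3 ou
  obtain ⟨v, v2, -, rfl⟩ := H91.U4.exists_inv_mk h3 ov
  obtain ⟨x, rfl⟩ := QuotientGroup.mk_surjective x
  obtain ⟨y, rfl⟩ := QuotientGroup.mk_surjective y
  have m : ∀ {g k : Γ}, g * k = k * g → ρ k * ρ g = ρ g * ρ k := fun e => by rw [← map_mul, ← e, map_mul]
  have e : ρ x * ρ y = ρ y * ρ x := mat_comm h2 (z := ρ z) (u := ρ u) (v := ρ v)
    (by rw [← map_mul, zz, map_one]) (by rw [← map_mul, u2, map_one])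
    (fun e => z1 (hρ (e.trans (map_one ρ).symm))) (fun e => u1 (hρ (e.trans (map_one ρ).symm)))
    (fun e => uv (by rw [← hρ e]; exact (hzc _ hv).symm))
    (m (H91.U4.comm_of_mk h3 zz (hzc _ hu))) (m (H91.U4.comm_of_mk h3 zz (hzc _ hv)))
    (m (H91.U4.comm_of_mk h3 zz (hxc _ hzS).symm)) (m (H91.U4.comm_of_mk h3 zz hy))
    (m (H91.U4.comm_of_mk h3 u2 (hxc _ hu).symm)) (m (H91.U4.comm_of_mk h3 v2 (hxc _ hv).symm))
    fun e => uv (congrArg QuotientGroup.mk (hρ (by rw [map_mul, map_mul, e])))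
  exact congrArg QuotientGroup.mk (hρ (by rw [map_mul, map_mul, e]) : y * x = x * y)

theorem jobRk3 : JobRk3 := by
  refine ⟨fun F _ _ ho => ?_, fun F _ _ q hF ho => ?_⟩
  · exact r3 (H91.U4.two_ne ho) (MonoidHom.id _) Function.injective_id
      (by rw [H57.card_center_sl]; exact Nat.gcd_dvd_left _ _) (a := ⟨_, H95.det_x3⟩) (b := ⟨_, H95.det_y3⟩)
      rfl rfl
  · refine r3 (H91.U4.two_ne (hF ▸ ho.pow)) (SU 3 F q).subtype (subtype_injective _)
      (by rw [H59.card_center_SU hF (by omega)]; exact Nat.gcd_dvd_left _ _)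
      (a := ⟨⟨_, H95.det_x3⟩, fun u v => ?_⟩) (b := ⟨⟨_, H95.det_y3⟩, fun u v => ?_⟩) rfl rfl
    · change hermForm 3 F q (H95.x3 F *ᵥ u) (H95.x3 F *ᵥ v) = _
      simp [hermForm, Fin.sum_univ_three, H95.x3, mulVec, dotProduct, ho.neg_pow]
    · change hermForm 3 F q (H95.y3 F *ᵥ u) (H95.y3 F *ᵥ v) = _
      simp [hermForm, Fin.sum_univ_three, H95.y3, mulVec, dotProduct, ho.neg_pow, add_comm]

end H35.FSR
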