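/- Slot FS-U of the tower FS (rows S3257, S3617): one block per involution. -/
import Cfsg.Agent.H82.FSSpec2

set_option autoImplicit false
set_option linter.unusedSectionVars false

namespace H35.FSU

open Cfsg Subgroup H82.FS
open scoped commutatorElement

universe u

variable {G : Type u} [Group G] [Finite G] {p r : ℕ} {A N : Subgroup G}

theorem exists_sqrt (hr : r.Prime) (h2 : r ≠ 2) {X : Subgroup G} (hX : IsPGroup r X) {g : G} (hg : g ∈ X) :
    ∃ m : ℕ, g ^ (2 * m + 1) = 1 := by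
  obtain ⟨k, hk⟩ := hX ⟨g, hg⟩
  obtain ⟨m, hm⟩ := (hr.odd_of_ne_two h2).pow (n := k)
  exact ⟨m, hm ▸ congrArg Subtype.val hk⟩

theorem eq_one_of_sq (hr : r.Prime) (h2 : r ≠ 2) {X : Subgroup G} (hX : IsPGroup r X) {g : G} (hg : g ∈ X)
    (h : g * g = 1) : g = 1 := by
  obtain ⟨m, hm⟩ := exists_sqrt hr h2 hX hg
  rwa [pow_succ, pow_mul, pow_two, h, one_pow, one_mul] at hm

theorem norm_of_le (hL : Lin p r A) (lr : Lr A) (f1 : F1 A) {t : G} (ht : orderOf t = 2)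
    (hA : t ∈ centralizer (A : Set G)) {L W : Subgroup G} (fx : Fx r A t L) (hW : Sp r A W) (hle : L ≤ W) :
    t ∈ normalizer (W : Set G) := by
  have key : ∀ y ∈ W, cj (t * y) A ≤ W ⊔ A := fun y hy => by
    obtain ⟨h, h1, h2⟩ := (f1 t ht hA).2 y
    obtain ⟨l, hl, e⟩ := fx.2.2.2 h h1
    by_cases k : cj (y⁻¹ * l) A = A
    · have e2 : cj l A = cj y A := by rw [← mul_inv_cancel_left y l, cj_mul, k]
      rw [cj_mul, cj_eq_of_cen (fun b hb => mem_centralizer_singleton_iff.1 (h1 (e ▸ e2 ▸ hb)))]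
      exact cj_le_of le_sup_right (mem_sup_left hy)
    · have h3 := lr (y⁻¹ * (t * y)) (y⁻¹ * l) k (by
        have := cj_mono y⁻¹ h2
        rwa [e, cj_sup, cj_inv_cj, cj_cj, cj_cj] at this)
      rw [← mul_inv_cancel_left y (t * y), cj_mul]
      exact cj_le_of (h3.trans (sup_le le_sup_right (cj_le_of le_sup_right
        (mem_sup_left (mul_mem (inv_mem hy) (hle hl)))))) (mem_sup_left hy)
  refine norm_of_cj_le (le_of_le_sup_cop hW.2.1 ?_ (hL.cop (hW.1.map _)))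
  rw [← (hW.cjn (centralizer_le_normalizer _ hA)).2.2, commutator_le]
  rintro _ ⟨y, hy, rfl⟩ a ha
  have e : ⁅(MulAut.conj t).toMonoidHom y, a⁆ = (t * y) * a * (t * y)⁻¹ * a⁻¹ := by
    have := hA a ha
    show t * y * t⁻¹ * a * (t * y * t⁻¹)⁻¹ * a⁻¹ = _
    calc _ = t * y * (t⁻¹ * (a * t)) * (t * y)⁻¹ * a⁻¹ := by group
      _ = _ := by rw [this, inv_mul_cancel_left]
  rw [e]
  exact mul_mem (key y hy (conj_mem_cj ha)) (inv_mem (mem_sup_right ha))

theorem jobU : JobU.{u} := by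
  intro G _ _ p r A N h r2 bf f1 t ht hA L fx X Y hX hY hLX hLY
  by_contra hne
  have hL := h.lin
  have tt : t * t = 1 := by rw [← pow_two, ← ht, pow_orderOf_eq_one]
  have L1 : L ≠ ⊥ := fun e => by
    obtain ⟨g, h1, h2⟩ := (f1 t ht hA).1
    obtain ⟨l, hl, e'⟩ := fx.2.2.2 g h2
    rw [e, mem_bot] at hl
    exact h1 (by rw [e', hl, cj_one])
  obtain ⟨c1, c2, -⟩ := h.cls X hX.1
  have zA := h.Z_cen hX.1
  have nX := norm_of_le hL h.lr f1 ht hA fx hX.1 hLX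
  have nY := norm_of_le hL h.lr f1 ht hA fx hY.1 hLY
  have zX : ⁅X, X⁆ ≤ X := comm_le_left le_normalizer
  have tz : ∀ z ∈ ⁅X, X⁆, t * z * t⁻¹ = z := fun z hz => by
    have h1 := norm_of_le hL h.lr f1 ht hA fx (hY.cj (zA hz)).1 (by
      rw [← cj_eq_of_cen (centralizer_le hLX (c2 hz))]; exact cj_mono z hLY)
    rw [← cj_norm, H82.FS.mem_cj] at h1
    have h2 : z⁻¹ * (t * z * t⁻¹) ∈ ⁅X, X⁆ ⊓ normalizer (Y : Set G) :=
      mem_inf.2 ⟨mul_mem (inv_mem hz) ((mem_normalizer_iff.1 (le_norm_comm (zpowers_le.2 nX) (zpowers_le.2 nX)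
        (mem_zpowers t)) z).1 hz), by
        rw [← mul_assoc, ← mul_assoc]; exact mul_mem h1 (inv_mem nY)⟩
    rw [bf.zl X Y hX hY hne, mem_bot, inv_mul_eq_one] at h2
    exact h2.symm
  have hW : A ≤ normalizer ((X ⊓ centralizer (L : Set G) : Subgroup G) : Set G) :=
    le_norm_inf hX.1.2.1 (le_norm_cen fx.1.2.1)
  have hU : ⁅X ⊓ centralizer (L : Set G), A⁆ ≤ Y :=
    (bf.lag L Y X fx.1 L1 hY hX (Ne.symm hne) hLY hLX).2 _ (sp_comm hL (hX.1.1.to_le inf_le_left) hW)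
      ((comm_le_left hW).trans (inf_le_right.trans (centralizer_le_normalizer _)))
  refine hne (hX.2 Y hY.1 ?_).symm
  rw [← hX.1.2.2, commutator_le]
  intro y hy a ha
  obtain ⟨m, hm⟩ := exists_sqrt hL.hr r2 hX.1.1 hy
  obtain ⟨v, hv, rfl⟩ : ∃ v ∈ X, y = v * v :=
    ⟨y ^ (m + 1), pow_mem hy _, by rw [← pow_add, show m + 1 + (m + 1) = 2 * m + 1 + 1 by ring, pow_succ, hm,
      one_mul]⟩
  obtain ⟨v', e1⟩ : ∃ v', t * v * t⁻¹ = v' := ⟨_, rfl⟩
  have hv' : v' ∈ X := e1 ▸ (mem_normalizer_iff.1 nX v).1 hv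
  have e2 : t * v' * t⁻¹ = v := by
    rw [← e1, ← mul_assoc, ← mul_assoc, tt, one_mul, mul_assoc, ← mul_inv_rev, tt, inv_one, mul_one]
  have k1 : ⁅v', v⁆ = 1 := by
    have m1 := commutator_mem_commutator hv' hv
    refine eq_one_of_sq hL.hr r2 hX.1.1 (zX m1) ?_
    nth_rewrite 1 [← tz _ m1]
    rw [conjugate_commutatorElement, e1, e2, ← commutatorElement_inv, inv_mul_cancel]
  rw [commutatorElement_eq_one_iff_mul_comm] at k1
  have ct : v * v' ∈ centralizer ({t} : Set G) := mem_centralizer_singleton_iff.2 (by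
    symm; rw [← mul_inv_eq_iff_eq_mul, ← conj_mul, e1, e2, k1])
  obtain ⟨l, hl, e⟩ := fx.2.2.2 (v * v') (cj_le_of (fun b hb => mem_centralizer_singleton_iff.2 (hA b hb)) ct)
  have hz : l⁻¹ * (v * v') ∈ centralizer (A : Set G) :=
    hL.norm_cen (hL.cop hX.1.1) hX.1.2.1 (mul_mem (inv_mem (hLX hl)) (mul_mem hv hv'))
      (cj_eq_iff.1 (by rw [cj_mul, e, cj_inv_cj]))
  have hw : v'⁻¹ * v ∈ X := mul_mem (inv_mem hv') hv
  have iw : t * (v'⁻¹ * v) * t⁻¹ = (v'⁻¹ * v)⁻¹ := by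
    rw [← conj_mul, ← conj_inv, e1, e2, mul_inv_rev, inv_inv]
  have cw : v'⁻¹ * v ∈ centralizer (L : Set G) := fun b hb => by
    generalize v'⁻¹ * v = w at hw iw
    have m1 := commutator_mem_commutator hw (hLX hb)
    have tb : t * b * t⁻¹ = b := by
      rw [← mem_centralizer_singleton_iff.1 (fx.2.1 hb), mul_inv_cancel_right]
    refine (commutatorElement_eq_one_iff_mul_comm.1 (eq_one_of_sq hL.hr r2 hX.1.1 (zX m1) ?_)).symm
    nth_rewrite 1 [← tz _ m1]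
    rw [conjugate_commutatorElement, iw, tb]
    calc _ = w⁻¹ * (⁅w, b⁆⁻¹ * (w * ⁅w, b⁆)) := by simp only [commutatorElement_def]; group
      _ = 1 := by rw [c2 m1 w hw]; group
  have hz' : l⁻¹ * (v * v') ∈ centralizer (X : Set G) :=
    c2 (c1.ge (mem_inf.2 ⟨mul_mem (inv_mem (hLX hl)) (mul_mem hv hv'), hz⟩))
  have e3 : v * v = l * ((v'⁻¹ * v) * (l⁻¹ * (v * v'))) := by rw [hz' _ hw]; group
  rw [e3]
  generalize v'⁻¹ * v = w at hw cw
  generalize l⁻¹ * (v * v') = z at hz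
  have e4 : ⁅l * (w * z), a⁆ = l * ⁅w, a⁆ * l⁻¹ * ⁅l, a⁆ := by
    have := hz a ha
    simp only [commutatorElement_def]
    calc _ = l * w * (z * a) * z⁻¹ * w⁻¹ * l⁻¹ * a⁻¹ := by group
      _ = _ := by rw [← this]; group
  rw [e4]
  exact mul_mem (mul_mem (mul_mem (hLY hl) (hU (commutator_mem_commutator ⟨hw, cw⟩ ha))) (inv_mem (hLY hl)))
    (hLY (comm_le_left fx.1.2.1 (commutator_mem_commutator hl ha)))

end H35.FSU
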