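import Cfsg.Agent.H14.FESpec

/-! Tower FE, job Da. -/

set_option autoImplicit false
set_option linter.unusedSectionVars false

namespace H35.FeDa

open Cfsg Subgroup MulAction H14 H98 H1.Gold H31.S2 H14.GC H14.FE
open scoped commutatorElement

universe u

theorem inv_pow {G : Type*} [Group G] {x : G} {n : ℕ} (h : x ^ 2 ^ n = 1) (h1 : x ≠ 1) :
    ∃ m : ℕ, GC.Inv (x ^ m) := by
  by_cases h2 : x * x = 1
  · exact ⟨1, by rw [pow_one]; exact ⟨h1, h2⟩⟩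
  · obtain ⟨m, hm⟩ := exists_pow_sq_of_two h h2
    exact ⟨m + m, by rwa [pow_add]⟩

variable {X : Type u} [Group X] [Finite X] {J Ω : Type u} [MulAction X J] [MulAction X Ω]
  {pt : J → Ω} {B : J → Subgroup X} {β : Subgroup X → Prop}

theorem mem_Cm {u g : X} :
    g ∈ Cm Ω u ↔ toPermHom X Ω g * toPermHom X Ω u = toPermHom X Ω u * toPermHom X Ω g :=
  mem_centralizer_singleton_iff

theorem triv_iff {g : X} : Triv Ω g ↔ toPermHom X Ω g = 1 :=
  ⟨fun h => Equiv.ext h, fun h a => congrArg (fun e : Equiv.Perm Ω => e a) h⟩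

theorem conj_mem (h : PG pt B β) {x y : X} {j : J} (hy : y ∈ B j) : x * y * x⁻¹ ∈ B (x • j) := by
  rw [h.B_smul]; exact conj_mem_cj hy

theorem f1 (h : PG pt B β) {i j : J} (hne : i ≠ j) (e : pt i = pt j) {P : Subgroup X}
    (hP : IsPGroup 2 P) {x y : X} (hx : x ∈ P ⊓ B i) (hy : y ∈ P ⊓ B j) : x * y = y * x := by
  have a1 : x * y * x⁻¹ ∈ B j := by
    have := conj_mem h (x := x) hy.2
    rwa [show x • j = j from h.mn i j e hx.2] at this
  have a2 : y * x⁻¹ * y⁻¹ ∈ B i := by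
    have := conj_mem h (x := y) (inv_mem hx.2)
    rwa [show y • i = i from h.mn j i e.symm hy.2] at this
  have m1 : x * y * x⁻¹ * y⁻¹ ∈ B i ⊓ B j :=
    mem_inf.2 ⟨by simpa only [mul_assoc] using (B i).mul_mem hx.2 a2,
      (B j).mul_mem a1 ((B j).inv_mem hy.2)⟩
  obtain ⟨k, hk⟩ := isPGroup_iff_forall.1 hP (x * y * x⁻¹ * y⁻¹)
    (mul_mem (mul_mem (mul_mem hx.1 hy.1) (inv_mem hx.1)) (inv_mem hy.1))
  by_contra hc
  obtain ⟨m, hm⟩ := inv_pow hk fun h1 => hc (by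
    rw [mul_inv_eq_one, mul_inv_eq_iff_eq_mul] at h1; exact h1)
  exact h.ti i j hne _ (pow_mem m1 m) hm

theorem big (h : PG pt B β) {P : Subgroup X} {j : J} (hP : IsSyl 2 P (stabilizer X (pt j))) :
    Big β (P ⊓ B j) := by
  have le : ∀ i, pt i = pt j → B i ≤ Yp pt B (pt j) := fun i hi =>
    le_iSup₂_of_le (f := fun i (_ : pt i = pt j) => B i) i hi le_rfl
  have y1 : Yp pt B (pt j) ≤ stabilizer X (pt j) := iSup₂_le fun i hi x hx => by
    rw [mem_stabilizer_iff, ← h.pt_smul, show x • j = j from h.mn i j hi hx]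
  have y2 : P ≤ normalizer (Yp pt B (pt j) : Set X) := fun g hg => mem_normalizer_of_cj_le (by
    rw [cj_le_iff]
    refine iSup₂_le fun i hi => ?_
    rw [← cj_le_iff, ← h.B_smul]
    exact le _ (by rw [h.pt_smul, hi]; exact hP.le hg))
  have y3 : Yp pt B (pt j) ≤ normalizer (B j : Set X) := iSup₂_le fun i hi x hx =>
    cj_eq_self_iff.1 (by rw [← h.B_smul, show x • j = j from h.mn i j hi hx])
  have s := (hP.inf_of_le_normalizer y1 y2).inf_of_le_normalizer (le j rfl) (inf_le_right.trans y3)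
  obtain ⟨U, hU, h2, hb⟩ := h.big j
  obtain ⟨g, -, hg⟩ := s.exists_cj_le h2 hU
  exact ⟨_, hg.trans (inf_le_inf_right _ inf_le_left), isPGroup_cj g h2, h.bt.cj U g hb⟩

theorem home1 (h : PG pt B β) {x : X} {a : Ω} (hx : x • a = a) (h1 : ¬ Triv Ω x)
    (hb : ∀ j, pt j = a → Big β (Cm Ω x ⊓ B j)) : Cm Ω x ≤ stabilizer X a := by
  refine (h.home _ a (fun g hg => mem_Cm.2 (by rw [MonoidHom.mem_ker.1 hg]; simp)) hb).resolve_left
    fun e => h1 fun b => ?_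
  obtain ⟨g, rfl⟩ := h.trans a b
  have := congrArg (fun e : Equiv.Perm Ω => e a) (mem_Cm.1 (e.symm ▸ mem_top g : g ∈ Cm Ω x))
  simp only [Equiv.Perm.mul_apply, toPermHom_apply, toPerm_apply, hx] at this
  exact this.symm

theorem aux (h : PG pt B β) {u : X} {a a' : Ω} (hne : a ≠ a') (hu : u • a' = a')
    (h2 : Triv Ω (u * u)) (hC : Cm Ω u ≤ stabilizer X a) {k : ℕ} (hk : u ^ 2 ^ k = 1) :
    ∃ Δ ≤ Cm Ω u ⊓ Yp pt B a', IsPGroup 2 Δ ∧ (∃ δ ∈ Δ, ¬ Triv Ω (δ * δ)) ∧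
      ∀ v ∈ Δ, ¬ Triv Ω v → Δ ≤ Cm Ω v → Cm Ω v ≤ stabilizer X a' := by
  obtain ⟨l, rfl⟩ := h.surj a'
  obtain ⟨P, hP, hle⟩ := exists_isSyl_le (isPGroup_zpowers hk)
    (zpowers_le.2 (show u ∈ stabilizer X (pt l) from hu))
  have uP : u ∈ P := hle (mem_zpowers u)
  have noinv : ∀ e ∈ B l, GC.Inv e → e ∉ Cm Ω u := fun e he hi hc => hne (h.fix l e he hi a (hC hc))
  obtain ⟨x1, hx1, x2⟩ : ∃ x ∈ P ⊓ B l, x * x ≠ 1 := by
    obtain ⟨U, hU, -, hb⟩ := big h hP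
    by_contra! hc
    exact h.bt.ne U hb fun x hx => hc x (hU hx)
  have cm : ∀ {j : J} {g x : X}, g ∈ P → x ∈ P ⊓ B j → g * x * g⁻¹ ∈ P ⊓ B (g • j) :=
    fun hg hx => ⟨P.mul_mem (P.mul_mem hg hx.1) (P.inv_mem hg), conj_mem h hx.2⟩
  have ul : l ≠ u • l := fun e => by
    have hn : zpowers u ≤ normalizer ((P ⊓ B l : Subgroup X) : Set X) :=
      zpowers_le.2 (mem_normalizer_of_cj_le (by
        rintro _ ⟨x, hx, rfl⟩
        have := cm uP hx
        rwa [← e] at this))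
    obtain ⟨⟨y, hy⟩, y1⟩ := (ne_bot_iff_exists_ne_one).1 (inf_centralizer_ne_bot
      (hP.isPGroup.to_le (inf_le_left : P ⊓ B l ≤ P)) (isPGroup_zpowers hk) hn fun e => by
        rw [e, mem_bot] at hx1
        exact x2 (by rw [hx1, one_mul]))
    obtain ⟨n, hn⟩ := isPGroup_iff_forall.1 hP.isPGroup y hy.1.1
    obtain ⟨m, hm⟩ := inv_pow hn fun e => y1 (Subtype.ext e)
    refine noinv _ (pow_mem hy.1.2 m) hm (pow_mem (mem_Cm.2 ?_) m)
    rw [← map_mul, ← map_mul, hy.2 u (mem_zpowers u)]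
  have pl : pt l = pt (u • l) := by rw [h.pt_smul, hu]
  have co : ∀ x ∈ P ⊓ B l, ∀ y ∈ P ⊓ B l, x * (u * y * u⁻¹) = u * y * u⁻¹ * x :=
    fun x hx y hy => f1 h ul pl hP.isPGroup hx (cm uP hy)
  let δ : ↥(P ⊓ B l) →* X := MonoidHom.mk' (fun x => x * (u * x * u⁻¹)) fun x y => by
    calc (x : X) * y * (u * (x * y) * u⁻¹) = x * (y * (u * x * u⁻¹)) * (u * y * u⁻¹) := by group
      _ = _ := by rw [co y y.2 x x.2]; group
  have dP : δ.range ≤ P := by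
    rintro _ ⟨x, rfl⟩
    exact mul_mem x.2.1 (cm uP x.2).1
  have uu : toPermHom X Ω u * toPermHom X Ω u = 1 := by rw [← map_mul]; exact triv_iff.1 h2
  have inj : Function.Injective ((toPermHom X Ω).comp δ) := by
    refine (injective_iff_map_eq_one _).2 fun x hx => ?_
    by_contra x1
    obtain ⟨n, hn⟩ := isPGroup_iff_forall.1 hP.isPGroup x x.2.1
    obtain ⟨m, hm⟩ := inv_pow hn fun e => x1 (Subtype.ext e)
    have e : ((toPermHom X Ω).comp δ) (x ^ m) = 1 := by rw [map_pow, hx, one_pow]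
    refine noinv _ (pow_mem x.2.2 m) hm (mem_Cm.2 ?_)
    change toPermHom X Ω ((x : X) ^ m * (u * (x : X) ^ m * u⁻¹)) = 1 at e
    have e2 : toPermHom X Ω ((x : X) ^ m) * toPermHom X Ω ((x : X) ^ m) = 1 := by
      rw [← map_mul, hm.2, map_one]
    rw [map_mul, map_mul, map_mul, map_inv, ← e2, mul_left_cancel_iff, mul_inv_eq_iff_eq_mul] at e
    exact e.symm
  refine ⟨δ.range, ?_, hP.isPGroup.to_le dP, ⟨δ ⟨x1, hx1⟩, ⟨_, rfl⟩, fun ht => x2 ?_⟩, ?_⟩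
  · rintro _ ⟨x, rfl⟩
    refine ⟨mem_Cm.2 ?_, mul_mem ?_ ?_⟩
    · change toPermHom X Ω ((x : X) * (u * x * u⁻¹)) * _ = _ * toPermHom X Ω ((x : X) * (u * x * u⁻¹))
      conv_rhs => rw [co x x.2 x x.2]
      simp only [map_mul, map_inv, inv_eq_of_mul_eq_one_right uu, ← mul_assoc, uu, one_mul]
      rw [mul_assoc _ (toPermHom X Ω u) (toPermHom X Ω u), uu, mul_one]
    · exact le_iSup₂_of_le (f := fun i (_ : pt i = pt l) => B i) l rfl le_rfl x.2.2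
    · exact le_iSup₂_of_le (f := fun i (_ : pt i = pt l) => B i) (u • l) pl.symm le_rfl
        (conj_mem h x.2.2)
  · have : (⟨x1, hx1⟩ : ↥(P ⊓ B l)) * ⟨x1, hx1⟩ = 1 := inj (by
      rw [map_one, MonoidHom.comp_apply, map_mul]; exact triv_iff.1 ht)
    exact congrArg Subtype.val this
  · rintro _ ⟨x, rfl⟩ h1 hc
    have cx : ∀ y ∈ P ⊓ B l, y * x = x * y := fun y hy => by
      have : (⟨y, hy⟩ : ↥(P ⊓ B l)) * x = x * ⟨y, hy⟩ := inj (by
        rw [map_mul, map_mul]; exact mem_Cm.1 (hc ⟨_, rfl⟩))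
      exact congrArg Subtype.val this
    have c1 : ∀ j, pt j = pt l → ∀ y ∈ P ⊓ B j, y * x = x * y := fun j hj y hy => by
      by_cases e : j = l
      · exact cx y (e ▸ hy)
      · exact f1 h e hj hP.isPGroup hy x.2
    refine home1 h (hP.le (dP ⟨x, rfl⟩)) h1 fun j hj => ?_
    obtain ⟨U, hU, r⟩ := big h (j := j) (hj.symm ▸ hP)
    refine ⟨U, fun y hy => ⟨mem_Cm.2 ?_, (hU hy).2⟩, r⟩
    have c2 := c1 (u⁻¹ • j) (by rw [h.pt_smul, hj, inv_smul_eq_iff, hu]) _ (cm (inv_mem uP) (hU hy))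
    rw [← map_mul, ← map_mul]
    congr 1
    change y * ((x : X) * (u * x * u⁻¹)) = x * (u * x * u⁻¹) * y
    calc y * ((x : X) * (u * x * u⁻¹)) = y * x * (u * x * u⁻¹) := by group
      _ = x * (u * (u⁻¹ * y * u⁻¹⁻¹ * x) * u⁻¹) := by rw [c1 j hj y (hU hy)]; group
      _ = _ := by rw [c2]; group

theorem jobDa : JobDa.{u} := by
  intro X _ _ J Ω _ _ _ _ pt B β h u a a' hne hu h2 hC
  obtain ⟨k, m, hm, e⟩ := Nat.exists_eq_two_pow_mul_odd (orderOf_pos u).ne'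
  obtain ⟨n, rfl⟩ := hm
  have uu : toPermHom X Ω u ^ 2 = 1 := by rw [pow_two, ← map_mul]; exact triv_iff.1 h2
  have e1 : toPermHom X Ω (u ^ (2 * n + 1)) = toPermHom X Ω u := by
    rw [map_pow, pow_succ, pow_mul, uu, one_pow, one_mul]
  have e2 : Cm Ω (u ^ (2 * n + 1)) = Cm Ω u := by unfold Cm; rw [e1]
  rw [← e2] at hC ⊢
  refine aux h hne (pow_mem (show u ∈ stabilizer X a' from hu) _) (triv_iff.2 ?_) hC (k := k) ?_
  · rw [map_mul, e1, ← pow_two, uu]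
  · rw [← pow_mul, mul_comm, ← e, pow_orderOf_eq_one]

end H35.FeDa
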