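import Cfsg.Agent.H23.NDSpec
import Cfsg.Agent.H40.CopDeg

/-! Tower ND (row S4780): the jobs `Ext` and `Al`. -/

set_option autoImplicit false
set_option linter.unusedSectionVars false
open Cfsg H28 H32 H44 H93.DG H55.Nd H23.ND

namespace H35.NDExt

universe u

variable {G : Type u} [Group G] [Finite G]

theorem idx_mul (I N : Subgroup G) : I.relIndex N * N.index = N.relIndex I * I.index := by
  rw [← Subgroup.inf_relIndex_right I N, ← Subgroup.inf_relIndex_left I N,
    Subgroup.relIndex_mul_index inf_le_right, Subgroup.relIndex_mul_index inf_le_left]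

theorem rel_dvd (I N : Subgroup G) [N.Normal] : I.relIndex N ∣ I.index := by
  obtain ⟨c, hc⟩ := Subgroup.relIndex_dvd_index_of_normal N I
  refine ⟨c, Nat.eq_of_mul_eq_mul_left (Nat.pos_of_ne_zero
    (show N.relIndex I ≠ 0 from (N.subgroupOf I).index_ne_zero_of_finite)) ?_⟩
  rw [← idx_mul, hc]; ring

theorem idx_eq {P N : Subgroup G} [N.Normal] (h : P ⊔ N = ⊤) : P.index = P.relIndex N := by
  have h1 := idx_mul P N
  rw [← Subgroup.relIndex_sup_right P N, h, Subgroup.relIndex_top_right, mul_comm] at h1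
  exact (Nat.eq_of_mul_eq_mul_left (Nat.pos_of_ne_zero N.index_ne_zero_of_finite) h1).symm

/-- an invariant character extends if `G / N` is cyclic of order prime to `p` and `N / L` is a
`p`-group with `L` of order prime to `p` -/
theorem ext_aux {p k : ℕ} (hp : p.Prime) {L N : Subgroup G} [hL : L.Normal] [N.Normal] (hLN : L ≤ N)
    (hc : IsCyclic (G ⧸ N)) (h1 : ¬ p ∣ N.index) (h2 : ¬ p ∣ Nat.card L) (h3 : L.relIndex N ∣ p ^ k)
    {θ : L → ℂ} (hθ : IsIrrCharacter L θ) (hi : inertia θ = ⊤) :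
    ∃ χ : G → ℂ, IsIrrCharacter G χ ∧ ∀ n : L, χ n = θ n := by
  have inv : ∀ (P : Subgroup G) (h : L ≤ P),
      inertia (fun x : L.subgroupOf P => θ ⟨(x : P), x.2⟩) = ⊤ := fun P h => by
    rw [inertia_subgroupOf h, hi, Subgroup.top_subgroupOf]
  refine exists_ext_of_forall_prime hθ (inertia_eq_top_iff.1 hi) fun r hr _ => ?_
  by_cases e : r = p
  · subst e
    obtain ⟨η, a1, a2, -⟩ := H40.exists_canonical_ext_of_coprime (L.subgroupOf N) (by
      rw [Nat.card_congr (Subgroup.subgroupOfEquivOfLe hLN).toEquiv]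
      exact (((Nat.Prime.coprime_iff_not_dvd hp).2 h2).symm.pow_right k).coprime_dvd_right h3)
      (isIrrCharacter_subgroupOf hLN hθ) (inertia_eq_top_iff.1 (inv N hLN))
    exact ⟨N, hLN, η, h1, a1.isCharacter, fun n => a2 ⟨⟨n, hLN n.2⟩, n.2⟩⟩
  · obtain ⟨g', hg⟩ := hc.exists_generator
    obtain ⟨g, rfl⟩ := QuotientGroup.mk_surjective g'
    have t : (Subgroup.zpowers g ⊔ L) ⊔ N = ⊤ := by
      rw [sup_assoc, sup_eq_right.2 hLN, eq_top_iff]
      intro x _
      obtain ⟨j, hj⟩ := hg (x : G ⧸ N)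
      have : (g ^ j)⁻¹ * x ∈ N := QuotientGroup.eq.1 (by rw [QuotientGroup.mk_zpow]; exact hj)
      have := mul_mem (Subgroup.mem_sup_left (T := N) (Subgroup.zpow_mem_zpowers g j))
        (Subgroup.mem_sup_right this)
      simpa using this
    have cy : IsCyclic (↥(Subgroup.zpowers g ⊔ L) ⧸ L.subgroupOf (Subgroup.zpowers g ⊔ L)) := by
      refine ⟨⟨((⟨g, Subgroup.mem_sup_left (Subgroup.mem_zpowers g)⟩ :
        ↥(Subgroup.zpowers g ⊔ L)) : _ ⧸ _), fun x => ?_⟩⟩
      obtain ⟨⟨x, hx⟩, rfl⟩ := QuotientGroup.mk_surjective x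
      obtain ⟨_, ⟨j, rfl⟩, l, hl, rfl⟩ := Subgroup.mem_sup_of_normal_right.1 hx
      refine ⟨j, ?_⟩
      beta_reduce
      rw [← QuotientGroup.mk_zpow, QuotientGroup.eq, Subgroup.mem_subgroupOf]
      simpa using hl
    obtain ⟨η, a1, a2⟩ := exists_ext_of_cyclic cy (isIrrCharacter_subgroupOf le_sup_right hθ)
      (inertia_eq_top_iff.1 (inv _ le_sup_right))
    refine ⟨_, le_sup_right, η, fun t2 => e ?_, a1.isCharacter, fun n => a2 ⟨⟨n, _⟩, n.2⟩⟩
    rw [idx_eq t] at t2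
    exact (Nat.prime_dvd_prime_iff_eq hr hp).1 (hr.dvd_of_dvd_pow
      (t2.trans ((Subgroup.relIndex_dvd_of_le_left N le_sup_right).trans h3)))

theorem cyc_of {N : Subgroup G} [N.Normal] {h : G} (e : N ⊔ Subgroup.zpowers h = ⊤) :
    IsCyclic (G ⧸ N) := by
  refine ⟨⟨(h : G ⧸ N), fun x => ?_⟩⟩
  obtain ⟨x, rfl⟩ := QuotientGroup.mk_surjective x
  obtain ⟨y, hy, _, ⟨j, rfl⟩, rfl⟩ := dec_gen e x
  refine ⟨j, ?_⟩
  beta_reduce
  rw [QuotientGroup.mk_mul, (QuotientGroup.eq_one_iff y).2 hy, one_mul, QuotientGroup.mk_zpow]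

theorem jobExt : JobExt.{u} := by
  intro G _ _ p k N L _ _ h b hLN h2 h3 d hd
  cases nonempty_fintype G
  cases nonempty_fintype L
  obtain ⟨χ, hχ, rfl⟩ := exists_of_mem_cd hd
  obtain ⟨θ, hθ, hc⟩ := exists_constituent_res (H := L) hχ.isCharacter hχ.apply_one_ne_zero
  have cy := cyc_of b.gen
  have dv : (inertia θ).index * charDegree θ ∣ charDegree χ := Dg.dvd hθ ⟨χ, hχ, hc, rfl⟩
  by_cases h1 : (inertia θ).index * charDegree θ = 1
  · left
    obtain ⟨η, a1, a2⟩ := ext_aux b.hp hLN cy b.np h2 h3.dvd hθ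
      (Subgroup.index_eq_one.1 (Nat.eq_one_of_mul_eq_one_right h1))
    have e : (fun n : L => η n) = θ := funext a2
    obtain ⟨β, c1, c2, rfl⟩ := gallagher_surj a1.isCharacter (e ▸ hθ) hχ (e ▸ hc)
    rw [c1.isCharacter.charDegree_mul a1.isCharacter,
      charDegree_congr (η := η) (χ := θ) (a2 1), Nat.eq_one_of_mul_eq_one_left h1, mul_one]
    exact mem_cd_quot c1 c2
  right
  have hLI : L ≤ inertia θ := le_inertia hθ.isClassFunction
  have cy' : IsCyclic (inertia θ ⧸ N.subgroupOf (inertia θ)) :=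
    isCyclic_of_injective (QuotientGroup.map _ N (inertia θ).subtype le_rfl) (by
      rw [injective_iff_map_eq_one]
      intro x hx
      obtain ⟨x, rfl⟩ := QuotientGroup.mk_surjective x
      exact (QuotientGroup.eq_one_iff _).2 ((QuotientGroup.eq_one_iff (N := N) _).1 hx))
  obtain ⟨η, a1, a2⟩ := ext_aux (k := k) b.hp (Subgroup.subgroupOf_mono (inertia θ) hLN) cy'
    (fun t => b.np (t.trans (Subgroup.relIndex_dvd_index_of_normal N _)))
    (by rwa [Nat.card_congr (Subgroup.subgroupOfEquivOfLe hLI).toEquiv])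
    (by
      rw [← Subgroup.inf_subgroupOf_right N, Subgroup.relIndex_subgroupOf inf_le_right, ← h3]
      exact Dvd.intro _ (Subgroup.relIndex_mul_relIndex _ _ _ (le_inf hLN hLI) inf_le_left))
    (isIrrCharacter_subgroupOf hLI hθ) (by rw [inertia_subgroupOf hLI, Subgroup.subgroupOf_self])
  have key : ∀ e ∈ charDegrees (inertia θ ⧸ L.subgroupOf (inertia θ)),
      (inertia θ).index * (e * charDegree θ) ∈ charDegrees G := fun e he =>
    mem_cd_of_ext hθ rfl hLI a1.isCharacter (fun n => a2 ⟨⟨n, hLI n.2⟩, n.2⟩) he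
  have k1 := key 1 one_mem_cd
  rw [one_mul] at k1
  have ab := commutator_le_of_cd_quot (L.subgroupOf (inertia θ)) fun e he =>
    b.nd.mul k1 (key e he) h1 (Dvd.intro 1 (by ring))
  refine ⟨inertia θ, hLI, Subgroup.commutator_le.2 fun x hx y hy => ?_, dvd_of_mul_right_dvd dv,
    fun t => inertia_eq_top_iff.2 fun g n => congrArg θ (Subtype.ext ?_)⟩
  · exact ab (comm_mem_commutator (⟨x, hx⟩ : inertia θ) ⟨y, hy⟩)
  · have := Subgroup.mem_center_iff.1 (t n.2) g
    simp only [this, mul_inv_cancel_right]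

theorem jobAl : JobAl.{u} := by
  intro G _ _ p k q N L I _ _ hp hLN h3 hq hLI hI
  have e1 : Nat.card (N.map (QuotientGroup.mk' L)) = p ^ k := by
    rw [← Subgroup.relIndex_ker, QuotientGroup.ker_mk', h3]
  obtain ⟨a, -, rfl⟩ := (Nat.dvd_prime_pow hp).1 (e1 ▸ dvd_card_of_mem_cd hq)
  obtain ⟨c, -, hc⟩ := (Nat.dvd_prime_pow hp).1 (h3 ▸ Subgroup.relIndex_dvd_of_le_left N hLI)
  have le := le_index_of_mem_cd hq ((I.map (QuotientGroup.mk' L)).subgroupOf _) (by
    rintro ⟨_, _⟩ ⟨x, hx, rfl⟩ ⟨_, _⟩ ⟨y, hy, rfl⟩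
    refine Subtype.ext ?_
    have := (QuotientGroup.eq_one_iff _).2 (hI (Subgroup.commutator_mem_commutator hx hy))
    exact commutatorElement_eq_one_iff_mul_comm.1 this)
  have e2 : (I.map (QuotientGroup.mk' L)).relIndex (N.map (QuotientGroup.mk' L)) = p ^ c := by
    rw [Subgroup.relIndex_map_map, QuotientGroup.ker_mk', sup_eq_left.2 hLI, sup_eq_left.2 hLN, hc]
  refine dvd_trans ?_ (rel_dvd I N)
  rw [hc]
  exact pow_dvd_pow p ((Nat.pow_le_pow_iff_right hp.one_lt).1 (le.trans e2.le))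

end H35.NDExt
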