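import Cfsg.Agent.H35.RRKit
import Cfsg.Agent.H22.HHSub
import Cfsg.Agent.H1.InvSylow

/-! Row S3530: the jobs `JobAF`, `JobT`, `JobNS`. -/

set_option autoImplicit false
set_option maxHeartbeats 400000

namespace H35.RR

open Cfsg Subgroup H24 H70.Sq H10.W H70.RR
open scoped commutatorElement

universe u

section

variable {G H : Type u} [Group G] [Finite G] [Group H] {ψ : G →* H}

theorem lft_prime {K K' : Subgroup G} {h : H} {e : ℕ} (he : e.Prime) (hK : K' ≤ K) (hh : h ∈ K'.map ψ)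
    (ho : orderOf h = e) (hn : ¬ e ∣ Nat.card ↥(K ⊓ ψ.ker)) : ∃ g ∈ K', ψ g = h ∧ orderOf g = e := by
  have := Fact.mk he
  obtain ⟨g, hg, e1, e2⟩ := lft hh
  refine ⟨g, hg, e1, orderOf_eq_prime ?_ fun e3 => he.one_lt.ne ?_⟩
  · by_contra e3
    obtain ⟨p, hp, hd⟩ := Nat.exists_prime_and_dvd fun e4 => e3 (orderOf_eq_one_iff.1 e4)
    have h1 := e2 p hp (hd.trans (orderOf_pow_dvd e))
    rw [ho, Nat.prime_dvd_prime_iff_eq hp he] at h1
    subst h1
    exact hn (hd.trans (Subgroup.orderOf_dvd_natCard _ (mem_inf.2 ⟨pow_mem (hK hg) _, by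
      rw [MonoidHom.mem_ker, map_pow, e1, ← ho, pow_orderOf_eq_one]⟩)))
  · rw [← ho, ← e1, e3, map_one, orderOf_one]

end

theorem jobAF : JobAF.{u} := by
  intro G H _ _ _ ψ T K W e q r hs hT he hq hr heq her hqr h2 ⟨Q, x, hQ, hx, ho, t, ht, hc⟩ hn hW h0 hK
  have := Fact.mk hq
  have hQT : Q.map T.subtype ≤ T := map_subtype_le _
  obtain ⟨P, hP⟩ := H98.exists_isSyl q (K ⊓ (Q.map T.subtype).comap ψ)
  have hPQ : P.map ψ = Q.map T.subtype := by
    have h3 := hP.map ψ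
    rw [map_inf_comap (hQT.trans hT)] at h3
    exact h3.eq_of_isPGroup (hQ.map _)
  have hPK : P ≤ K := hP.le.trans inf_le_left
  have hox : orderOf (x : H) = e := (orderOf_coe x).trans ho
  obtain ⟨g, hg, eg⟩ := hT x.2
  have hgn : g ∈ normalizer ((K ⊓ (Q.map T.subtype).comap ψ : Subgroup G) : Set G) := by
    refine mem_normalizer_fintype fun n hn => mem_inf.2 ⟨K.mul_mem (K.mul_mem hg hn.1) (K.inv_mem hg), ?_⟩
    obtain ⟨y, hy, ey⟩ := hn.2
    refine ⟨x * y * x⁻¹, (mem_normalizer_iff.1 hx y).1 hy, ?_⟩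
    rw [map_mul ψ, map_mul ψ, map_inv ψ, eg, ← ey]
    rfl
  obtain ⟨a, ha, n, hn', ea⟩ := hP.frattini_mem hgn
  obtain ⟨n', hn'', en⟩ := hPQ.ge hn'.2
  obtain ⟨y, hy, ey, oy⟩ := lft_prime (ψ := ψ) (K := K) (K' := K ⊓ normalizer (P : Set G)) (h := (x : H)) he inf_le_left
    ⟨a * n', mem_inf.2 ⟨K.mul_mem ((K.mul_mem_cancel_right hn'.1).1 (ea ▸ hg)) (hPK hn''),
      mul_mem ha (le_normalizer hn'')⟩, by rw [map_mul, en, ← map_mul, ← ea, eg]⟩ hox hn
  by_cases h1 : W ⊓ centralizer (zpowers y : Set G) = ⊥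
  swap
  · obtain ⟨⟨w, hw⟩, w1⟩ := ne_bot_iff_exists_ne_one.1 h1
    have := Fact.mk hr
    exact ⟨y, hy.1, w, hw.1, oy, by rw [ey]; exact x.2, orderOf_eq_prime (hW.2 w hw.1) fun e => w1 (Subtype.ext e),
      mem_centralizer_iff.1 hw.2 y (mem_zpowers y)⟩
  have h3 : ⁅zpowers y, P⁆ ≤ centralizer (W : Set G) := by
    by_contra h3
    obtain ⟨rfl, -, h4⟩ := H22.hh_prime_fix_sub hr hq he hqr.symm heq _ P W (by rw [Nat.card_zpowers, oy])
      hP.isPGroup (zpowers_le.2 hy.2) hW (zpowers_le.2 (hK hy.1)) (hPK.trans hK) h1 h3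
    obtain ⟨S, hS⟩ := hP.isPGroup.exists_le_sylow
    exact h4 ((H46.der_eq_bot_iff.2 (H46.comm_of_le (h2 rfl S) hS)).le.trans bot_le)
  obtain ⟨s, hs', es⟩ := hPQ.ge ⟨t, ht, rfl⟩
  have e1 : ψ ⁅y, s⁆ = ((⁅x, t⁆ : T) : H) := by rw [map_commutatorElement, ey, es]; rfl
  have h4 := cent hs hT hK (g := ⁅y, s⁆)
    (K.mul_mem (K.mul_mem (K.mul_mem hy.1 (hPK hs')) (K.inv_mem hy.1)) (K.inv_mem (hPK hs')))
    (by rw [e1]; exact Subtype.prop _) (fun e => hc (commutatorElement_eq_one_iff_commute.1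
      (Subtype.ext (e1.symm.trans e)))) (h3 (commutator_mem_commutator (mem_zpowers y) hs'))
  obtain ⟨z, hz, ez, oz⟩ := lft_prime (K := K) he inf_le_left (h4 x.2) hox hn
  obtain ⟨w, hw, ow⟩ := exists_ord_of_elem hr hW h0
  exact ⟨z, hz.1, w, hw, oz, by rw [ez]; exact x.2, ow, (mem_centralizer_iff.1 hz.2 w hw).symm⟩

theorem perf_of {H : Type*} [Group H] {T : Subgroup H} (hs : IsSimpleGroup T)
    (h : ¬ IsMulCommutative T) : ⁅T, T⁆ = T := by
  rcases (inferInstance : (_root_.commutator T).Normal).eq_bot_or_eq_top with e | e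
  · exact absurd ⟨⟨fun a b => commutatorElement_eq_one_iff_mul_comm.1
      (mem_bot.1 (e ▸ commutator_mem_commutator (mem_top a) (mem_top b)))⟩⟩ h
  · rw [← map_subtype_commutator, e, ← MonoidHom.range_eq_map, range_subtype]

theorem jobT : JobT.{u} := by
  intro G H _ _ _ ψ T K r hs hc hT h2 h3 hr r3 hd
  obtain ⟨P, W, hP, w1, w2, w3, -, w5, w6⟩ := syl hr inf_le_left (nrm_inf_ker ψ K) hd
  have hT1 : T ≤ (K ⊓ normalizer (P : Set G)).map ψ := hT.trans ((map_mono w6).trans (by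
    rw [sup_comm, map_sup_ker inf_le_right]))
  have hn : K ⊓ normalizer (P : Set G) ≤ normalizer (W : Set G) := inf_le_right.trans w5
  have fin {x v : G} (hx : x ∈ K) (hv : v ∈ K) {t : ℕ} (ht : t.Prime) (t3 : t ≠ 3) (e1 : orderOf x = 3)
      (e2 : orderOf v = t) (e3 : Commute x v) : Ord K (3 * t) := by
    have := ord_mul hx hv e3 (by rw [e1, e2]; exact (Nat.coprime_primes Nat.prime_three ht).2 t3.symm)
    rwa [e1, e2] at this
  have hWK : W ≤ K := w1.trans (hP.le.trans inf_le_left)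
  by_cases h4 : Rk 3 (K ⊓ normalizer (P : Set G))
  · obtain ⟨x, hx, v, hv, e1, e2, e3⟩ := f1 Nat.prime_three hr r3.ne h4 (ea_pg w3) w2 hn
    exact .inl (fin hx.1 (hWK hv) hr r3.ne' e1 e2 e3)
  obtain ⟨S, -, y, hy, oy, hy'⟩ := h3.resolve_left fun h => h4 (lift Nat.prime_three (by decide) hT1 h)
  by_cases h5 : 3 ∣ Nat.card ↥(K ⊓ normalizer (P : Set G) ⊓ ψ.ker)
  · obtain ⟨x, hx, ox⟩ := H46.cauchy Nat.prime_three h5
    have h6 := p1 (perf_of hs hc) hT1 Nat.prime_three (by decide) (fun h => h4 (h.mono inf_le_left)) hx ox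
    have : Finite (K.map ψ) := Finite.of_surjective _ (ψ.subgroupMap_surjective K)
    have : Finite T := Finite.of_injective _ (inclusion_injective hT)
    refine .inr fun t ht t3 hdt => ?_
    obtain ⟨v, hv, ov⟩ := exists_ord_of_map (map_inf_comap h6) (ord_of_prime ht hdt)
    exact fin hx.1.1 hv.1.1.1 ht t3 ox ov (mem_centralizer_singleton_iff.1 hv.1.2).symm
  · obtain ⟨x, hx, w, hw, e1, -, e2, e3⟩ := jobAF G H ψ T _ W 3 2 r hs hT1 Nat.prime_three Nat.prime_two hr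
      (by decide) r3.ne (by omega) (fun _ => h2) ⟨S, y, S.isPGroup', hy, oy, hy'⟩ h5 w3 w2 hn
    exact .inl (fin hx.1 (hWK hw) hr r3.ne' e1 e2 e3)

theorem jobNS : JobNS.{u} := by
  intro H _ _ T Y e hT ⟨S, hS, x, hx, ox, t, ht, hc⟩ hs hco h7
  have hYT : Y ≤ normalizer (T : Set H) := by rw [normalizer_eq_top]; exact le_top
  obtain ⟨P, -, hP⟩ := H1.exists_invariant_sylow_ge_subgroup Y T hYT hco (.inl hs) 2 ⊥ bot_le
    IsPGroup.of_bot (by rw [normalizer_eq_top]; exact le_top)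
  obtain ⟨g, rfl⟩ := MulAction.exists_smul_eq T S P
  set S' := ((g • S : Sylow 2 T) : Subgroup T).map T.subtype with hS'
  have mem (s : T) : ((g * s * g⁻¹ : T) : H) ∈ S' ↔ s ∈ (S : Subgroup T) := by
    rw [hS', ← T.subtype_apply, mem_map_iff_mem T.subtype_injective, Sylow.coe_subgroup_smul,
      mem_pointwise_smul_iff_inv_smul_mem]
    simp [mul_assoc]
  have hcard : Nat.card S' = Nat.card S := by
    rw [hS', card_map_of_injective T.subtype_injective]
    exact (Nat.card_congr (Sylow.equiv S _).toEquiv).symm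
  have he : e.Prime := by rcases hS with ⟨-, rfl⟩ | ⟨-, rfl⟩ <;> norm_num
  have hf : (Nat.card Y).Coprime (Nat.card S').factorial := Nat.coprime_of_dvd fun p hp h1 h2 => by
    have h3 := h7 p hp h1
    have h4 := hp.dvd_factorial.1 h2
    rw [hcard] at h4
    rcases hS with ⟨h5, -⟩ | ⟨h5, rfl⟩
    · omega
    · have h6 : p ≠ 7 := fun e => hp.ne_one (Nat.eq_one_of_dvd_coprimes hco h1
        (e ▸ ox ▸ orderOf_dvd_natCard x))
      obtain rfl : p = 8 := by omega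
      exact absurd hp (by norm_num)
  have hC : Y ≤ centralizer (S' : Set H) := fun y hy => by
    let φ : Y →* Equiv.Perm S' := (MulAut.toPerm S').comp (S'.normalizerMonoidHom.comp (inclusion hP))
    have h1 : φ ⟨y, hy⟩ = 1 := orderOf_eq_one_iff.1 (Nat.eq_one_of_dvd_coprimes hf
      ((orderOf_map_dvd φ _).trans (orderOf_dvd_natCard _)) (Nat.card_perm (α := S') ▸ orderOf_dvd_natCard _))
    refine mem_centralizer_iff.2 fun s hs => ?_
    have h3 := congrArg Subtype.val (DFunLike.congr_fun h1 (⟨s, hs⟩ : S'))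
    have h2 : y * s * y⁻¹ = s := h3
    exact (mul_inv_eq_iff_eq_mul.1 h2).symm
  have hx' : ((g * x * g⁻¹ : T) : H) ∈ normalizer (S' : Set H) := mem_normalizer_fintype fun n hn => by
    obtain ⟨s, -, rfl⟩ := id hn
    have h1 := (mem (g⁻¹ * s * g)).1 (by simpa [mul_assoc] using hn)
    simpa [mul_assoc] using (mem _).2 ((mem_normalizer_iff.1 hx _).1 h1)
  set x' : H := ((g * x * g⁻¹ : T) : H) with ex
  have hxT : x' ∈ T := Subtype.prop _
  obtain ⟨n, hn, hz⟩ := H1.exists_centralizer_mem_coset (N := T ⊓ centralizer (S' : Set H))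
    (H46.nrm_inf hYT (H46.nrm_cent hP)) (hco.coprime_dvd_right (card_dvd_of_le inf_le_left)) (.inl hs) x'
    fun a ha => mem_inf.2 ⟨T.mul_mem (T.inv_mem hxT) (hT.conj_mem _ hxT a), by
      have := mul_mem (H46.conj_mem_of_mem_nrm' (H46.nrm_le_nrm_cent S' hx') (hC ha)) (inv_mem (hC ha))
      simpa [mul_assoc] using this⟩
  have hnn := H46.cent_le_nrm S' hn.2
  let φ := S'.normalizerMonoidHom
  have h1 : φ ⟨n, hnn⟩ = 1 := MulEquiv.ext fun s => Subtype.ext
    (mul_inv_eq_iff_eq_mul.2 (mem_centralizer_iff.1 hn.2 s s.2).symm)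
  have := Fact.mk he
  have hxe : x' ^ e = 1 := by rw [ex, ← coe_pow, conj_pow, ← ox, pow_orderOf_eq_one]; simp
  have h2 : orderOf (φ ⟨x', hx'⟩) = e := orderOf_eq_prime (by
      rw [← map_pow, show (⟨x', hx'⟩ : normalizer (S' : Set H)) ^ e = 1 from Subtype.ext hxe,
        map_one]) fun h => hc (by
      have h3 := congrArg Subtype.val (DFunLike.congr_fun h ⟨_, (mem t).2 ht⟩)
      have h4 : (g * x * g⁻¹) * (g * t * g⁻¹) * (g * x * g⁻¹)⁻¹ = g * t * g⁻¹ := Subtype.ext h3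
      have h5 : x * t * x⁻¹ = t := (MulAut.conj g).injective (by
        rw [map_mul, map_mul, map_inv]; exact h4)
      exact mul_inv_eq_iff_eq_mul.1 h5)
  have h3 : e ∣ orderOf (x' * n) := by
    have := orderOf_map_dvd φ (⟨x', hx'⟩ * ⟨n, hnn⟩)
    rwa [map_mul, h1, mul_one, h2, ← orderOf_coe] at this
  obtain ⟨z, oz⟩ := (ord_mem (K := T ⊓ centralizer (Y : Set H))
    (mem_inf.2 ⟨T.mul_mem hxT hn.1, hz⟩)).of_dvd h3
  exact ⟨z, z.2.1, (orderOf_coe z).trans oz, z.2.2⟩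

end H35.RR
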