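import Cfsg.Agent.H70.RRSpec
import Cfsg.Agent.H70.SqHH
import Cfsg.Agent.H76.FourA3
import Cfsg.Agent.H42.OddOrder
import Cfsg.Agent.H46.Misc
import Cfsg.Agent.H48.MetaAct

/-! Row S3530: the general lemmas `KitA`, `KitB`. -/

set_option autoImplicit false

namespace H35.RR

open Cfsg Subgroup H24 H70.Sq H10.W H70.RR

universe u

section

variable {G : Type u} [Group G] [Finite G]

omit [Finite G] in
theorem ea_pg {E : Subgroup G} {p : ℕ} (h : IsElementaryAbelian p E) : IsPGroup p E :=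
  H98.isPGroup_iff_forall.2 fun x hx => ⟨1, by rw [pow_one, h.2 x hx]⟩

omit [Finite G] in
theorem ea_map {G' : Type*} [Group G'] {E : Subgroup G} {p : ℕ} (h : IsElementaryAbelian p E)
    (f : G →* G') : IsElementaryAbelian p (E.map f) :=
  ⟨by have := h.1; infer_instance, by
    rintro _ ⟨x, hx, rfl⟩
    rw [← map_pow, h.2 x hx, map_one]⟩

omit [Finite G] in
theorem rk_map {G' : Type*} [Group G'] {K : Subgroup G} {p : ℕ} (h : Rk p K) {f : G →* G'}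
    (hf : Function.Injective f) : Rk p (K.map f) :=
  let ⟨E, h1, h2, h3⟩ := h
  ⟨E.map f, map_mono h1, ea_map h2 f, fun hc =>
    h3 (isCyclic_of_surjective _ (E.equivMapOfInjective f hf).symm.surjective)⟩

theorem cyc {K P : Subgroup G} {p : ℕ} (hp : p.Prime) (h2 : p ≠ 2) (h : ¬ Rk p K) (hP : P ≤ K)
    (hg : IsPGroup p P) : IsCyclic P := by
  have := Fact.mk hp
  refine (H48.isCyclic_iff_pRankLE_one h2 hg).2 fun A hA hA' => ?_
  by_cases hc : IsCyclic A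
  · obtain ⟨g, hg⟩ := hc.exists_ofOrder_eq_natCard
    rw [← hg, pow_one]
    exact Nat.le_of_dvd hp.pos (orderOf_dvd_of_pow_eq_one (Subtype.ext (hA' g g.2)))
  · exact (h ((rk_map ⟨A, le_top, ⟨hA, hA'⟩, hc⟩ P.subtype_injective).mono
      ((map_subtype_le _).trans hP))).elim

theorem f1 {K V : Subgroup G} {p r : ℕ} (hp : p.Prime) (hr : r.Prime) (hpr : p ≠ r) (h : Rk p K)
    (hV : IsPGroup r V) (h0 : V ≠ ⊥) (hn : K ≤ normalizer (V : Set G)) :
    ∃ x ∈ K, ∃ v ∈ V, orderOf x = p ∧ orderOf v = r ∧ Commute x v := by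
  have := Fact.mk hp
  have := Fact.mk hr
  obtain ⟨E, h1, h2, h3⟩ := h
  have := h2.1
  by_contra hc
  refine h0 (le_bot_iff.1 (H1.le_of_noncyclic_centralizer_le h3 (h1.trans hn)
    (IsPGroup.coprime_card_of_ne p r hpr _ _ (ea_pg h2) hV) ⊥ fun a ha a1 => le_bot_iff.2 ?_))
  by_contra e
  obtain ⟨v, hv, ev⟩ := H46.cauchy hr
    ((H46.isPi_of_isPGroup hr (hV.to_le inf_le_left)).prime_and_dvd e).2
  exact hc ⟨a, h1 ha, v, hv.1, orderOf_eq_prime (h2.2 a ha) a1, ev,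
    (mem_centralizer_singleton_iff.1 hv.2).symm⟩

theorem hall {K : Subgroup G} (π : Set ℕ) (hs : Group.IsSolvable K) :
    ∃ L ≤ K, (∀ p : ℕ, p.Prime → (p ∣ Nat.card L ↔ p ∈ π ∧ p ∣ Nat.card K)) ∧
      (∀ X ≤ K, (∀ p : ℕ, p.Prime → p ∣ Nat.card X → p ∈ π) → ∃ k ∈ K, ∀ x ∈ X, k * x * k⁻¹ ∈ L) ∧
      (∀ n : ℕ, (∀ p : ℕ, p.Prime → p ∣ n → p ∈ π) → Ord K n → Ord L n) ∧
      (∀ p ∈ π, p.Prime → Rk p K → Rk p L) ∧
      ∀ N : Subgroup G, K ≤ N → N ≤ normalizer (K : Set G) → N ≤ K ⊔ N ⊓ normalizer (L : Set G) := by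
  obtain ⟨L, hL⟩ := H46.hall_exists π hs
  have k (X : Subgroup G) (hX : X ≤ K) (h : ∀ p : ℕ, p.Prime → p ∣ Nat.card X → p ∈ π) :
      ∃ k ∈ K, ∀ x ∈ X, k * x * k⁻¹ ∈ L := by
    obtain ⟨g, hg, e⟩ := H46.hall_cj_le hs hL h hX
    exact ⟨g, hg, fun x hx => e (H46.conj_mem_cj.2 hx)⟩
  refine ⟨L, hL.1, fun p hp => ⟨fun h => ⟨hL.2.1 p hp h, h.trans (card_dvd_of_le hL.1)⟩,
    fun h => H46.Cfsg.IsPiHallOf.prime_dvd_card hL hp h.1 h.2⟩, k, ?_, ?_,
    fun N h1 h2 => (H46.hall_frattini_arg hs ⟨h1, h2⟩ hL).ge⟩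
  · rintro _ hn ⟨x, rfl⟩
    obtain ⟨g, -, e⟩ := k (zpowers (x : G)) (zpowers_le.2 x.2)
      (by rwa [Nat.card_zpowers, orderOf_coe])
    have := ord_mem (e _ (mem_zpowers _))
    rwa [H46.orderOf_conj, orderOf_coe] at this
  · rintro p hπ hp ⟨E, h1, h2, h3⟩
    obtain ⟨g, -, e⟩ := H46.hall_cj_le hs hL (H46.isPi_of_isPGroup' hp (ea_pg h2) hπ) h1
    exact (rk_map ⟨E, le_rfl, h2, h3⟩ (H46.conj_inj g)).mono e

theorem minN {K N : Subgroup G} (hs : Group.IsSolvable N) (h0 : N ≠ ⊥)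
    (hn : K ≤ normalizer (N : Set G)) : ∃ (r : ℕ) (W : Subgroup G), r.Prime ∧ W ≤ N ∧ W ≠ ⊥ ∧
      IsElementaryAbelian r W ∧ K ⊔ N ≤ normalizer (W : Set G) := by
  obtain ⟨W, hW, hle⟩ := H46.exists_minNormal_le h0 (sup_le hn le_normalizer)
  obtain ⟨r, hr, -, he⟩ := hW.exists_elem (H46.sol_of_le hs hle)
  exact ⟨r, W, hr, hle, hW.1, he, hW.2.1⟩

omit [Finite G] in
theorem ord_mul {K : Subgroup G} {x v : G} (hx : x ∈ K) (hv : v ∈ K) (h : Commute x v)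
    (hc : (orderOf x).Coprime (orderOf v)) : Ord K (orderOf x * orderOf v) :=
  h.orderOf_mul_eq_mul_orderOf_of_coprime hc ▸ ord_mem (mul_mem hx hv)

theorem nc2 {K : Subgroup G} {p r : ℕ} (hp : p.Prime) (hr : r.Prime) (hpr : p ≠ r)
    (hs : Group.IsSolvable K) (h1 : Rk p K) (h2 : Rk r K) : Ord K (p * r) := by
  obtain ⟨L, hL, a1, -, -, a4, -⟩ := hall {p, r} hs
  have b1 := a4 p (by simp) hp h1
  have b2 := a4 r (by simp) hr h2
  have h0 : L ≠ ⊥ := by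
    rintro rfl
    obtain ⟨E, e1, -, e3⟩ := b1
    exact e3 (by rw [le_bot_iff.1 e1]; infer_instance)
  obtain ⟨s, W, hs', w1, w2, w3, w4⟩ := minN (K := L) (H46.sol_of_le hs hL) h0 le_normalizer
  have hd := ((H46.isPi_of_isPGroup hs' (ea_pg w3)).prime_and_dvd w2).2
  have hc := (Nat.coprime_primes hp hr).2 hpr
  rcases ((a1 s hs').1 (hd.trans (card_dvd_of_le w1))).1 with rfl | rfl
  · obtain ⟨x, hx, v, hv, e1, e2, e3⟩ := f1 hr hp hpr.symm b2 (ea_pg w3) w2 (le_sup_left.trans w4)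
    have := ord_mul (hL (w1 hv)) (hL hx) e3.symm (by rwa [e1, e2])
    rwa [e1, e2] at this
  · obtain ⟨x, hx, v, hv, e1, e2, e3⟩ := f1 hp hr hpr b1 (ea_pg w3) w2 (le_sup_left.trans w4)
    have := ord_mul (hL hx) (hL (w1 hv)) e3 (by rwa [e1, e2])
    rwa [e1, e2] at this

omit [Finite G] in
theorem map_inf_comap {H : Type*} [Group H] {ψ : G →* H} {K : Subgroup G} {T : Subgroup H}
    (h : T ≤ K.map ψ) : (K ⊓ T.comap ψ).map ψ = T := by
  refine le_antisymm (map_le_iff_le_comap.2 inf_le_right) fun t ht => ?_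
  obtain ⟨k, hk, rfl⟩ := h ht
  exact ⟨k, ⟨hk, ht⟩, rfl⟩

theorem lift {H : Type u} [Group H] {ψ : G →* H} {K : Subgroup G} {T : Subgroup H} {p : ℕ}
    (hp : p.Prime) (h2 : p ≠ 2) (hT : T ≤ K.map ψ) (h : Rk p T) : Rk p K := by
  have := Fact.mk hp
  obtain ⟨E, e1, e2, e3⟩ := h
  by_contra hc
  obtain ⟨P, hP⟩ := H98.exists_isSyl p (K ⊓ E.comap ψ)
  have := cyc hp h2 hc (hP.le.trans inf_le_left) hP.isPGroup
  have h3 := hP.map ψ
  rw [map_inf_comap (e1.trans hT)] at h3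
  exact e3 (h3.eq_of_isPGroup (ea_pg e2) ▸ isCyclic_of_surjective _ (ψ.subgroupMap_surjective P))

theorem k4 {m : ℕ} {K : Subgroup G} {κ : Fin 5} {p : Fin 5 → ℕ} (hn : Num m) (hs : Sub m G)
    (hK : Group.IsSolvable K) (hc : Ch m κ p) : ¬ Six K κ p := fun h6 => by
  have inj : ∀ i ≠ κ, ∀ j ≠ κ, p i = p j → i = j := fun i hi j hj e =>
    hn.uniq i j _ (hc i hi) (e ▸ hc j hj)
  refine H76.Four.st3814 K ((Finset.univ.erase κ).image p) ?_ ?_ ?_ ?_ hK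
  · rw [Finset.card_image_of_injOn fun i hi j hj => inj i (by simpa using hi) j (by simpa using hj)]
    simp
  all_goals simp only [Finset.forall_mem_image, Finset.mem_erase, Finset.mem_univ, and_true]
  · exact fun i hi => (hc i hi).1
  · exact fun i hi j hj e => h6 i j hi hj fun e' => e (by rw [e'])
  · intro i hi j hj k hk e1 e2 e3 g e
    exact hn.three i j k _ _ _ (fun e' => e1 (by rw [e'])) (fun e' => e3 (by rw [e']))
      (fun e' => e2 (by rw [e'])) (hc i hi) (hc j hj) (hc k hk) (e ▸ hs.sub K g)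

omit [Finite G] in
theorem map_sup_ker {H : Type*} [Group H] {ψ : G →* H} {M N : Subgroup G} (h : N ≤ ψ.ker) :
    (M ⊔ N).map ψ = M.map ψ := by
  rw [Subgroup.map_sup, (map_eq_bot_iff N).2 h, sup_bot_eq]

omit [Finite G] in
theorem nrm_inf_ker {H : Type*} [Group H] (ψ : G →* H) (K : Subgroup G) :
    K ≤ normalizer ((K ⊓ ψ.ker : Subgroup G) : Set G) :=
  H46.nrm_inf le_normalizer (by rw [H46.Nrm, normalizer_eq_top]; exact le_top)

theorem p1 {H : Type u} [Group H] {ψ : G →* H} {K : Subgroup G} {T : Subgroup H} {p : ℕ} {x : G}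
    (hT : ⁅T, T⁆ = T) (hK : T ≤ K.map ψ) (hp : p.Prime) (h2 : p ≠ 2) (hr : ¬ Rk p (K ⊓ ψ.ker))
    (hx : x ∈ K ⊓ ψ.ker) (ho : orderOf x = p) : T ≤ (K ⊓ centralizer {x}).map ψ := by
  have := Fact.mk hp
  obtain ⟨P, hP, hxP⟩ := H98.exists_isSyl_le (H98.isPGroup_zpowers (x := x) (p := p) (k := 1)
    (by rw [pow_one, ← ho, pow_orderOf_eq_one])) (zpowers_le.2 hx)
  have hc := cyc hp h2 hr hP.le hP.isPGroup
  rw [← hP.frattini inf_le_left (nrm_inf_ker ψ K), map_sup_ker inf_le_right] at hK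
  rw [← hT]
  refine (commutator_mono hK hK).trans ?_
  rw [← map_commutator]
  exact map_mono (le_inf ((commutator_le_self _).trans inf_le_left)
    ((H48.der_le_cent_of_isCyclic hc inf_le_right).trans (H46.cent_le_cent1 (hxP (mem_zpowers x)))))

theorem cov {H : Type u} [Group H] {ψ : G →* H} {K A : Subgroup G} {T : Subgroup H}
    (hs : Group.IsSolvable ψ.ker) (hT : T ≤ K.map ψ) (hA : A ≤ K)
    (hc : (Nat.card A).Coprime (Nat.card ↥(K ⊓ ψ.ker))) (h : A.map ψ ≤ centralizer (T : Set H)) :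
    T ≤ (K ⊓ centralizer (A : Set G)).map ψ := fun t ht => by
  obtain ⟨k, hk, rfl⟩ := hT ht
  obtain ⟨n, hn, e⟩ := H1.exists_centralizer_mem_coset (hA.trans (nrm_inf_ker ψ K)) hc
    (.inr (H46.sol_of_le hs inf_le_right)) k fun a ha => mem_inf.2 ⟨K.mul_mem (K.inv_mem hk)
      (K.mul_mem (K.mul_mem (hA ha) hk) (K.inv_mem (hA ha))), by
        have := mem_centralizer_iff.1 (h ⟨a, ha, rfl⟩) _ ht
        rw [MonoidHom.mem_ker, map_mul, map_mul, map_mul, map_inv, map_inv, ← this]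
        group⟩
  exact ⟨k * n, mem_inf.2 ⟨K.mul_mem hk hn.1, e⟩, by rw [map_mul, MonoidHom.mem_ker.1 hn.2, mul_one]⟩

theorem syl {K N : Subgroup G} {r : ℕ} (hr : r.Prime) (hN : N ≤ K) (hn : K ≤ normalizer (N : Set G))
    (hd : r ∣ Nat.card N) : ∃ P W : Subgroup G, H98.IsSyl r P N ∧ W ≤ P ∧ W ≠ ⊥ ∧
      IsElementaryAbelian r W ∧ P ≤ centralizer (W : Set G) ∧
      normalizer (P : Set G) ≤ normalizer (W : Set G) ∧ K ≤ N ⊔ K ⊓ normalizer (P : Set G) := by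
  have := Fact.mk hr
  obtain ⟨P, hP⟩ := H98.exists_isSyl r N
  have h0 : P ≠ ⊥ := fun e => hP.eq_bot_iff.1 e hd
  refine ⟨P, _, hP, (H46.omegaOne_le r (H46.Zc P)).trans inf_le_left, H46.omegaOne_ne_bot_of_isPi
    (H46.isPi_of_isPGroup hr (hP.isPGroup.to_le inf_le_left))
      (H46.zc_ne_bot_of_isPGroup hr hP.isPGroup h0), H46.elem_omegaOne_of_comm r (H46.comm_zc P),
    H46.le_cent_symm ((H46.omegaOne_le r _).trans inf_le_right),
    H46.nrm_omegaOne r (H46.nrm_zc le_rfl), ?_⟩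
  rw [sup_comm, hP.frattini hN hn]

theorem lft {H : Type u} [Group H] {ψ : G →* H} {K : Subgroup G} {h : H} (hh : h ∈ K.map ψ) :
    ∃ g ∈ K, ψ g = h ∧ ∀ p : ℕ, p.Prime → p ∣ orderOf g → p ∣ orderOf h := by
  obtain ⟨g, hg, e⟩ := hh
  induction hn : orderOf g using Nat.strong_induction_on generalizing g with
  | _ n ih =>
  by_cases k : ∀ p : ℕ, p.Prime → p ∣ orderOf g → p ∣ orderOf h
  · exact ⟨g, hg, e, k⟩
  push Not at k
  obtain ⟨p, hp, h1, h2⟩ := k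
  obtain ⟨c, hc⟩ := exists_pow_eq_self_of_coprime ((Nat.Prime.coprime_iff_not_dvd hp).2 h2)
  refine ih _ ?_ ((g ^ p) ^ c) (pow_mem (pow_mem hg _) _) (by rw [map_pow, map_pow, e, hc]) rfl
  refine (Nat.le_of_dvd (orderOf_pos _) (orderOf_pow_dvd c)).trans_lt ?_
  rw [orderOf_pow_of_dvd hp.ne_zero h1, hn]
  exact Nat.div_lt_self (hn ▸ orderOf_pos g) hp.one_lt

omit [Finite G] in
theorem cent {H : Type u} [Group H] {ψ : G →* H} {K W : Subgroup G} {T : Subgroup H} {g : G}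
    (hs : IsSimpleGroup T) (hT : T ≤ K.map ψ) (hn : K ≤ normalizer (W : Set G)) (hg : g ∈ K)
    (h1 : ψ g ∈ T) (h2 : ψ g ≠ 1) (h3 : g ∈ centralizer (W : Set G)) :
    T ≤ (K ⊓ centralizer (W : Set G)).map ψ :=
  (map_inf_cent (map_inf_comap hT) (inf_le_left.trans hn) ⟨hg, h1⟩ h2 h3).ge.trans
    (map_mono (inf_le_inf_right _ inf_le_left))

omit [Finite G] in
theorem sol {H : Type u} [Group H] [Finite H] {ψ : G →* H} {M N : Subgroup H}
    (hs : Group.IsSolvable ψ.ker) (hN : N.Normal) (ho : Odd N.index) (h : Group.IsSolvable ↥(M ⊓ N)) :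
    Group.IsSolvable (M.comap ψ) := by
  have h1 : Group.IsSolvable (M ⧸ N.subgroupOf M) :=
    H42.odd_order (ho.of_dvd_nat (relIndex_dvd_index_of_normal N M))
  have h2 : Group.IsSolvable M := Group.isSolvable_of_ker_le_range
    (inclusion (inf_le_left : M ⊓ N ≤ M)) (QuotientGroup.mk' (N.subgroupOf M)) fun x hx => by
      rw [QuotientGroup.ker_mk'] at hx
      exact ⟨⟨x, x.2, hx⟩, rfl⟩
  exact Group.isSolvable_of_ker_le_range (inclusion (ker_le_comap ψ M)) (ψ.subgroupComap M)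
    fun x hx => ⟨⟨x, congrArg Subtype.val (MonoidHom.mem_ker.1 hx)⟩, rfl⟩

end

theorem kitA : KitA.{u} :=
  ⟨cyc, f1, nc2, lift, fun h => (rk_map h (subtype_injective _)).mono (map_subtype_le _), hall, k4⟩

theorem kitB : KitB.{u} := ⟨p1, cov, syl, minN, lft, cent, sol⟩

end H35.RR
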