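import Cfsg.Agent.H78.S2Kit

/-! STD-SP chapter II, slots C3 (`ν = δ`) and SH (the shift). -/

set_option autoImplicit false
set_option linter.unusedSectionVars false

namespace H35.S2SH

open H67.UA hiding Par
open H67.SP H78.S2
open H86.SPI (ok pp hf_self hf_comm EE_mul' EE_comm EE_sq hf_smul_right' qq_dep qq_conj)

universe u

variable {n : ℕ} {F : Type} [Field F] [StarRing F] [TrivialStar F] [CharP F 2] [Finite F] [Par n F]
  {G : Type u} [Group G] {e : XU n F →* G} {y : Vn n F → Vn n F → G} {δ ν : F}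

/-- the normal form in the family of `u` -/
noncomputable def N (e : XU n F →* G) (y : Vn n F → Vn n F → G) (u a b : Vn n F) (c : F) : G :=
  y u a * e (EE u b c)

theorem N_mul (f : Fam e δ y) {u a b a' b' : Vn n F} (h1 : hf a u = 0) (h2 : hf b u = 0)
    (h3 : hf a' u = 0) (h4 : hf b' u = 0) (c c' : F) : N e y u a b c * N e y u a' b' c' =
      N e y u (a + a') (b + b') (c + hf b a' + c' + hf b' b + δ * hf a' a) := by
  have k := f.act h3 h2 (c + hf b a')
  rw [add_assoc, CharTwo.add_self_eq_zero, add_zero] at k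
  rw [N, N, N, mul_assoc, ← mul_assoc (e _), ← k, ← mul_assoc, ← mul_assoc, f.add u a a' h1 h3,
    mul_assoc, mul_assoc, ← map_mul, ← map_mul, EE_mul' h2 h4,
    Tc_mul_EE (by rw [hf_add_left, h2, h4, add_zero])]

theorem N_y (u a : Vn n F) : y u a = N e y u a 0 0 := by simp [N]

theorem N_e (f : Fam e δ y) (u b : Vn n F) (c : F) : e (EE u b c) = N e y u 0 b c := by
  simp [N, f.y0]

theorem N_cj (f : Fam e δ y) {u a b : Vn n F} (h1 : hf a u = 0) (h2 : hf b u = 0) (c : F)
    (g : XU n F) : e g * N e y u a b c * (e g)⁻¹ = N e y (ac g u) (ac g a) (ac g b) c := by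
  rw [N, N, ← f.eqv g u a h1, ← EE_conj' h2, map_mul, map_mul, map_inv]
  group

/-- `Tri` in normal form -/
theorem tri_N (f : Fam e δ y) (r : Tri e ν y) {u x u' s : Vn n F} (k : Tq u x u' s) :
    y u x * y u' s * (y u x)⁻¹ = N e y u' (s + x) (ν • x) 0 := by
  rw [f.inv k.xu, r u x u' s k, f.add0 k.fu' (hf_symm k.ux) (hf_symm k.fx), N]

theorem core (hi : Function.Injective e) (f : Fam e δ y) (r : Tri e ν y) {u x w s s' : Vn n F}
    (k : Tq u x w s) (k' : Tq x u w s') (h0 : hf s' s = 0) : ν = δ := by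
  obtain ⟨a1, a2, a3, li, a4, a5, a6⟩ := id k
  obtain ⟨-, -, -, -, b4, b5, b6⟩ := id k'
  have a1' := hf_symm a1
  have a2' := hf_symm a2
  have a3' := hf_symm a3
  have a5' := hf_symm a5
  have b5' := hf_symm b5
  have a6' : hf u s = 1 := by rw [hf_comm, a6]
  have b6' : hf x s' = 1 := by rw [hf_comm, b6]
  have o : (1 : F) + 1 = 0 := CharTwo.add_self_eq_zero 1
  have hw : w ≠ 0 := fun q => one_ne_zero (li 0 0 1 (by simp [q])).2.2
  have k'' : Tq u (x + (1 : F) • u) w (s + s') :=
    ⟨by simp [hf_add_left, a1, hf_self], a2, by simp [hf_add_right, a2, a3],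
      fun a b c q => by
        obtain ⟨q1, q2, q3⟩ := li (a + b) b c (by rw [← q]; module)
        exact ⟨by simpa [q2] using q1, q2, q3⟩,
      by simp [hf_add_left, a4, b4], by simp [hf_add_left, hf_add_right, a5, a6, b5, b6, o],
      by simp [hf_add_left, a6, b5]⟩
  have e1 := tri_N f r k
  have e2 : y u x * y w s' * (y u x)⁻¹ = N e y w s' (ν • u) 0 := by
    have q := f.qc a1' 1
    rw [one_smul] at q
    rw [f.sw' a1, ← q, show e (qq u x) * y x u * y w s' * (e (qq u x) * y x u)⁻¹ =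
      e (qq u x) * (y x u * y w s' * (y x u)⁻¹) * (e (qq u x))⁻¹ by group, tri_N f r k',
      N_cj f (by simp [hf_add_left, b4, a2']) (by simp [hf_smul_left, a2'])]
    simp [ac_qq' a1', a2, a3, hf_add_left, hf_smul_left, hf_self, a1', b5, b6, add_assoc]
  have e3 : y u x * y w (s + s') * (y u x)⁻¹ = N e y w (s + s' + x) (ν • (x + u)) 0 := by
    have q : y u x = e (Tc 1 u) * y u (x + (1 : F) • u) := by
      rw [f.sh a1, f.tc a1, ← mul_assoc, ← map_mul, Tc_sq, map_one, one_mul]
    rw [q, show e (Tc 1 u) * y u (x + (1 : F) • u) * y w (s + s') *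
      (e (Tc 1 u) * y u (x + (1 : F) • u))⁻¹ = e (Tc 1 u) * (y u (x + (1 : F) • u) * y w (s + s') *
      (y u (x + (1 : F) • u))⁻¹) * (e (Tc 1 u))⁻¹ by group, tri_N f r k'',
      N_cj f (by simp [hf_add_left, a4, b4, a2', a3']) (by simp [hf_smul_left, hf_add_left, a2', a3'])]
    simp [ac_Tc', a2, hf_add_left, hf_smul_left, hf_self, a1, a6, b5, add_assoc]
  rw [← f.add0 a4 b4 h0, show y u x * (y w s * y w s') * (y u x)⁻¹ =
    y u x * y w s * (y u x)⁻¹ * (y u x * y w s' * (y u x)⁻¹) by group, e1, e2,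
    N_mul f (by simp [hf_add_left, a4, a3']) (by simp [hf_smul_left, a3']) b4
      (by simp [hf_smul_left, a2']), N, N, add_right_comm s x, smul_add] at e3
  have q : hf (ν • x + ν • u) w = 0 := by simp [hf_add_left, hf_smul_left, a2', a3']
  have := (EE_inj' hw q q (hi (mul_left_cancel e3))).2
  simp only [hf_smul_left, hf_smul_right', hf_add_right, b6', a1', h0, b6] at this
  linear_combination this - δ * two0 F

theorem jobC3 : JobC3.{u} := by
  intro n F _ _ _ _ _ p G _ _ e t b c x z hi δ ν y f r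
  have := p.five
  have h : ∀ i j : Fin (n + 1), i.val + j.val ≠ n → hf (ev i : Vn n F) (ev j) = 0 := fun i j q => by
    rw [hf_ev, if_neg]
    rintro rfl
    have := i.2
    rw [Fin.val_rev] at q
    omega
  have h1 : ∀ i : Fin (n + 1), hf (ev i.rev : Vn n F) (ev i) = 1 := fun i => by
    rw [hf_ev, if_pos (Fin.rev_rev i).symm]
  have li : ∀ i j k : Fin (n + 1), i ≠ j → i ≠ k → j ≠ k → Li3 (ev i : Vn n F) (ev j) (ev k) :=
    fun i j k q1 q2 q3 a b c q => ⟨by simpa [ev_apply, q1, q2] using congrFun q i,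
      by simpa [ev_apply, q1.symm, q3] using congrFun q j,
      by simpa [ev_apply, q2.symm, q3.symm] using congrFun q k⟩
  refine core (u := ev ⟨0, by omega⟩) (x := ev ⟨1, by omega⟩) (w := ev ⟨2, by omega⟩) hi f r
    ⟨h _ _ ?_, h _ _ ?_, h _ _ ?_, li _ _ _ ?_ ?_ ?_, h _ _ ?_, h _ _ ?_, h1 _⟩
    ⟨h _ _ ?_, h _ _ ?_, h _ _ ?_, li _ _ _ ?_ ?_ ?_, h _ _ ?_, h _ _ ?_, h1 _⟩ (h _ _ ?_)
  all_goals first | (simp only [Fin.val_rev]; omega) | simp

theorem grp {g q : G} (h : g * g = 1) (h' : q * g = g * q) (a b : G) :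
    g * q * (a * b) * (g * q) = q * (g * a * g * (g * b * g)) * q := by
  rw [show g * a * g * (g * b * g) = g * a * (g * g) * b * g by group, h]
  nth_rewrite 1 [← h']
  simp only [mul_assoc, mul_one]

theorem shift (r : Rel e δ y) (c : F) :
    Rel e (δ + c + c ^ 2) fun u x => y u x * e (qq (c • x) u) := by
  have f := r.toFam
  have s : ∀ {u x : Vn n F}, hf x u = 0 → hf (c • x) u = 0 := fun h => by
    rw [hf_smul_left, h, mul_zero]
  refine ⟨⟨⟨fun u x h => ?_, fun a u x h => ?_⟩, fun g u x h => ?_, fun u a => ?_,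
    fun u x x' h h' => ?_⟩, fun u x u' x' h h' h1 h2 h3 h4 => ?_, fun u x u' v k => ?_⟩
  · rw [f.sw u x h, qq_smul', qq_comm u, mul_assoc, mul_assoc, ← map_mul, ← map_mul,
      EE_comm h (s h)]
  · rw [f.sm a u x h, ← qq_smul', smul_comm]
  · have := N_cj f h (s h) 0 g
    rwa [ac_smul] at this
  · rw [f.dep, smul_smul, qq_dep, map_one, mul_one]
  · have := N_mul f h (s h) h' (s h') 0 0
    rw [N, N, N] at this
    rw [this, mul_assoc, ← map_mul, EE_mul_Tc (s (by rw [hf_add_left, h, h', add_zero])), smul_add,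
      hf_smul_left, hf_smul_left, hf_smul_right', hf_comm x]
    congr 3
    ring
  · have k1 : ∀ {u x u' x' : Vn n F}, hf x u = 0 → hf x' u' = 0 → hf u' u = 0 → hf u' x = 0 →
        hf x' u = 0 → hf x' x = 0 → Commute (e (qq (c • x) u)) (y u' x') :=
      fun h h' h1 h2 h3 h4 => f.fix h' (ac_qq_fix (s h) h1 (by rw [hf_smul_right', h2, mul_zero]))
        (ac_qq_fix (s h) h3 (by rw [hf_smul_right', h4, mul_zero]))
    refine Commute.mul_left (Commute.mul_right (r.com u x u' x' h h' h1 h2 h3 h4)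
      (k1 h' h (hf_symm h1) (hf_symm h3) (hf_symm h2) (hf_symm h4)).symm)
      (Commute.mul_right (k1 h h' h1 h2 h3 h4) (Commute.map ?_ e))
    exact EE_fix (s h') 0 (ac_qq_fix (s h) h1 (by rw [hf_smul_right', h2, mul_zero]))
      (ac_qq_fix (s h) (s h3) (by rw [hf_smul_right', s h4, mul_zero]))
  · have a3 := hf_symm k.ux
    have a5 := hf_symm k.fx
    have q1 := f.cjq k.xu k.uu k.ux (s k.fu') (s k.fx)
    rw [hf_smul_left, k.fu, mul_one, N_e f u', N_y (e := e) (y := y) u',
      N_mul f (by simp) (s k.fu') (s a3) (by simp), ← N_e f u'] at q1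
    have q2 := tri_N f r.tri k
    rw [f.inv k.xu] at q2
    have q3 : (e (qq (c • x) u))⁻¹ = e (qq (c • x) u) := by
      rw [inv_eq_iff_mul_eq_one, ← map_mul, EE_sq (s k.xu), map_one]
    calc _ = e (qq (c • x) u) * (y u x * y u' v * y u x * (y u x * e (qq (c • v) u') * y u x)) *
          (e (qq (c • x) u))⁻¹ := by
          rw [q3]
          exact grp (f.sq k.xu) (f.qc k.xu c) _ _
      _ = _ := by
          have p1 : hf (v + x) u' = 0 := by rw [hf_add_left, k.fu', a3, add_zero]
          have p2 : ∀ a : F, hf (a • x) u' = 0 := fun a => by rw [hf_smul_left, a3, mul_zero]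
          change _ = N e y u' v (c • v) 0 * N e y u' x (c • x) 0 * _
          rw [q1, q2, N_mul f p1 (p2 _) (by simp [p2]) (by simp [s k.fu']),
            N_cj f (by simp [hf_add_left, k.fu', a3, p2]) (by simp [hf_add_left, p2, s k.fu']),
            N_e f u', N_mul f k.fu' (s k.fu') a3 (p2 _),
            N_mul f p1 (by simp [hf_add_left, p2, s k.fu']) (by simp) (p2 _)]
          simp only [ac_qq' (s k.xu), hf_add_left, hf_add_right, hf_smul_left, hf_smul_right',
            k.xu, k.uu, k.ux, k.fx, k.fu, a5, hf_self, hf_zero_left, hf_zero_right, mul_zero,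
            add_zero, zero_add, zero_smul, one_smul, mul_one]
          congr 1 <;> ext i <;> simp only [Pi.add_apply, Pi.smul_apply, smul_eq_mul]
          · linear_combination c * x i * two0 F
          · linear_combination -c * x i * two0 F

theorem jobSH : JobSH.{u} := by
  intro n F _ _ _ _ _ _ G _ _ e t b c x z δ y a r
  exact shift r a

end H35.S2SH
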