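import Cfsg.Agent.H78.S2Kit

/-! STD-SP chapter II, slot UM: the relations `UF` hold in the model. -/

set_option autoImplicit false
set_option linter.unusedSectionVars false

namespace H35.S2UM

open H67.UA hiding Par
open H67.SP H78.S2
open H86.SPI (ok hf_self hf_comm)
open Matrix

section Map

variable {n : ℕ} {K K' : Type} [Field K] [StarRing K] [CharP K 2] [Field K'] [StarRing K']
  [CharP K' 2] (φ : K →+* K') (h : ∀ a, star (φ a) = φ (star a))

/-- the image of a vector -/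
abbrev mv (v : Vn n K) : Vn n K' := fun i => φ (v i)

include h in
theorem hf_mv (x y : Vn n K) : hf (mv φ x) (mv φ y) = φ (hf x y) := by simp [hf, h]

theorem ac_mv (g : XU n K) (v : Vn n K) : ac (bc φ h g) (mv φ v) = mv φ (ac g v) := by
  ext i; simp [ac, mt_bc, mulVec, dotProduct, mv]

theorem mv_smul (a : K) (v : Vn n K) : mv φ (a • v) = φ a • mv φ v := by ext i; simp [mv]

theorem mv_add (v w : Vn n K) : mv φ (v + w) = mv φ v + mv φ w := by ext i; simp [mv]

theorem mv_zero : mv φ (0 : Vn n K) = 0 := by ext i; simp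

include h in
theorem ok_mv {u x : Vn n K} {c : K} (k : Ok u x c) : Ok (mv φ u) (mv φ x) (φ c) :=
  ⟨by rw [Iso, hf_mv φ h, k.iso, map_zero], by rw [hf_mv φ h, k.perp, map_zero],
    by rw [hf_mv φ h, ← k.tr, tr, h, map_add]⟩

theorem bc_EE {u x : Vn n K} {c : K} (k : Ok u x c) :
    bc φ h (EE u x c) = EE (mv φ u) (mv φ x) (φ c) := X_ext (by
  rw [mt_bc, mt_EE k, mt_EE (ok_mv φ h k)]
  ext i j
  simp [mE, op_apply, h, Matrix.one_apply, apply_ite φ])

end Map

variable {n : ℕ} {F : Type} [Field F] [StarRing F] [TrivialStar F] [CharP F 2] [Finite F] [Par n F]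
  {K : Type} [Field K] [StarRing K] [CharP K 2] {φ : F →+* K} (h : ∀ a, star (φ a) = φ (star a))

include h

theorem hf_z (x y : Vn n F) (α β : K) :
    hf (α • mv φ x) (β • mv φ y) = α * star β * φ (hf x y) := by
  rw [hf_smul_left, hf_smul_right, hf_mv φ h, mul_assoc]

theorem hf_z1 (x y : Vn n F) (α : K) : hf (α • mv φ x) (mv φ y) = α * φ (hf x y) := by
  rw [hf_smul_left, hf_mv φ h]

theorem hf_z2 (x y : Vn n F) (α : K) : hf (mv φ x) (α • mv φ y) = star α * φ (hf x y) := by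
  rw [hf_smul_right, hf_mv φ h]

theorem ok_z {u x : Vn n F} (k : hf x u = 0) (α : K) : Ok (mv φ u) (α • mv φ x) 0 :=
  ⟨by rw [Iso, hf_mv φ h, hf_self, map_zero], by rw [hf_z1 h, k, map_zero, mul_zero],
    by rw [hf_z h, hf_self]; simp⟩

theorem ok_t (u : Vn n F) (c : F) : Ok (mv φ u) 0 (φ c) :=
  ok_zero (by rw [Iso, hf_mv φ h, hf_self, map_zero]) (by rw [h, star_trivial])

theorem bc_Tc (u : Vn n F) (c : F) : bc φ h (Tc c u) = Tc (φ c) (mv φ u) := by
  rw [Tc, bc_EE φ h (ok (hf_zero_left u) c), mv_zero]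

omit h in
theorem zM_eq (u x : Vn n F) (α : K) : zM φ u x α = EE (mv φ u) (α • mv φ x) 0 := rfl

theorem uf : UF (bc (m := n) φ h) φ (zM φ) where
  eqv g u x α k := by rw [zM_eq, zM_eq, EE_conj (ok_z h k α), ac_smul, ac_mv, ac_mv]
  rat u x a k := by
    rw [zM_eq, qq, bc_EE φ h (ok (by rw [hf_smul_left, k, mul_zero]) 0), mv_smul, map_zero]
  add u x α β k := by
    rw [zM_eq, zM_eq, zM_eq, EE_mul (ok_z h k α) (ok_z h k β), hf_z h, hf_self, add_smul]; simp
  sw u x α k := by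
    rw [zM_eq, zM_eq]
    have := qq_comm (α • mv φ u) (mv φ x)
    rw [qq, qq, EE_smul, mul_zero] at this
    exact this
  sm c u x α k := by rw [zM_eq, zM_eq, mv_smul, smul_smul, mul_comm]
  dep u α c k := by rw [bc_Tc h, k, zM_eq]; exact qq_self _ _
  ad2 u x x' α c k k' hc := by
    rw [zM_eq, zM_eq, zM_eq, bc_Tc h, EE_mul (ok_z h k α) (ok_z h k' α), EE_mul
      (ok_z h (by rw [hf_add_left, k, k', add_zero]) α) (ok_t h _ _), hf_z h, mv_add, smul_add,
      map_mul, hc]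
    simp
  cm u x x' α β c k k' hc := by
    rw [zM_eq, zM_eq, bc_Tc h, EE_mul (ok_z h k α) (ok_z h k' β), EE_mul (ok_z h k' β) (ok_z h k α),
      EE_mul ((ok_z h k' β).add (ok_z h k α)) (ok_t h _ _), hf_z h, hf_z h, map_mul, hc,
      add_comm (α • _), hf_comm x, add_zero (_ + α • _)]
    refine congrArg _ ?_
    simp only [tr, star_mul', star_star, hf_zero_left]
    linear_combination -(α * star β * φ (hf x' x)) * two0 K
  com u x u' x' α β k k' h1 h2 h3 h4 := by
    rw [Commute, SemiconjBy, ← mul_inv_eq_iff_eq_mul, zM_eq, zM_eq, EE_conj (ok_z h k' β),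
      ac_EE_fix (ok_z h k α) (by simp [hf_mv φ h, h1]) (by simp [hf_z2 h, h2]),
      ac_EE_fix (ok_z h k α) (by simp [hf_z1 h, h3]) (by simp [hf_z h, h4])]
  tri u x u' f α β k := by
    have k1 := EE_inv (ok_z h k.xu α)
    rw [star_zero] at k1
    rw [zM_eq, zM_eq, zM_eq, EE_mul (ok_z h k.fu' β) (ok_z h (hf_symm k.ux) _)]
    nth_rewrite 2 [← k1]
    rw [EE_conj (ok_z h k.fu' β), ac_EE_fix (ok_z h k.xu α) (by simp [hf_mv φ h, k.uu])
      (by simp [hf_z2 h, k.ux]), ac_EE (ok_z h k.xu α), hf_z h, hf_z h, hf_z1 h, k.fx, k.fu,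
      hf_symm k.fx]
    simp [smul_smul, mul_comm]

omit h in
theorem jobUM : JobUM := by
  intro n F _ _ _ _ _ _ K _ _ _ _ x h
  refine ⟨uf _, fun u v α k => ?_⟩
  have h1 : ∀ w : Vn n F, mv (x.σ : K →+* K) (mv x.φ w) = mv x.φ w := fun w => by
    ext i; exact (x.fix _).2 ⟨_, rfl⟩
  refine (bc_EE (x.σ : K →+* K) (x.sf (Or.inr h)) (ok_z (x.st (Or.inr h)) k α)).trans ?_
  rw [zM_eq, mv_smul, h1, h1, map_zero, h]
  rfl

end H35.S2UM
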