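import Cfsg.Agent.H67.SPIII
import Cfsg.Agent.H35.S2QX

/-! STD-SP chapter III, slots GR (the graph lemma) and K (the quadratic extension). -/

set_option autoImplicit false

namespace H35.S3GK

open H67.UA hiding Par
open H67.SP
open scoped commutatorElement

universe u

theorem jobK : JobK := by
  intro F _ _ _ δ h
  obtain ⟨K, _, s, _, _, x, h1, η, h2, h3⟩ := H35.S2QX.jobQX F δ fun c k => h c (by
    linear_combination k - δ * two0 F)
  have h4 : x.σ η = η + 1 := by rw [← h1]; linear_combination h2 - η * two0 K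
  refine ⟨K, _, ‹_›, ‹_›, x, η, ⟨?_, h4⟩, ⟨starRingOfComm, fun _ => rfl⟩, s, h1⟩
  rw [← h3, nm, h1, h4]
  ring

theorem jobGR : JobGR.{u} := by
  intro Y _ G _ Γ q hP hs hk
  have := q.fin
  obtain ⟨j, hj⟩ := H21.exists_lift_of_perfect q.perf q.mult (MonoidHom.id Y) hs hk
  have h1 : Function.Surjective j := fun p => by
    have h2 : j.range ⊔ Subgroup.center Γ = ⊤ := eq_top_iff.2 fun p _ => by
      rw [show p = j p.1.1 * ((j p.1.1)⁻¹ * p) by group]
      refine Subgroup.mul_mem_sup ⟨_, rfl⟩ (hk ?_)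
      rw [MonoidHom.mem_ker, map_mul, map_inv, hj]
      exact inv_mul_cancel _
    have h3 : commutator Γ ≤ j.range := by
      rw [commutator, Subgroup.commutator_le]
      intro a _ b _
      obtain ⟨a, ha, c, hc, rfl⟩ := Subgroup.mem_sup_of_normal_right.1 (h2.ge (Subgroup.mem_top a))
      obtain ⟨b, hb, d, hd, rfl⟩ := Subgroup.mem_sup_of_normal_right.1 (h2.ge (Subgroup.mem_top b))
      have e1 := Subgroup.mem_center_iff.1 hc
      have e2 := Subgroup.mem_center_iff.1 hd
      have : ⁅a * c, b * d⁆ = ⁅a, b⁆ := by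
        rw [commutatorElement_def, commutatorElement_def, mul_assoc a, ← e1, e2 b]
        calc a * (d * b * c) * (a * c)⁻¹ * (d * b)⁻¹ = a * d * b * a⁻¹ * b⁻¹ * d⁻¹ := by group
          _ = d * (a * b * a⁻¹ * b⁻¹) * d⁻¹ := by rw [e2 a]; group
          _ = _ := by rw [← e2, mul_inv_cancel_right]
      rw [this]
      exact Subgroup.mul_mem _ (Subgroup.mul_mem _ (Subgroup.mul_mem _ ha hb) (inv_mem ha))
        (inv_mem hb)
    exact h3 (hP.ge (Subgroup.mem_top p))
  refine ⟨(MonoidHom.snd Y G).comp (Γ.subtype.comp j), fun p hp => ?_⟩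
  obtain ⟨y, hy⟩ := h1 ⟨p, hp⟩
  have h4 := hj y
  rw [hy] at h4
  change p.1 = y at h4
  rw [h4]
  change (j y).1.2 = _
  rw [hy]

end H35.S3GK
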