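import Cfsg.Agent.H67.SPIII
import Cfsg.Agent.H35.S2UM

/-! STD-SP chapter III, slot MS: the model `Sp_(2k)(q²)`. -/

set_option autoImplicit false
set_option linter.unusedSectionVars false

namespace H35.S3MS

open H67.UA hiding Par
open H67.SP H35.S2UM
open H67.SA (la cm)
open H86.SPI (ok pp hf_self hf_comm EE_mul' EE_comm EE_sq hf_smul_right' qq_dep)
open H78.S2 (ac_Tc' ac_Tc_fix ac_qq' ac_qq_fix qq_smul' EE_shift' Tc_mul Tc_sq Tc_smul' EE_mul_Tc
  EE_conj' EE_fix EE_inj' ac_EE_u)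

section Eta

variable {F K : Type} [Field F] [Field K] [CharP K 2] {x : Qx F K} {δ : F} {η : K}

theorem sig_phi (x : Qx F K) (a : F) : x.σ (x.φ a) = x.φ a := (x.fix _).2 ⟨a, rfl⟩

theorem dec (k : Eta x δ η) (c : K) : ∃ a b : F, c = x.φ a + η * x.φ b := by
  obtain ⟨b, hb⟩ := (x.fix (c + x.σ c)).1 (by rw [map_add, x.sq, add_comm])
  obtain ⟨a, ha⟩ := (x.fix (c + η * x.φ b)).1 (by
    rw [map_add, map_mul, k.sg, sig_phi, hb]
    linear_combination x.σ c * two0 K)
  exact ⟨a, b, by rw [ha]; linear_combination -(η * x.φ b) * two0 K⟩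

theorem uq (k : Eta x δ η) {a b : F} (h : x.φ a + η * x.φ b = 0) : a = 0 ∧ b = 0 := by
  have h1 := congrArg x.σ h
  rw [map_add, map_mul, k.sg, sig_phi, sig_phi, map_zero] at h1
  have h2 : x.φ b = 0 := by linear_combination h1 - h
  rw [h2, mul_zero, add_zero] at h
  exact ⟨(map_eq_zero _).1 h, (map_eq_zero _).1 h2⟩

end Eta

variable {n : ℕ} {F : Type} [Field F] [StarRing F] [TrivialStar F] [CharP F 2] [Finite F]
  [p : Par n F] {K : Type} [Field K] [StarRing K] [CharP K 2] [Finite K]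

theorem vx_eq (φ : F →+* K) (v : Vn n F) : vx φ v = mv φ v := rfl

theorem mv_ne (φ : F →+* K) {u : Vn n F} (hu : u ≠ 0) : mv φ u ≠ 0 := fun q =>
  hu (funext fun i => (map_eq_zero φ).1 (congrFun q i))

theorem mv_ev (φ : F →+* K) (i : Fin (n + 1)) : mv φ (ev i : Vn n F) = ev i := by
  ext j; simp [mv, ev_apply, apply_ite φ]

theorem par (x : Qx F K) : Par n K :=
  ⟨p.odd, p.five, fun h => by
    rw [x.card]
    exact (p.four h).trans (Nat.le_self_pow two_ne_zero _)⟩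

theorem bc_fix (x : Qx F K) (h1 : ∀ a, star (x.φ a) = x.φ (star a))
    (h2 : ∀ a, star (x.σ a) = x.σ (star a)) (g : XU n F) :
    fa x.σ h2 (bc x.φ h1 g) = bc x.φ h1 g :=
  X_ext (Matrix.ext fun _ _ => sig_phi x _)

theorem mv_sig (x : Qx F K) (w : Vn n F) : mv (x.σ : K →+* K) (mv x.φ w) = mv x.φ w :=
  funext fun _ => sig_phi x _

section Sp

variable [TrivialStar K] [Par n K]

theorem Tc3 {u v : Vn n K} (h : hf u v = 0) (a : K) :
    Tc a (u + v) * Tc a u * Tc a v = qq (a • v) u := ac_ext fun y => by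
  simp only [ac_mul, ac_Tc', ac_qq' (show hf (a • v) u = 0 by rw [hf_smul_left, hf_symm h, mul_zero]),
    hf_add_left, hf_add_right, hf_smul_left, hf_smul_right', hf_self, h, hf_symm h]
  ext i
  simp only [Pi.add_apply, Pi.smul_apply, smul_eq_mul]
  linear_combination (a * hf y u * u i + a * hf y v * v i) * two0 K

/-- the radical of the stabiliser of `u` -/
def QS (u : Vn n K) : Subgroup (XU n K) where
  carrier := {g | ∃ y c, hf y u = 0 ∧ g = EE u y c}
  one_mem' := ⟨0, 0, hf_zero_left u, (EE_zero u).symm⟩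
  mul_mem' := by
    rintro _ _ ⟨y, c, h, rfl⟩ ⟨y', c', h', rfl⟩
    exact ⟨_, _, by rw [hf_add_left, h, h', add_zero], EE_mul' h h' c c'⟩
  inv_mem' := by
    rintro _ ⟨y, c, h, rfl⟩
    exact ⟨y, c, h, inv_eq_of_mul_eq_one_right (EE_sq h c)⟩

theorem QS_fix {u u' : Vn n K} (h : hf u u' = 1) {a : XU n K} (ha : a ∈ QS u) (h' : ac a u' = u') :
    a = 1 := by
  obtain ⟨y, c, hy, rfl⟩ := ha
  rw [ac_EE (ok hy c), hf_comm u' u, h, one_smul, mul_one] at h'
  have h1 : y = 0 + (hf u' y + c) • u := by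
    ext i
    have := congrFun h' i
    simp only [Pi.add_apply, Pi.smul_apply, smul_eq_mul, Pi.zero_apply] at this ⊢
    linear_combination this - (hf u' y + c) * u i * two0 K
  have h2 := congrArg (hf u') h1
  rw [zero_add, hf_smul_right', hf_comm u' u, h] at h2
  rw [h1, EE_shift', show c = 0 by linear_combination -h2, EE_zero]

variable {φ : F →+* K} (h : ∀ a, star (φ a) = φ (star a)) {η : K}

theorem TS_eq (φ : F →+* K) (η : K) (v : Vn n F) : TS φ η v = Tc η (mv φ v) := rfl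

include h

theorem hz {u v : Vn n F} (k : hf u v = 0) : hf (mv φ u) (mv φ v) = 0 := by
  rw [hf_mv φ h, k, map_zero]

theorem hz' {u v : Vn n F} (k : hf u v = 0) (a : K) : hf (a • mv φ v) (mv φ u) = 0 := by
  rw [hf_smul_left, hz h (hf_symm k), mul_zero]

theorem sg_eq {u v : Vn n F} (k : hf u v = 0) :
    H67.SP.sg (bc φ h) (TS φ η) 0 u v = qq (η • mv φ v) (mv φ u) := by
  rw [H67.SP.sg, TS_eq, TS_eq, TS_eq, mv_add, Tc3 (hz h k)]
  simp

theorem ra : RA (bc (m := n) φ h) (TS φ η) 0 where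
  zero := by rw [TS_eq, mv_zero, Tc, EE_zero_left]
  eqv g v := by rw [TS_eq, TS_eq, Tc_conj (hf_self _) (star_trivial _), ac_mv]
  cmp u v k := by
    rw [cm, TS_eq, TS_eq, Tc_conj (hf_self _) (star_trivial _), ac_Tc_fix _ (hz h (hf_symm k))]
    simp
  sq v := by rw [TS_eq, Tc_sq]; simp
  ssq u v k := by rw [sg_eq h k, EE_sq (hz' h k η)]
  ssym u v k := by rw [sg_eq h k, sg_eq h (hf_symm k), qq_smul', qq_comm]; simp
  stau u v w k := by
    rw [sg_eq h k.uv, TS_eq]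
    exact EE_fix (hz' h k.uv η) 0 (ac_Tc_fix _ (hz h k.uw)) (ac_Tc_fix _ (hz' h (hf_symm k.vw) η))
  nadd a b u := by
    simp only [TS_eq, mv_smul, Tc_smul', Tc_mul, map_add, CharTwo.add_sq, add_mul]
    simp
  sadd u v w k := by
    rw [sg_eq h k.uv, sg_eq h k.uw, sg_eq h (by rw [hf_add_right, k.uv, k.uw, add_zero]),
      EE_mul' (hz' h k.uv η) (hz' h k.uw η), hf_z h, hf_symm k.vw, mv_add, smul_add]
    simp
  sscal a u v k := by
    rw [sg_eq h (by rw [hf_smul_left, k, mul_zero]), sg_eq h (by rw [hf_smul_right', k, mul_zero]),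
      mv_smul, mv_smul, ← qq_smul', smul_comm]
  shift a u := by
    rw [sg_eq h (by rw [hf_smul_right', hf_self, mul_zero]), mv_smul, smul_smul, qq_dep]
    simp

theorem rd {δ : F} (k : η ^ 2 + η = φ δ) : RD (bc (m := n) φ h) (TS φ η) δ where
  toRA := ra h
  mul u v w h1 h2 := by
    have h3 : hf u (v + w) = 0 := by rw [hf_add_right, h1, h2, add_zero]
    rw [sg_eq h h1, sg_eq h h2, sg_eq h h3, EE_mul' (hz' h h1 η) (hz' h h2 η), hf_z h, TS_eq,
      mv_smul, Tc_smul', bc_Tc h, EE_mul_Tc (hz' h h3 η), EE_mul_Tc (hz' h h3 η), ← map_pow, rt_sq,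
      mv_add, smul_add, star_trivial, hf_comm w, add_zero (1 : F), one_mul, map_mul, ← k]
    refine congrArg _ ?_
    linear_combination -(φ (hf v w) * η) * two0 K
  cS u v y h1 h2 := by
    have h3 : hf u (v + hf v y • y) = 0 := by rw [hf_add_right, hf_smul_right', h1, h2]; simp
    have h4 : hf ((δ * hf v y) • y) u = 0 := by rw [hf_smul_left, hf_symm h2, mul_zero]
    rw [sg_eq h h1, sg_eq h h3, TS_eq, TS_eq, EE_conj' (hz' h h1 η), ac_Tc_fix _ (hz h h2), ac_Tc',
      qq, bc_EE φ h (ok h4 0), EE_mul' (hz h h4) (hz' h h3 η), mv_smul φ _ u, Tc_smul',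
      EE_mul_Tc (by rw [hf_add_left, hz h h4, hz' h h3, add_zero]), hf_z1 h, hf_z1 h, ← map_pow,
      mul_pow, rt_sq, hf_smul_right', hf_add_left, hf_smul_left, hf_self, mv_add, mv_smul, mv_smul]
    simp only [map_mul, map_zero, map_pow, mul_zero, add_zero, ← k]
    congr 1
    · ext i
      simp only [Pi.add_apply, Pi.smul_apply, smul_eq_mul]
      linear_combination -(η * φ (hf v y) * φ (y i)) * two0 K
    · linear_combination -((η ^ 2 + η) * η * φ (hf v y) ^ 2) * two0 K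

theorem AD_le (u : Vn n F) : AD (bc φ h) (TS φ η) u ≤ QS (mv φ u) := by
  rw [AD, Subgroup.closure_le]
  rintro _ ⟨y, c, v, a, h1, h2, rfl⟩
  rw [bc_EE φ h (ok h1 c), sg_eq h h2, TS_eq, mv_smul, Tc_smul']
  exact mul_mem (mul_mem ⟨_, _, hz h h1, rfl⟩ ⟨_, _, hz' h h2 η, rfl⟩) ⟨_, _, hf_zero_left _, rfl⟩

theorem LD_le (u u' : Vn n F) : LD (bc φ h) (TS φ η) u u' ≤ Stab (mv φ u') := by
  rw [LD, Subgroup.closure_le]
  rintro _ (⟨g, -, h2, rfl⟩ | ⟨y, -, h2, rfl⟩)
  · exact (ac_mv φ h g u').trans (congrArg _ h2)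
  · exact ac_Tc_fix _ (hz h (hf_symm h2))

end Sp

omit p in
theorem jobMS : JobMS := by
  intro n F _ _ _ _ _ _ _ K _ _ _ _ x δ η k h
  have : TrivialStar K := ⟨h⟩
  have : Par n K := par x
  have h' := x.st (F := F) (Or.inl h)
  refine ⟨rd h' k.sq, bc_fix x _ _, fun v => ?_, fun u y c q => bc_EE _ _ (ok q c),
    fun u v q => sg_eq h' q, fun u y v c a hu h1 h2 q => ?_, fun u u' q a ha l hl e => ?_, dec k⟩
  · refine (bc_EE (x.σ : K →+* K) (x.sf (Or.inl h)) (ok (hf_zero_left _) η)).trans ?_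
    rw [vx_eq, mv_sig, mv_zero, bc_Tc, TS_eq, Tc_mul, map_one, add_comm 1 η, ← k.sg]
    rfl
  · have h3 : hf (mv x.φ y + η • mv x.φ v) (mv x.φ u) = 0 := by
      rw [hf_add_left, hz h' h1, hz' h' h2, add_zero]
    rw [vx_eq, vx_eq, vx_eq, EE_mul' (hz h' h1) (hz' h' h2 η), TS_eq, mv_smul, Tc_smul',
      EE_mul_Tc h3, hf_z1 h', ← EE_zero (mv x.φ u)] at q
    obtain ⟨⟨r, h4⟩, h5⟩ := EE_inj' (mv_ne _ hu) h3 (hf_zero_left _) q
    obtain ⟨r1, r2, rfl⟩ := dec k r
    have h6 : ∀ i, y i + r1 * u i = 0 ∧ v i + r2 * u i = 0 := fun i => uq k (by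
      have := congrFun h4 i
      simp only [Pi.add_apply, Pi.smul_apply, smul_eq_mul, Pi.zero_apply, map_add, map_mul] at this ⊢
      linear_combination -this)
    have h7 : y = 0 + r1 • u := funext fun i => by
      simp only [Pi.add_apply, Pi.smul_apply, smul_eq_mul, Pi.zero_apply]
      linear_combination (h6 i).1 - r1 * u i * two0 F
    have h8 : v = r2 • u := funext fun i => by
      simp only [Pi.smul_apply, smul_eq_mul]
      linear_combination (h6 i).2 - r2 * u i * two0 F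
    have h9 : hf v y = 0 := by rw [h8, hf_smul_left, hf_symm h1, mul_zero]
    obtain ⟨e1, e2⟩ := uq k (a := c) (b := a ^ 2) (by
      rw [h9, map_zero] at h5
      rw [map_pow]
      linear_combination h5)
    exact ⟨by rw [h7, EE_shift', e1, EE_zero], pow_eq_zero_iff two_ne_zero |>.1 e2, r2, h8⟩
  · refine QS_fix (u' := mv x.φ u') (by rw [hf_mv _ h', q, map_one]) (AD_le h' u ha) ?_
    rw [eq_inv_of_mul_eq_one_left e]
    exact inv_mem (LD_le h' u u' hl)

end H35.S3MS
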