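import Cfsg.Agent.H35.S3MS
import Cfsg.Agent.H59.UMFW
import Cfsg.Agent.H67.UAFQ

/-! STD-SP chapter III, slot MU: the model `SU_(2k)(q)`. -/

set_option autoImplicit false
set_option linter.unusedSectionVars false

namespace H35.S3MU

open H67.UA hiding Par
open H67.SP H35.S2UM H35.S3MS
open H86.SPI (ok pp hf_self hf_comm EE_mul' EE_comm EE_sq hf_smul_right' qq_dep)
open H78.S2 (zM ac_Tc_fix)

variable {n : ℕ} {F : Type} [Field F] [StarRing F] [TrivialStar F] [CharP F 2] [Finite F]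
  [p : Par n F] {K : Type} [Field K] [StarRing K] [CharP K 2] [Finite K] {x : Qx F K} {δ : F} {η : K}
  (k : Eta x δ η) (h : ∀ a : K, star a = x.σ a)

theorem SU_eq (φ : F →+* K) (η : K) (u v : Vn n F) : SU0 φ η u v = zM φ u v (η + 1) := rfl

include k h

theorem st1 : star (η + 1) = η := by
  rw [h, map_add, k.sg, map_one, add_assoc, CharTwo.add_self_eq_zero, add_zero]

theorem nm1 : x.φ δ = nm (η + 1) := by rw [nm, st1 k h, ← k.sq]; ring

theorem tr1 : tr (η + 1) = 1 := by rw [tr, st1 k h]; linear_combination η * two0 K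

theorem hfK : Hf K := ⟨η, fun q => one_ne_zero (by rwa [h, k.sg, add_eq_left] at q)⟩

theorem upar : H67.UA.Par n K where
  toHf := hfK k h
  five := p.five
  four q := by
    have := hfK k h
    have h1 := Q.card (K := K)
    rw [x.card] at h1
    rw [← Nat.pow_left_injective two_ne_zero h1]
    exact p.four q

theorem re : RE (bc x.φ (x.st (Or.inr h)) : XU n F →* XU n K) (SU0 x.φ η) δ := by
  have h' := x.st (F := F) (Or.inr h)
  have f := uf (n := n) h'
  have t2 := two0 K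
  refine ⟨fun g u v q => f.eqv g u v _ (hf_symm q), fun u v w q q' => ?_, fun u v q => ?_,
    fun a u v q => ?_, fun a u => ?_, fun u y z v q q' => ?_⟩
  · rw [hf_comm v]
    exact f.ad2 u v w _ δ (hf_symm q) (hf_symm q') (nm1 k h)
  · have h1 := f.rat u v 1 (hf_symm q)
    rw [one_smul] at h1
    rw [SU_eq, SU_eq, ← h1, f.add _ _ _ _ (hf_symm q), f.sw _ _ _ (hf_symm q), st1 k h, map_one,
      add_assoc, CharTwo.add_self_eq_zero, add_zero]
  · rw [SU_eq, SU_eq, zM_eq, zM_eq, mv_smul, mv_smul, EE_smul, mul_zero, h', star_trivial, smul_comm]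
  · rw [SU_eq, f.sm _ _ _ _ (hf_self u)]
    exact f.dep u _ a (by
      rw [tr, star_mul', h', star_trivial, st1 k h]; linear_combination -(x.φ a * η) * t2)
  · have h1 : hf (δ • (hf v z • y + hf v y • z)) u = 0 := by
      simp [hf_smul_left, hf_add_left, hf_symm q.uv, hf_symm q.uw]
    have h2 : hf (v + hf v y • z) u = 0 := by
      simp [hf_smul_left, hf_add_left, hf_symm q', hf_symm q.uw]
    have h3 := ok_z h' (hf_symm q.vw) (η + 1)
    rw [SU_eq, SU_eq, SU_eq, zM_eq, zM_eq, zM_eq, EE_conj (ok_z h' (hf_symm q') _),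
      ac_EE_fix h3 (by simp [hf_mv _ h', q.uv]) (by simp [hf_z2 h', q.uw]), ac_EE h3, qq,
      bc_EE _ h' (ok h1 0), EE_mul (ok_mv _ h' (ok h1 0)) (ok_z h' h2 _), hf_z h', hf_z1 h', hf_z1 h',
      st1 k h]
    simp only [mv_add, mv_smul, hf_smul_right', hf_add_left, hf_add_right, hf_smul_left, hf_self,
      hf_symm q.vw, map_zero, mul_zero, add_zero, zero_mul, zero_smul, zero_add, ← k.sq,
      mul_comm (hf v y), CharTwo.add_self_eq_zero]
    congr 1
    ext i
    simp only [Pi.add_apply, Pi.smul_apply, smul_eq_mul]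
    ring

theorem split (y : Vn n K) : ∃ a b : Vn n F, y = mv x.φ a + (η + 1) • mv x.φ b := by
  choose a b hab using fun i => dec k (y i)
  refine ⟨a + b, b, funext fun i => ?_⟩
  simp only [mv, Pi.add_apply, Pi.smul_apply, smul_eq_mul, map_add, hab i]
  linear_combination -(x.φ (b i)) * two0 K

theorem iso_iff {a b : Vn n F} (q : Iso (mv x.φ a + (η + 1) • mv x.φ b)) : hf a b = 0 := by
  have h' := x.st (F := F) (Or.inr h)
  rw [Iso, hf_add_left, hf_add_right, hf_add_right, hf_z h', hf_z1 h', hf_z2 h', hf_mv _ h', hf_self,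
    hf_self, st1 k h, hf_comm b, map_zero] at q
  exact (map_eq_zero x.φ).1 (by linear_combination q - η * x.φ (hf a b) * two0 K)

theorem TT_eq {a b : Vn n F} (q : hf a b = 0) : TT (mv x.φ a + (η + 1) • mv x.φ b) =
    SU0 x.φ η a b * bc x.φ (x.st (Or.inr h)) (Tc δ b) * bc x.φ (x.st (Or.inr h)) (TT a) := by
  have h' := x.st (F := F) (Or.inr h)
  have i1 : Iso (mv x.φ a) := (ok_z h' (hf_symm q) 0).iso
  have i2 : Iso ((η + 1) • mv x.φ b) := (ok_z h' q 0).iso.smul _
  have h1 := qq_eq_TT (⟨i1, i2, by rw [hf_z2 h', q, map_zero, mul_zero]⟩ :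
    Pp (mv x.φ a) ((η + 1) • mv x.φ b))
  have h2 : TT ((η + 1) • mv x.φ b) = Tc (x.φ δ) (mv x.φ b) := by
    rw [TT, Tc_smul, mul_one, nm1 k h]
  rw [bc_Tc h', bc_Tc h', map_one, ← h2, SU_eq, zM_eq, ← qq, h1, mul_assoc (_ * TT (mv x.φ a)),
    Tc_mul_self i2 (star_one K), mul_one, mul_assoc, Tc_mul_self i1 (star_one K), mul_one]

omit p k h in
theorem jobMU : JobMU := by
  intro n F _ _ _ _ _ p _ K _ _ _ _ x δ η k h
  have h' := x.st (F := F) (Or.inr h)
  have u := upar (n := n) k h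
  have five := p.five
  refine ⟨u, ⟨by omega, fun q => by omega⟩, re k h, H59.UM.genT _ fun y hy => ?_,
    fun g hg => H59.UM.genP _ (fun y hy => ?_) hg, bc_fix x _ _, fun a b q => ?_⟩
  · obtain ⟨a, b, rfl⟩ := split k h y
    have q := iso_iff k h hy
    rw [TT_eq k h q]
    exact mul_mem (mul_mem (Subgroup.subset_closure (Or.inr ⟨a, b, q, rfl⟩))
      (Subgroup.subset_closure (Or.inl ⟨_, rfl⟩))) (Subgroup.subset_closure (Or.inl ⟨_, rfl⟩))
  · obtain ⟨a, b, rfl⟩ := split k h y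
    have q := iso_iff k h hy.r
    have q1 := hy.p
    rw [← mv_ev x.φ, hf_add_right, hf_z2 h', hf_mv _ h', st1 k h] at q1
    obtain ⟨q2, q3⟩ := uq k q1
    rw [TT_eq k h q]
    exact mul_mem (mul_mem (Subgroup.subset_closure (Or.inr ⟨a, b, ⟨q2, q3, q⟩, rfl⟩))
      (Subgroup.subset_closure (Or.inl ⟨_, ac_Tc_fix _ q3, rfl⟩)))
      (Subgroup.subset_closure (Or.inl ⟨_, ac_Tc_fix _ q2, rfl⟩))
  · rw [SU_eq, SU_eq, (uf h').sw _ _ _ (hf_symm q)]
    exact (jobUM n F K x h).2 a b _ (hf_symm q)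

end H35.S3MU
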