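import Cfsg.Agent.H86.TP.Spec
import Cfsg.Agent.H14.FEKit

/-! Tower NF (S1308), chapter TE part 1: a collinear pair exists. -/

set_option autoImplicit false

namespace H35.TpCO

open Cfsg Subgroup MulAction H14 H98 H1.Gold H31.S2 H14.GC H14.FE H14.NF H86.TP
open scoped commutatorElement

universe u

theorem cj_OZ {G : Type u} [Group G] (g : G) (R : Subgroup G) : cj g (OZ R) = OZ (cj g R) := by
  ext z
  rw [mem_cj, mem_OZ, mem_OZ, mem_cj]
  refine and_congr_right fun _ => and_congr ⟨fun h => ?_, fun h => ?_⟩ ⟨fun h x hx => ?_, fun h x hx => ?_⟩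
  · rw [show z * z = g * (g⁻¹ * z * g * (g⁻¹ * z * g)) * g⁻¹ by group, h]; group
  · rw [show g⁻¹ * z * g * (g⁻¹ * z * g) = g⁻¹ * (z * z) * g by group, h]; group
  · have := h _ (mem_cj.1 hx)
    rw [show x * z = g * (g⁻¹ * x * g * (g⁻¹ * z * g)) * g⁻¹ by group, this]; group
  · have := h _ (conj_mem_cj (g := g) hx)
    rw [show x * (g⁻¹ * z * g) = g⁻¹ * (g * x * g⁻¹ * z) * g by group, this]; group

theorem jCO : JobCO.{u} := by
  intro ld lp rv cjq gq G _ _ Q tq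
  have : Fact (Nat.Prime 2) := ⟨Nat.prime_two⟩
  obtain ⟨Q', T, vx, ne, sT, nb, nf⟩ := tq.ex
  obtain ⟨S, -, hl, hR⟩ := exists_inv_syl (Y := Q) sT.isPGroup (sT.le.trans inf_le_right)
  have hn : T ≤ nor (S ⊓ Q) :=
    le_normalizer_inf (hl.trans le_normalizer) (sT.le.trans inf_le_right)
  have d := (ld G Q tq Q' T _ vx ne sT nb hR hn).2 nf
  have l := lp G Q Q' T _ _ d
  obtain ⟨R', P', l'⟩ := rv G Q Q' T _ _ d
  have eE := ((gq G Q tq).ld _ _ _ _ _ l).1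
  have eT := ((gq G Q' (cjq G Q tq Q' vx)).ld _ _ _ _ _ l').1
  obtain ⟨g, rfl⟩ := vx
  obtain ⟨b, hb, e⟩ := (hR.cj g).exists_cj_eq l'.sylR
  obtain ⟨y, hy, hyE⟩ := SetLike.exists_of_lt l.ltP
  have yR := ((l.mem y).1 hy).1
  refine ⟨_, ⟨_, hR, eE⟩, cj g Q, T, ⟨1, (cj_one _).symm, (cj_one _).symm⟩,
    ⟨b * g, by rw [← cj_cj, cj_eq_self_of_mem hb], ?_⟩, ne.symm, fun t ht => ?_,
    y, ⟨yR.2, l.cenE hy⟩, isPGroup_iff_forall.1 hR.isPGroup y yR, ((l.mem y).1 hy).2,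
    fun k => hyE ⟨yR, k⟩⟩
  · rw [eE, cj_OZ, ← cj_cj, e, ← eT]
  · exact mem_centralizer_iff.2 fun r hr => (mem_centralizer_iff.1 hr.2 t ht).symm

end H35.TpCO
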