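import Cfsg.Agent.H78.YUDef
import Cfsg.Agent.H54.SymTwo
import Cfsg.Agent.H57.Descent

/-! STD-SP (row S3129), endgame, unitary models: slot `CL`. -/

set_option autoImplicit false
set_option linter.unusedSectionVars false

namespace H35.YUCL

open H67 H67.UA H78.YU Matrix Module
open H67.SA (la)
open H59.UM (BB herm exists_ac isoL hf0L hfL0)

variable {m : ℕ} {K : Type} [Field K] [StarRing K] [CharP K 2] [Finite K] [Par m K]

instance charP_sa : CharP (selfAdjoint K) 2 :=
  RingHom.charP (R := selfAdjoint K) (A := K)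
    ⟨⟨⟨Subtype.val, rfl⟩, fun _ _ => rfl⟩, rfl, fun _ _ => rfl⟩ Subtype.val_injective 2

/-- `a` carries the conjugation to `y ↦ v ȳ`. -/
def Fr (v : XU m K) (a : Vn m K ≃ₗ[K] Vn m K) : Prop := ∀ y, ac v (br (a y)) = a (br y)
/-- All fixed vectors of `y ↦ v ȳ` are isotropic. -/
def Al (v : XU m K) : Prop := ∀ y, ac v (br y) = y → Iso y
/-- `F^(m+1) ≤ V` -/
def up (x : Fin (m + 1) → selfAdjoint K) : Vn m K := fun i => (x i).1

theorem br_up (x : Fin (m + 1) → selfAdjoint K) : br (up x) = up x := funext fun i => (x i).2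
theorem up_ev (j : Fin (m + 1)) : (up (Pi.single j 1) : Vn m K) = ev j := funext fun i => by
  rw [up, ev_apply, Pi.single_apply]; split_ifs <;> rfl

theorem lin_sum (f : Vn m K ≃ₗ[K] Vn m K) (y : Vn m K) : f y = ∑ j, y j • f (ev j) := by
  conv_lhs => rw [pi_eq_sum_univ' y]
  simp [map_sum, ev]

theorem frame {v : XU m K} (hv : v * ta m K v = 1) : ∃ a, Fr v a := by
  let T : Vn m K →+ Vn m K :=
    { toFun := fun y => ac v (br y)
      map_zero' := by simp
      map_add' := fun x y => by rw [br_add, ac_add] }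
  have hT : ∀ y, T y = ac v (br y) := fun _ => rfl
  have hs : ∀ (c : K) y, T (c • y) = sg K c • T y := fun c y => by
    rw [hT, hT, br_smul, ac_smul]; rfl
  obtain ⟨h, hh⟩ := H57.exists_gl_cols_mem (H57.span_fixed_eq_top (sg K)
    (orderOf_eq_prime (by rw [sq]; exact RingEquiv.ext fun a => star_star a) Q.sg_ne) two_pos T hs
    fun y => by
      change ac v (br (ac v (br y))) = y
      rw [← ac_ta, ← ac_mul, hv, ac_one, br_br])
  refine ⟨toLin'OfInv h.inv_mul h.mul_inv, fun y => ?_⟩
  rw [← hT, lin_sum _ y, lin_sum _ (br y), map_sum]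
  exact Finset.sum_congr rfl fun j _ => (hs _ _).trans (congrArg _ (hh j))

section Form

variable {v : XU m K} {a : Vn m K ≃ₗ[K] Vn m K} (h : Fr v a)
include h

theorem Fr.sym (x y : Fin (m + 1) → selfAdjoint K) :
    hf (a (up y)) (a (up x)) = hf (a (up x)) (a (up y)) := by
  rw [← hf_br, ← hf_ac v, h, h, br_up, br_up]

/-- the symmetric form on the fixed vectors -/
def Fr.fm : LinearMap.BilinForm (selfAdjoint K) (Fin (m + 1) → selfAdjoint K) :=
  LinearMap.mk₂ _ (fun x y => ⟨hf (a (up x)) (a (up y)), (star_hf _ _).trans (h.sym x y)⟩)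
    (fun x x' y => Subtype.ext (by
      change hf (a (up x + up x')) _ = _ + _
      rw [map_add, hf_add_left]))
    (fun c x y => Subtype.ext (by
      change hf (a (c.1 • up x)) _ = _ * _
      rw [map_smul, hf_smul_left]))
    (fun x y y' => Subtype.ext (by
      change hf _ (a (up y + up y')) = _ + _
      rw [map_add, hf_add_right]))
    (fun c x y => Subtype.ext (by
      change hf _ (a (c.1 • up y)) = _ * _
      rw [map_smul, hf_smul_right, c.2]))

theorem Fr.val (x y : Fin (m + 1) → selfAdjoint K) : (h.fm x y).1 = hf (a (up x)) (a (up y)) := rfl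

theorem Fr.symm (x y : Fin (m + 1) → selfAdjoint K) : h.fm x y = h.fm y x :=
  Subtype.ext (h.sym y x)

theorem Fr.nd : h.fm.Nondegenerate := by
  have k : ∀ x, (∀ y, h.fm y x = 0) → x = 0 := fun x hx => by
    have h1 : a (up x) = 0 := eq_of_hf fun z => by
      obtain ⟨z, rfl⟩ := a.surjective z
      rw [hf_zero_left]
      refine hf_symm ?_
      rw [← H59.UM.BB_apply, lin_sum a z, map_sum]
      refine Finset.sum_eq_zero fun j _ => ?_
      rw [map_smul, H59.UM.BB_apply, ← up_ev, ← h.val, hx]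
      simp
    exact funext fun i => Subtype.ext (congrFun (a.map_eq_zero_iff.1 h1) i)
  exact ⟨fun x hx => k x fun y => h.symm x y ▸ hx y, k⟩

theorem Fr.alt : h.fm.IsAlt ↔ Al v := by
  refine ⟨fun q y hy => ?_, fun q x => Subtype.ext (q _ (by rw [h, br_up]))⟩
  obtain ⟨z, rfl⟩ := a.surjective y
  rw [h] at hy
  exact congrArg Subtype.val (q fun i => ⟨z i, congrFun (a.injective hy) i⟩)

end Form

theorem cj {v w : XU m K} (hv : v * ta m K v = 1) (hw : w * ta m K w = 1) (hA : Al w ↔ Al v) :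
    ∃ g, v = g * w * (ta m K g)⁻¹ := by
  obtain ⟨a, ha⟩ := frame hv
  obtain ⟨b, hb⟩ := frame hw
  obtain ⟨φ, hφ⟩ := H54.exists_isometry_symm hb.nd hb.symm ha.nd ha.symm rfl
    (by rw [hb.alt, ha.alt, hA])
  let P : Matrix (Fin (m + 1)) (Fin (m + 1)) K := of fun i j => (φ (Pi.single j 1) i).1
  have hP : ∀ y, br (P *ᵥ y) = P *ᵥ br y := fun y => funext fun i => by
    simp only [br, mulVec, dotProduct, star_sum, star_mul', P, of_apply]
    exact Finset.sum_congr rfl fun j _ => by rw [(φ _ i).2]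
  let L : Vn m K →ₗ[K] Vn m K := a ∘ₗ toLin' P
  have hL : ∀ y, L y = a (P *ᵥ y) := fun _ => rfl
  have h1 : ∀ x y, hf (L x) (L y) = hf (b x) (b y) := fun x y => by
    have e : ((BB m K).comp L).compl₂ L = ((BB m K).comp (b : Vn m K →ₗ[K] Vn m K)).compl₂ b :=
      LinearMap.ext_basis (Pi.basisFun K _) (Pi.basisFun K _) fun i j => by
        have k : ∀ i, L (Pi.basisFun K _ i) = a (up (φ (Pi.single i 1))) := fun i => by
          rw [hL, Pi.basisFun_apply, mulVec_single_one]; rfl
        change hf (L _) (L _) = hf (b _) (b _)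
        rw [k, k, ← ha.val, hφ, hb.val, up_ev, up_ev, Pi.basisFun_apply, Pi.basisFun_apply]; rfl
    exact LinearMap.congr_fun₂ e y x
  have h2 : ∀ x y, hf ((L ∘ₗ b.symm.toLinearMap) x) ((L ∘ₗ b.symm.toLinearMap) y) = hf x y := fun x y => by simp [h1]
  let G := LinearEquiv.ofInjectiveEndo (L ∘ₗ b.symm.toLinearMap) fun x y e =>
    eq_of_hf fun z => by rw [← h2 x, e, h2]
  have hG : ∀ z, G (b z) = a (P *ᵥ z) := fun z =>
    (congrArg L (b.symm_apply_apply z)).trans (hL z)
  have h3 : ∀ y, ac v (br (G y)) = G (ac w (br y)) := fun y => by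
    obtain ⟨z, rfl⟩ := b.surjective y
    rw [hb, hG, hG, ha, hP]
  have hi : G ∈ H59.isom (BB m K) := fun x y => h2 y x
  have h4 := (herm m K).det_norm_one hi
  let M := LinearMap.toMatrix' (G : Vn m K →ₗ[K] Vn m K)
  have h5 : mt v * M.map (starRingEnd K) = M * mt w := Matrix.ext fun i j => by
    have := congrFun (h3 (ev j)) i
    rw [br_ev, lin_sum G (ac w _)] at this
    simp only [Finset.sum_apply, Pi.smul_apply, ac_ev, smul_eq_mul] at this
    simpa [ac, mulVec, dotProduct, br, mul_apply, M, ev, mul_comm, starRingEnd_apply] using this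
  have h6 := congrArg det h5
  rw [det_mul, det_mul, mt_det, mt_det, one_mul, mul_one, ← RingHom.mapMatrix_apply,
    ← RingHom.map_det, LinearMap.det_toMatrix', ← LinearEquiv.coe_det] at h6
  rw [h6] at h4
  obtain ⟨g, hg⟩ := exists_ac (g := G) ⟨hi, Units.ext (by
    have : ((LinearEquiv.det G : Kˣ) + 1 : K) ^ 2 = 0 := by
      linear_combination h4 + ((LinearEquiv.det G : Kˣ) + 1 : K) * two0 K
    rw [Units.val_one]
    linear_combination (pow_eq_zero_iff two_ne_zero).1 this - two0 K)⟩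
  refine ⟨g, eq_mul_inv_of_mul_eq (ac_ext fun y => ?_)⟩
  rw [← br_br y, ac_mul, ac_mul, ac_ta, hg, hg, h3]

theorem al_one (hm : Even (m + 1)) : Al (1 : XU m K) := fun y hy => by
  rw [ac_one] at hy
  have k : ∀ i, star (y i) = y i := congrFun hy
  refine Finset.sum_ninvolution Fin.rev (fun i => ?_) (fun i _ e => ?_) (by simp) (by simp)
  · rw [Fin.rev_rev, k, k, mul_comm, CharTwo.add_self_eq_zero]
  · obtain ⟨r, hr⟩ := hm
    have := i.2
    rw [Fin.ext_iff, Fin.val_rev] at e; omega

theorem not_al : ¬ Al (r0 m K) := fun q => by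
  obtain ⟨η, hη⟩ := Q.eta (K := K)
  have i0 : hf (ev 0 : Vn m K) (ev 0) = 0 := H59.UM.iso0
  have iL : hf (ev (la m) : Vn m K) (ev (la m)) = 0 := isoL
  have := q (ev (la m) + η • ev 0) (by
    rw [ac_Tc i0 (star_one K), br_add, br_smul, br_ev, br_ev, hf_add_left, hf_smul_left, hfL0, i0,
      add_assoc, ← add_smul]
    congr 2
    linear_combination hη - (η - 1) * two0 K)
  simp only [Iso, hf_add_left, hf_add_right, hf_smul_left, hf_smul_right, i0, iL, hf0L,
    hfL0] at this
  exact one_ne_zero (by linear_combination this - hη)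

omit [Par m K] in
theorem jobCL : H78.YU.JobCL := by
  intro m K _ _ _ _ _ v hv
  by_cases q : Al v
  · obtain ⟨a, ha⟩ := frame hv
    have e := H54.even_finrank_of_isAlt ha.nd (ha.alt.2 q)
    obtain ⟨g, hg⟩ := cj (w := 1) hv (by simp) (iff_of_true (al_one (by simpa using e)) q)
    exact ⟨g, Or.inl (by simpa using hg)⟩
  · have i0 : Iso (ev 0 : Vn m K) := H59.UM.iso0
    obtain ⟨g, hg⟩ := cj (w := r0 m K) hv (by
      rw [ta_EE (ok_zero i0 (star_one K)), br_ev, br_zero, star_one]
      exact Tc_mul_self i0 (star_one K)) (iff_of_false not_al q)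
    exact ⟨g, Or.inr hg⟩

end H35.YUCL
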