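import Cfsg.Agent.H78.YUDef
import Cfsg.Agent.H59.S3MU1

/-! STD-SP (row S3129), endgame, unitary models: slot `G1`. -/

set_option autoImplicit false
set_option linter.unusedSectionVars false

namespace H35.YUG1

open H67 H67.UA H64.YE H78.YU Subgroup
open H67.SP (Qx bc mid iv ins vx)
open H59.S3MU1 (key vx_add)

theorem jobG1 : JobG1 := by
  intro n F _ _ _ _ _ p b _ _ K _ _ _ _ x h f0 i1 f1 g0 η hη H hH hE
  have p0 := par0 n x h
  have p1 := par1 n x h
  have t2 := two0 K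
  have se : star η = η + 1 := by linear_combination hη - η * t2
  have mi : ∀ v : Vn n K, hf (ev (mid n)) (iv v) = 0 := fun v => hf_symm (i1.hm v)
  have o : ∀ v : Vn n K, Iso v → Ok (iv v) (ev (mid n)) η := fun v hv =>
    ⟨by rw [Iso, i1.hh, hv], mi v, by rw [i1.mm, hη]⟩
  have i0 : Iso (ev 0 : Vn n K) := ev_iso (by
    have := p.five
    rw [ne_eq, Fin.ext_iff, Fin.val_rev, Fin.val_zero]; omega)
  have cj : ∀ y : XU n K, ins n K y ∈ H → EE (iv (ac y (ev 0))) (ev (mid n)) η ∈ H := fun y hy => by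
    have := mul_mem (mul_mem hy hE) (inv_mem hy)
    rwa [← i1.e0, EE_conj (o _ i0), (i1.isIns y).1, (i1.isIns y).2] at this
  have hU : ∀ g, ins n K (iU n x h g) ∈ H := fun g => f1.sq g ▸ hH ⟨g, rfl⟩
  have hT : ∀ v : Vn n F, EE (iv (vx x.φ v)) (ev (mid n)) η ∈ H := fun v => by
    by_cases hv : v = 0
    · rw [hv, H59.S3MU1.vx_zero, H59.S3MU1.iv_zero, EE_zero_left]; exact one_mem H
    · obtain ⟨g, rfl⟩ := SP.FW.w1 v hv
      rw [← f0.ac, f0.ve]
      exact cj _ (hU g)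
  have iso : ∀ v : Vn n F, Iso (vx x.φ v) := fun v => by rw [Iso, f0.hv, SP.FV.iso v, map_zero]
  have hT1 : ∀ v : Vn n F, Tc 1 (iv (vx x.φ v)) ∈ H := fun v => by
    have := hU (Tc 1 v)
    rwa [f0.ee _ _ _ _ (ok_zero (SP.FV.iso v) (star_one F)), H59.S3MU1.vx_zero, map_one,
      i1.ee _ _ _ (ok_zero (iso v) (star_one K)), H59.S3MU1.iv_zero] at this
  have h01 : hf (ev 0 : Vn n F) (ev 1) = 0 := by
    have := p.five
    rw [hf_ev, if_neg]
    rw [Fin.ext_iff, Fin.val_rev, Fin.val_zero, Fin.val_one', Nat.mod_eq_of_lt (by omega)]; omega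
  have pp : Pp (vx x.φ (ev 0 : Vn n F)) (vx x.φ (ev 1)) := ⟨iso _, iso _, by rw [f0.hv, h01, map_zero]⟩
  have o2 : Ok (vx x.φ (ev 0 : Vn n F)) ((η + 1) • vx x.φ (ev 1)) 0 := by
    simpa using (pp.smul 1 (η + 1)).ok
  have hI : ∀ y, ins n K y ∈ H := fun y => by
    have := g0 (η + 1) (by rw [tr, star_add, star_one]; linear_combination hη + t2)
      (H.comap (ins n K)) (by rintro _ ⟨g, rfl⟩; exact hU g) (by
        rw [mem_comap, ← f0.ve n 0, ← f0.ve n 1, i1.ee _ _ _ o2, i1.smul,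
          ← key se ⟨(o _ pp.l).iso, (o _ pp.r).iso, by rw [i1.hh, pp.p]⟩ (mi _) (mi _) i1.mm,
          ← i1.add, ← vx_add]
        exact mul_mem (mul_mem (mul_mem (hT _) (hT _)) (hT _)) (mul_mem (hT1 _) (hT1 _)))
    exact mem_comap.1 (this ▸ mem_top y)
  have hY : ∀ y : Vn n K, y ≠ 0 → Iso y → EE (iv y) (ev (mid n)) η ∈ H := fun y hy hi => by
    obtain ⟨g, hg⟩ := (base n K).w1 y hy hi
    exact hg ▸ cj _ (hI g)
  have hX : ∀ y : Vn n K, Iso (iv y) → TT (iv y) ∈ H := fun y hy => by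
    rw [Iso, i1.hh] at hy
    have := hI (TT y)
    rwa [i1.ee _ _ _ (ok_zero hy (star_one K)), H59.S3MU1.iv_zero] at this
  refine (base (n + 1) K).genT H fun v hv => ?_
  obtain ⟨w, a, rfl⟩ := i1.dec v
  by_cases ha : a = 0
  · rw [ha, zero_smul, add_zero] at hv ⊢
    exact hX w hv
  have hw : w ≠ 0 := by
    rintro rfl
    rw [Iso, H59.S3MU1.iv_zero, zero_add, hf_smul_left, hf_smul_right, i1.mm] at hv
    exact ha (by simpa using hv)
  obtain ⟨i, hi⟩ := Function.ne_iff.1 hw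
  have ii : Iso (ev i.rev : Vn n K) := ev_iso (by
    obtain ⟨k, hk⟩ := p.odd
    have := i.2
    rw [Fin.rev_rev, ne_eq, Fin.ext_iff, Fin.val_rev]; omega)
  have iy := ii.smul (star (a / w i))
  have e1 : hf w (star (a / w i) • ev i.rev) = a := by
    rw [hf_smul_right, star_star, hf_ev_right, Fin.rev_rev, div_mul_cancel₀ _ hi]
  have hy : star (a / w i) • (ev i.rev : Vn n K) ≠ 0 := fun e => ha (by rw [← e1, e, hf_zero_right])
  generalize star (a / w i) • (ev i.rev : Vn n K) = y at iy e1 hy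
  have e2 : ac (EE (iv y) (ev (mid n)) η) (iv w + a • ev (mid n)) = iv (w + (a + η * a) • y) := by
    rw [ac_EE (o y iy)]
    simp only [hf_add_left, hf_smul_left, i1.hm, i1.mm, i1.hh, mi, e1, i1.add, i1.smul]
    ext j
    simp only [Pi.add_apply, Pi.smul_apply, smul_eq_mul]
    linear_combination a * ev (mid n) j * t2
  have h1 := hX _ (e2 ▸ hv.ac _)
  rw [← e2, TT, ← Tc_conj hv (star_one K)] at h1
  have h2 := hY y hy iy
  simpa [mul_assoc] using mul_mem (mul_mem (inv_mem h2) h1) h2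

end H35.YUG1
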